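import Cfsg.Agent.Omega.OM.WOne

/-!
# TEXT R1 (#14539), (1), over a general pair `(B, Z_J)`

`WOne.lean` with `B`, `ZJ` in place of `bau S`, `zj S`: `B` is a Sylow 2-subgroup of `C_G(ZJ)`.

* `syl_B` : `B = S ∩ C(ZJ)`, `S ≤ N(ZJ)` imply that `B` is a Sylow 2-subgroup of `C_G(ZJ)`;
* `InG.W_le` : `O₂(N_G(Z₁)) ≤ B`;  `InG.V_le` : `V₁ ≤ O₂(N_G(Z₁))`;  `InG.W1_comm`.
-/

set_option autoImplicit false
set_option linter.unusedSectionVars false

namespace Cfsg.Agent.Omega.OM.WOneG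

open Subgroup Cfsg Cfsg.Agent.ZN Cfsg.Agent.ZN.ChoiceBase
open Cfsg.Agent.ZN.ChoiceSit (Syl exists_syl syl_conj)
open Cfsg.Agent.MinSimple.VModule (o2_isPGroup)
open Cfsg.Agent.Omega.OM.WOne (le_syl X)

universe u

variable {G : Type u} [Group G] [Finite G]

/-- `B = C_S(Z_J)` is a Sylow 2-subgroup of `C_G(Z_J)`. -/
theorem syl_B (S : Sylow 2 G) {B ZJ : Subgroup G} (hB : B = (S : Subgroup G) ⊓ centralizer (ZJ : Set G))
    (hS : (S : Subgroup G) ≤ normalizer (ZJ : Set G)) : Syl B (centralizer (ZJ : Set G)) := by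
  have : Fact (Nat.Prime 2) := ⟨Nat.prime_two⟩
  subst hB
  refine ⟨inf_le_right, S.isPGroup'.to_le inf_le_left, fun Q hQ hQ2 hBQ => ?_⟩
  set D : Subgroup G := centralizer (ZJ : Set G) with hD
  set N : Subgroup G := normalizer (ZJ : Set G) with hN
  have hDN : D ≤ N := centralizer_le_normalizer _
  have hSy : Syl (S : Subgroup G) N := ⟨hS, S.isPGroup', fun _ _ hT hST => S.is_maximal' hT hST⟩
  obtain ⟨T, hT, hQT⟩ := exists_syl hQ2 (hQ.trans hDN)
  obtain ⟨x, hx, hxS⟩ := syl_conj hSy hT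
  have hxD : cj x D = D := by
    rw [hD, cj_centralizer, cj_eq_of_mem_normalizer hx]
  have h1 : cj x ((S : Subgroup G) ⊓ D) = T ⊓ D := by
    rw [cj_inf, hxS, hxD]
  symm
  apply Subgroup.eq_of_le_of_card_ge hBQ
  calc Nat.card Q ≤ Nat.card (T ⊓ D : Subgroup G) := Subgroup.card_le_of_le (le_inf hQT hQ)
    _ = Nat.card (cj x ((S : Subgroup G) ⊓ D)) := by rw [h1]
    _ = Nat.card ((S : Subgroup G) ⊓ D : Subgroup G) := card_cj _ _

/-- The input of (1). -/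
structure InG {ι : Type*} (B ZJ Z₁ V₁ N : Subgroup G) (Vj : ι → Subgroup G) : Prop where
  char : IsCharacteristicTwoType G
  syl : Syl B (centralizer (ZJ : Set G))
  sq : ∀ z ∈ Z₁, z ^ 2 = 1
  ne : Z₁ ≠ ⊥
  Z1J : Z₁ ≤ ZJ
  ZJle : ZJ ≤ Z₁ ⊔ ⨆ j, Vj j
  /-- LEMMA K -/
  K : ∀ j, Vj j ≤ o2 (normalizer (Z₁ : Set G)) ⊓ centralizer (o2 (normalizer (Z₁ : Set G)) : Set G)
  NN : N ≤ normalizer (Z₁ : Set G)
  irr : ∀ U ≤ Z₁, N ≤ normalizer (U : Set G) → U ≠ ⊥ → Z₁ ≤ U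
  V1S : V₁ ≤ centralizer (Z₁ : Set G)
  comm : ∀ v ∈ V₁, ∀ b ∈ B, v * b * v⁻¹ * b⁻¹ ∈ Z₁

namespace InG

variable {ι : Type*} {B ZJ Z₁ V₁ N : Subgroup G} {Vj : ι → Subgroup G} (h : InG B ZJ Z₁ V₁ N Vj)
include h

theorem Z1_sq : ∀ z ∈ Z₁, z ^ 2 = 1 := h.sq

theorem Z1_two : IsPGroup 2 Z₁ := fun z => ⟨1, Subtype.ext (by rw [pow_one]; exact h.sq z z.2)⟩

theorem char2 : normalizer (Z₁ : Set G) ⊓ centralizer (o2 (normalizer (Z₁ : Set G)) : Set G) ≤
    o2 (normalizer (Z₁ : Set G)) := by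
  have h1 := h.char.2 Z₁ h.Z1_two h.ne
  rintro x ⟨hx, hxc⟩
  have h2 : (⟨x, hx⟩ : normalizer (Z₁ : Set G)) ∈
      centralizer (pCore 2 (normalizer (Z₁ : Set G)) : Set (normalizer (Z₁ : Set G))) := by
    rw [mem_centralizer_iff]
    intro y hy
    refine Subtype.ext ?_
    exact mem_centralizer_iff.mp hxc (y : G) ⟨y, hy, rfl⟩
  exact ⟨⟨x, hx⟩, h1 h2, rfl⟩

/-- `O₂(N_G(Z₁))` centralises `Z₁`. -/
theorem W_cent : o2 (normalizer (Z₁ : Set G)) ≤ centralizer (Z₁ : Set G) := by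
  have : Fact (Nat.Prime 2) := ⟨Nat.prime_two⟩
  set W := o2 (normalizer (Z₁ : Set G)) with hW
  have hWn : W ≤ normalizer (Z₁ : Set G) := MinSimple.VModule.o2_le _
  have h1 := PLocal.OffenderStep.inf_centralizer_ne_bot Z₁ W h.Z1_two (o2_isPGroup _) hWn h.ne
  have h2 : N ≤ normalizer ((Z₁ ⊓ centralizer (W : Set G) : Subgroup G) : Set G) := by
    intro n hn
    rw [mem_normalizer_iff_cj, cj_inf, cj_centralizer, mem_normalizer_iff_cj.1 (h.NN hn),
      cj_eq_of_mem_normalizer (MinSimple.VModule.le_normalizer_o2 _ (h.NN hn))]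
  have h3 := h.irr _ inf_le_left h2 h1
  rw [le_centralizer_iff]
  exact h3.trans inf_le_right

/-- `O₂(N_G(Z₁)) ≤ B`. -/
theorem W_le : o2 (normalizer (Z₁ : Set G)) ≤ B := by
  set W := o2 (normalizer (Z₁ : Set G)) with hW
  have h1 : W ≤ centralizer (ZJ : Set G) := by
    rw [le_centralizer_iff]
    refine h.ZJle.trans (sup_le ?_ (iSup_le fun j => (h.K j).trans inf_le_right))
    rw [le_centralizer_iff]
    exact h.W_cent
  refine le_syl h.syl (o2_isPGroup _) h1 ?_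
  have h2 : centralizer (ZJ : Set G) ≤ normalizer (Z₁ : Set G) :=
    (centralizer_le h.Z1J).trans (centralizer_le_normalizer _)
  exact h2.trans (MinSimple.VModule.le_normalizer_o2 _)

theorem X_le_o2 : X Z₁ ≤ o2 (normalizer (Z₁ : Set G)) := by
  have hXn : X Z₁ ≤ normalizer (Z₁ : Set G) := fun x hx => centralizer_le_normalizer _ hx.1
  refine MinSimple.VModule.le_o2 hXn ?_ ?_
  · -- the squares centralise `W`
    rintro ⟨x, hx⟩
    have h1 : x ^ 2 ∈ o2 (normalizer (Z₁ : Set G)) := by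
      refine h.char2 ⟨pow_mem (hXn hx) 2, mem_centralizer_iff.2 fun w hw => ?_⟩
      have h2 := hx.2 w hw
      set c := x * w * x⁻¹ * w⁻¹ with hc
      have hcx : c * x = x * c := mem_centralizer_iff.1 hx.1 c h2
      have hc2 : c * c = 1 := by rw [← pow_two]; exact h.Z1_sq c h2
      have e1 : x * w = c * w * x := by rw [hc]; group
      calc w * x ^ 2 = (c * c) * w * x ^ 2 := by rw [hc2, one_mul]
        _ = c * (c * w * x) * x := by rw [pow_two]; group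
        _ = c * (x * w) * x := by rw [e1]
        _ = (c * x) * (w * x) := by group
        _ = x * (c * w * x) := by rw [hcx]; group
        _ = x * (x * w) := by rw [e1]
        _ = x ^ 2 * w := by rw [pow_two, mul_assoc]
    obtain ⟨k, hk⟩ := o2_isPGroup (normalizer (Z₁ : Set G)) ⟨x ^ 2, h1⟩
    refine ⟨k + 1, Subtype.ext ?_⟩
    have h2 := congrArg Subtype.val hk
    simp only [Subgroup.coe_pow, Subgroup.coe_one] at h2 ⊢
    rw [pow_succ', pow_mul]
    exact h2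
  · -- `X` is normal in `N_G(Z₁)`
    have key : ∀ g ∈ normalizer (Z₁ : Set G), ∀ x ∈ X Z₁, g * x * g⁻¹ ∈ X Z₁ := by
      rintro g hg x ⟨hx1, hx2⟩
      refine ⟨mem_centralizer_iff.2 fun z hz => ?_, fun w hw => ?_⟩
      · have h1 : g⁻¹ * z * g ∈ Z₁ := by
          have := (mem_normalizer_iff.1 (inv_mem hg) z).1 hz
          rwa [inv_inv] at this
        have h2 := mem_centralizer_iff.1 hx1 _ h1
        calc z * (g * x * g⁻¹) = g * ((g⁻¹ * z * g) * x) * g⁻¹ := by group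
          _ = g * (x * (g⁻¹ * z * g)) * g⁻¹ := by rw [h2]
          _ = g * x * g⁻¹ * z := by group
      · have h1 : g⁻¹ * w * g ∈ o2 (normalizer (Z₁ : Set G)) := by
          have := (mem_normalizer_iff.1 (inv_mem (MinSimple.VModule.le_normalizer_o2 _ hg)) w).1 hw
          rwa [inv_inv] at this
        have h2 := (mem_normalizer_iff.1 hg _).1 (hx2 _ h1)
        have e : g * x * g⁻¹ * w * (g * x * g⁻¹)⁻¹ * w⁻¹ =
            g * (x * (g⁻¹ * w * g) * x⁻¹ * (g⁻¹ * w * g)⁻¹) * g⁻¹ := by group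
        rw [e]
        exact h2
    intro g hg
    rw [mem_normalizer_iff]
    refine fun x => ⟨key g hg x, fun hx => ?_⟩
    have h1 := key g⁻¹ (inv_mem hg) _ hx
    have e : g⁻¹ * (g * x * g⁻¹) * g⁻¹⁻¹ = x := by group
    rwa [e] at h1

/-- `V₁ ≤ O₂(N_G(Z₁))`. -/
theorem V_le : V₁ ≤ o2 (normalizer (Z₁ : Set G)) :=
  fun v hv => h.X_le_o2 ⟨h.V1S hv, fun w hw => h.comm v hv w (h.W_le hw)⟩

/-- `V = V₁ ∏ V_j ≤ O₂(N_G(Z₁))`. -/
theorem V_le' : V₁ ⊔ ⨆ j, Vj j ≤ o2 (normalizer (Z₁ : Set G)) :=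
  sup_le h.V_le (iSup_le fun j => (h.K j).trans inf_le_left)

/-- **`⟨V^{N_G(Z₁)}⟩` is abelian**, for every `V ≤ O₂(N_G(Z₁))` normalised by `B`. -/
theorem W1_comm {V : Subgroup G} (hV : V ≤ o2 (normalizer (Z₁ : Set G)))
    (hBV : B ≤ normalizer (V : Set G))
    (noff : ∀ g : G, V ≤ normalizer ((cj g V : Subgroup G) : Set G) → cj g V ≤ normalizer (V : Set G) →
      V ≤ centralizer ((cj g V : Subgroup G) : Set G))
    {a b : G} (ha : a ∈ normalizer (Z₁ : Set G)) (hb : b ∈ normalizer (Z₁ : Set G)) :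
    cj a V ≤ centralizer ((cj b V : Subgroup G) : Set G) := by
  set W := o2 (normalizer (Z₁ : Set G)) with hW
  have hWx : ∀ x ∈ normalizer (Z₁ : Set G), cj x W = W := fun x hx =>
    cj_eq_of_mem_normalizer (MinSimple.VModule.le_normalizer_o2 _ hx)
  have key : ∀ x ∈ normalizer (Z₁ : Set G), V ≤ centralizer ((cj x V : Subgroup G) : Set G) := by
    intro x hx
    apply noff
    · have h1 : W ≤ normalizer ((cj x V : Subgroup G) : Set G) := by
        rw [← cj_normalizer, ← hWx x hx]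
        exact cj_mono x (h.W_le.trans hBV)
      exact hV.trans h1
    · have h1 := cj_mono x hV
      rw [hWx x hx] at h1
      exact h1.trans (h.W_le.trans hBV)
  have h1 := key (a⁻¹ * b) (mul_mem (inv_mem ha) hb)
  have h2 := cj_mono a h1
  rw [cj_centralizer, cj_cj, mul_inv_cancel_left] at h2
  exact h2

end InG

end Cfsg.Agent.Omega.OM.WOneG
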