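import Cfsg.Agent.Omega.SQ1.FFSymMain
import Cfsg.Agent.Omega.SQ1.FFKNat
import Cfsg.Agent.Omega.FFThmM

/-!
# The module data `SyT` of `SymK` for a minimal parabolic

`SQ1.FFSym.syT` with `MinH H T` (= `Syl T H`, `IsMinPar T H`, characteristic 2) and `J(T) ≰ O₂(H)` in place of the
configuration of SQ1.
-/

set_option autoImplicit false
set_option linter.unusedVariables false

namespace Cfsg.Agent.Omega.OM

open Subgroup Cfsg Cfsg.Agent.PLocal.ThompsonJ Cfsg.Agent.ZN Cfsg.Agent.ZN.ChoiceBase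
open Cfsg.Agent.ZN.ChoiceSit
open Cfsg.Agent.Omega.SQ1.FFOne Cfsg.Agent.Omega.SQ1.VOf Cfsg.Agent.Omega.SQ1.FFSym
open Cfsg.Agent.Omega.FFThm (ActsSym SymK NoOver Off)
open Cfsg.Agent.Omega.SQ1.BauS (Sim)
open Cfsg.Agent.Omega.FrameFF (cv)


universe v

variable {G : Type v} [Group G]

section noover

variable {H V D A : Subgroup G} {k n : ℕ} {o : Fin n} {e : G → Fin k → Fin n → ZMod 2}

theorem swap_eq {x y z : Fin n} (hxy : x ≠ y) (hxz : x ≠ z)
    (h : Equiv.swap x y * Equiv.swap x z = Equiv.swap x z * Equiv.swap x y) : y = z := by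
  by_contra hyz
  have h1 := congrArg (fun p : Equiv.Perm (Fin n) => p x) h
  simp only [Equiv.Perm.mul_apply, Equiv.swap_apply_left] at h1
  rw [Equiv.swap_apply_of_ne_of_ne hxz.symm (Ne.symm hyz),
    Equiv.swap_apply_of_ne_of_ne hxy.symm hyz] at h1
  exact hyz h1.symm

/-- A group acting by disjoint transpositions is not an over-offender. -/
theorem relIndex_le (h : Sy H V D e) [Finite G] (hab : ∀ a ∈ A, ∀ b ∈ A, a * b = b * a)
    (h0 : ∀ a ∈ A, ∀ τ, Gd H V D e τ a → ∀ i, τ i o = o)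
    (hoff : ∀ a ∈ A, ∃ τ, Gd H V D e τ a ∧ ∀ i x, τ i x ≠ x → τ i (τ i x) = x ∧
      ∃ b ∈ A, Gd H V D e (Pi.mulSingle i (Equiv.swap x (τ i x))) b) :
    (centralizer (V : Set G)).relIndex A ≤ (centralizer (A : Set G)).relIndex V := by
  classical
  -- disjointness
  have hdis : ∀ i x y z, x ≠ y → x ≠ z → (∃ b ∈ A, Gd H V D e (Pi.mulSingle i (Equiv.swap x y)) b) →
      (∃ b ∈ A, Gd H V D e (Pi.mulSingle i (Equiv.swap x z)) b) → y = z := by
    rintro i x y z hxy hxz ⟨b, hb, hb'⟩ ⟨c, hc, hc'⟩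
    have h1 := h.gd_mul hb' hc'
    have h2 := h.gd_mul hc' hb'
    rw [hab c hc b hb] at h2
    have h3 := h.gd_unique h1 h2
    rw [← Pi.mulSingle_mul, ← Pi.mulSingle_mul] at h3
    have h4 := congrFun h3 i
    rw [Pi.mulSingle_eq_same, Pi.mulSingle_eq_same] at h4
    exact swap_eq hxy hxz h4
  choose τ hτ hτ' using hoff
  -- the vectors
  let w : ∀ a ∈ A, Fin k → Fin n → ZMod 2 := fun a ha i x =>
    if x = o then ∑ y ∈ Finset.univ.erase o, (if y < τ a ha i y then 1 else 0)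
    else (if x < τ a ha i x then 1 else 0)
  have hw : ∀ a ha i, ∑ x, w a ha i x = 0 := by
    intro a ha i
    rw [← Finset.add_sum_erase _ _ (Finset.mem_univ o)]
    have h1 : ∑ x ∈ Finset.univ.erase o, w a ha i x =
        ∑ y ∈ Finset.univ.erase o, (if y < τ a ha i y then 1 else 0) := by
      refine Finset.sum_congr rfl fun y hy => ?_
      simp only [w, if_neg (Finset.ne_of_mem_erase hy)]
    rw [h1]
    simp only [w, if_true]
    exact CharTwo.add_self_eq_zero _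
  have hex : ∀ a (ha : a ∈ A), ∃ v ∈ V, e v = w a ha := fun a ha => h.surj _ (hw a ha)
  choose m hmV hme using hex
  have key : ∀ a (ha : a ∈ A) b (hb : b ∈ A), (m a ha)⁻¹ * m b hb ∈ centralizer (A : Set G) →
      ∀ i x, τ a ha i x ≠ x → τ b hb i x = τ a ha i x := by
    intro a ha b hb hc i x hx
    set v := (m a ha)⁻¹ * m b hb with hv
    have hvV : v ∈ V := mul_mem (inv_mem (hmV a ha)) (hmV b hb)
    have hev : e v = w a ha + w b hb := by
      rw [hv, h.mul _ (inv_mem (hmV a ha)) _ (hmV b hb), h.e_inv (hmV a ha), hme, hme]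
    set y := τ a ha i x with hy
    obtain ⟨hyx, c, hcA, hc'⟩ := hτ' a ha i x hx
    rw [← hy] at hyx hc'
    have hxo : x ≠ o := fun e1 => hx (by rw [hy, e1]; exact h0 a ha _ (hτ a ha) i)
    have hyo : y ≠ o := fun e1 => hxo (by
      rw [e1] at hyx
      rw [← hyx]; exact h0 a ha _ (hτ a ha) i)
    -- `v` has the same coordinates at `x` and `y`
    have h1 := hc'.act v hvV i x
    have h2 : c * v * c⁻¹ = v := by
      have := mem_centralizer_iff.1 hc c hcA
      rw [this]; group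
    rw [h2, Equiv.Perm.one_apply, Pi.mulSingle_eq_same, Equiv.swap_apply_left, hev] at h1
    simp only [Pi.add_apply] at h1
    have h3 : w a ha i x + w a ha i y = 1 := by
      simp only [w, if_neg hxo, if_neg hyo, hyx, ← hy]
      rcases lt_or_gt_of_ne (Ne.symm hx) with h4 | h4
      · rw [if_pos h4, if_neg (not_lt.2 h4.le)]; decide
      · rw [if_neg (not_lt.2 h4.le), if_pos h4]; decide
    have h4 : w b hb i x + w b hb i y = 1 := by
      have aux : ∀ p q r s : ZMod 2, p + r = q + s → q + p = 1 → s + r = 1 := by decide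
      exact aux _ _ _ _ h1 h3
    by_cases h5 : τ b hb i x = x
    · exfalso
      have h6 : w b hb i x = 0 := by
        simp only [w, if_neg hxo, h5, lt_irrefl, if_false]
      rw [h6, zero_add] at h4
      have h7 : τ b hb i y ≠ y := by
        intro h8
        simp only [w, if_neg hyo, h8, lt_irrefl, if_false] at h4
        exact absurd h4 (by decide)
      obtain ⟨h8, h9⟩ := hτ' b hb i y h7
      have h10 : x = τ b hb i y := by
        refine hdis i y x _ hx (Ne.symm h7) ⟨c, hcA, ?_⟩ h9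
        rwa [Equiv.swap_comm]
      rw [← h10] at h8
      rw [h5] at h8
      exact hx h8.symm
    · obtain ⟨-, h9⟩ := hτ' b hb i x h5
      exact (hdis i x y _ (Ne.symm hx) (Ne.symm h5) ⟨c, hcA, hc'⟩ h9).symm
  -- the injection
  have hinj : ∀ a (ha : a ∈ A) b (hb : b ∈ A), (m a ha)⁻¹ * m b hb ∈ centralizer (A : Set G) →
      a⁻¹ * b ∈ centralizer (V : Set G) := by
    intro a ha b hb hc
    have hc' : (m b hb)⁻¹ * m a ha ∈ centralizer (A : Set G) := by
      have := inv_mem hc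
      rwa [mul_inv_rev, inv_inv] at this
    have h1 : τ a ha = τ b hb := by
      funext i
      ext x
      by_cases hx : τ a ha i x = x
      · by_cases hx' : τ b hb i x = x
        · rw [hx, hx']
        · rw [key b hb a ha hc' i x hx']
      · rw [key a ha b hb hc i x hx]
    have h2 := hτ b hb
    rw [← h1] at h2
    have h3 := h.gd_sim (hτ a ha) h2
    rw [mem_centralizer_iff]
    intro v hv
    have h4 := h3 v hv
    calc v * (a⁻¹ * b) = a⁻¹ * (a * v * a⁻¹) * b := by group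
      _ = a⁻¹ * (b * v * b⁻¹) * b := by rw [h4]
      _ = _ := by group
  let f : (A ⧸ (centralizer (V : Set G)).subgroupOf A) → (V ⧸ (centralizer (A : Set G)).subgroupOf V) :=
    fun q => QuotientGroup.mk ⟨m q.out.1 q.out.2, hmV _ _⟩
  have hf : Function.Injective f := by
    intro p q hpq
    have h1 := QuotientGroup.eq.1 hpq
    rw [mem_subgroupOf] at h1
    have h2 := hinj _ p.out.2 _ q.out.2 h1
    rw [← p.out_eq', ← q.out_eq']
    exact QuotientGroup.eq.2 (by rw [mem_subgroupOf]; exact h2)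
  exact Nat.card_le_card_of_injective f hf

end noover

variable {T H D : Subgroup G} {k m : ℕ}

theorem ker_sup_ne (hM : MinH H T) (N : SymK T H (zl T H) D k m) (hk : 0 < k) (hm : 1 ≤ m) :
    Ker T H (zl T H) D N zl_norm ⊔ T ≠ H := by
  have hV : ∀ g ∈ H, ∀ v ∈ zl T H, g * v * g⁻¹ ∈ zl T H := zl_norm
  set R := Ker T H (zl T H) D N hV with hR
  set F := Fix0 T H (zl T H) D N hV with hF
  have hTF : T ≤ F := by
    intro t ht
    obtain ⟨σ, τ, hta⟩ := N.perm t (hM.syl.1 ht)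
    refine ⟨hM.syl.1 ht, σ, fun v hv i => ?_⟩
    have h3 := hta v hv i 0
    rwa [N.fix0 t ht σ τ hta i] at h3
  have hRF : R ≤ F := fun x hx => ⟨hx.1, 1, fun v hv i => by
    rw [hx.2.2 v hv, Equiv.Perm.one_apply]⟩
  intro hcon
  obtain ⟨a, b, ha, hb, hab⟩ := exists_three_pts hm
  obtain ⟨x, hx, hxa, -⟩ := N.lift (Pi.mulSingle ⟨0, hk⟩ (Equiv.swap 0 a))
  have hxF : x ∈ F := (sup_le hRF hTF) (by rw [hcon]; exact hx)
  obtain ⟨-, σ, hσ⟩ := hxF
  set j : Fin k := ⟨0, hk⟩ with hj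
  obtain ⟨v, hv, hev⟩ := N.surj (E j a + E j b) fun i => by
    simp only [Pi.add_apply, Finset.sum_add_distrib, E_sum]
    exact CharTwo.add_self_eq_zero _
  have h3 := hxa v hv j a
  have h4 := hσ v hv (σ⁻¹ j)
  rw [perm_inv_self] at h4
  rw [Equiv.Perm.one_apply, Pi.mulSingle_eq_same, Equiv.swap_apply_right, h4, hev] at h3
  simp only [Pi.add_apply, E, true_and, if_true, hab, if_false, add_zero] at h3
  rw [if_neg (fun h => ha h.2.symm), if_neg (fun h => hb h.2.symm), add_zero] at h3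
  exact absurd h3 (by decide)

theorem ker_norm (N : SymK T H (zl T H) D k m)
    (hDn : ∀ h ∈ H, ∀ v ∈ D, h * v * h⁻¹ ∈ D) :
    ∀ h ∈ H, ∀ r ∈ Ker T H (zl T H) D N zl_norm, h * r * h⁻¹ ∈ Ker T H (zl T H) D N zl_norm := by
  have hV : ∀ g ∈ H, ∀ v ∈ zl T H, g * v * g⁻¹ ∈ zl T H := zl_norm
  rintro x hx r ⟨hr, hr1, hr2⟩
  refine ⟨mul_mem (mul_mem hx hr) (inv_mem hx), fun d hd => ?_, fun v hv => ?_⟩
  · have hd' : x⁻¹ * d * x ∈ D := by
      have := hDn x⁻¹ (inv_mem hx) d hd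
      rwa [inv_inv] at this
    have h3 := hr1 _ hd'
    calc x * r * x⁻¹ * d = x * (r * (x⁻¹ * d * x)) * x⁻¹ := by group
      _ = x * ((x⁻¹ * d * x) * r) * x⁻¹ := by rw [h3]
      _ = _ := by group
  · set w := x⁻¹ * v * x with hw
    have hwV : w ∈ zl T H := by
      have := hV x⁻¹ (inv_mem hx) v hv
      rwa [inv_inv] at this
    obtain ⟨σ, τ, hxa⟩ := N.perm x hx
    have e1 : x * r * x⁻¹ * v * (x * r * x⁻¹)⁻¹ = x * (r * w * r⁻¹) * x⁻¹ := by rw [hw]; group
    have e2 : v = x * w * x⁻¹ := by rw [hw]; group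
    rw [e1]
    conv_rhs => rw [e2]
    funext i y
    have h3 := hxa _ (hV r hr w hwV) (σ⁻¹ i) ((τ (σ⁻¹ i))⁻¹ y)
    have h4 := hxa w hwV (σ⁻¹ i) ((τ (σ⁻¹ i))⁻¹ y)
    rw [perm_inv_self, perm_inv_self] at h3 h4
    rw [h3, h4, hr2 w hwV]

/-- **An element of `H` which centralises `D` and `V / D` centralises `V`.** -/
theorem cent_of_ker (hM : MinH H T) [Finite G] (N : SymK T H (zl T H) D k m) (hk : 0 < k)
    (hm : 1 ≤ m) (hDV : D ≤ zl T H) (hDn : ∀ h ∈ H, ∀ v ∈ D, h * v * h⁻¹ ∈ D) {g : G} (hg : g ∈ H)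
    (h1 : ∀ d ∈ D, g * d = d * g) (h2 : ∀ v ∈ zl T H, N.e (g * v * g⁻¹) = N.e v) :
    ∀ v ∈ zl T H, g * v = v * g := by
  have hV : ∀ g ∈ H, ∀ v ∈ zl T H, g * v * g⁻¹ ∈ zl T H := zl_norm
  set R := Ker T H (zl T H) D N hV with hR
  have hRn : ∀ h ∈ H, ∀ r ∈ R, h * r * h⁻¹ ∈ R := ker_norm N hDn
  have hne : R ⊔ T ≠ H := ker_sup_ne hM N hk hm
  have hRH : R ≤ H := fun x hx => hx.1
  have h3 := hM.inf_le hRH hRn hne
  -- 2-elements of `R`
  have h4 : ∀ x ∈ R, (∃ n : ℕ, x ^ 2 ^ n = 1) → ∀ v ∈ zl T H, x * v = v * x := by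
    intro x hx hx2
    obtain ⟨y, hy, hyT⟩ := syl_elt hM.syl hx.1 hx2
    have h5 := h3 ⟨hyT, hRn y hy x hx⟩
    have h6 : x ∈ o2 H := by
      have := conj_mem_of_norm (le_normalizer_o2 H (inv_mem hy)) h5
      have e1 : y⁻¹ * (y * x * y⁻¹) * y⁻¹⁻¹ = x := by group
      rwa [e1] at this
    exact MinH.o2_cent hM x h6
  -- squares
  have h5 : ∀ v ∈ zl T H, (g * g) * v = v * (g * g) := by
    intro v hv
    have hv' := hV g hg v hv
    have hδ : g * v * g⁻¹ * v ∈ D := by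
      rw [← N.ker _ (mul_mem hv' hv), N.mul _ hv' v hv, h2 v hv]
      funext i x
      exact CharTwo.add_self_eq_zero _
    have hvv : v * v = 1 := by
      rw [← pow_two]; exact MinH.sq hM v hv
    have hδδ : (g * v * g⁻¹ * v) * (g * v * g⁻¹ * v) = 1 := by
      rw [← pow_two]; exact MinH.sq hM _ (hDV hδ)
    have h6 := h1 _ hδ
    set δ := g * v * g⁻¹ * v with hδd
    have e1 : g * v * g⁻¹ = δ * v := by rw [hδd, mul_assoc (g * v * g⁻¹), hvv, mul_one]
    have e2 : g * g * v * (g * g)⁻¹ = v := by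
      calc g * g * v * (g * g)⁻¹ = g * (g * v * g⁻¹) * g⁻¹ := by group
        _ = (g * δ) * v * g⁻¹ := by rw [e1]; group
        _ = δ * (g * v * g⁻¹) := by rw [h6]; group
        _ = v := by rw [e1, ← mul_assoc, hδδ, one_mul]
    calc g * g * v = (g * g * v * (g * g)⁻¹) * (g * g) := by group
      _ = v * (g * g) := by rw [e2]
  obtain ⟨n, hn, hN⟩ := Cfsg.Agent.Omega.SQ1.SymCyc.exists_pow g 1
  have hgR : g ∈ R := ⟨hg, h1, h2⟩
  have h6 := h4 (g ^ n) (pow_mem hgR n) hN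
  have hn' : n = 2 * (n / 2) + 1 := by
    have : n % 2 = 1 := by simpa using hn
    omega
  intro v hv
  have c1 : Commute (g ^ n) v := h6 v hv
  have c2 : Commute ((g * g) ^ (n / 2)) v := (show Commute (g * g) v from h5 v hv).pow_left _
  have e1 : g = ((g * g) ^ (n / 2))⁻¹ * g ^ n := by
    rw [← pow_two, ← pow_mul]
    conv_rhs => rw [hn', pow_succ]
    have : 2 * ((2 * (n / 2) + 1) / 2) = 2 * (n / 2) := by omega
    rw [this, inv_mul_cancel_left]
  have c3 : Commute (((g * g) ^ (n / 2))⁻¹ * g ^ n) v := (c2.inv_left).mul_left c1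
  rw [← e1] at c3
  exact c3.eq

theorem cent_sup_ne' (hM : MinH H T) (N : SymK T H (zl T H) D k m) (hk : 0 < k) (hm : 1 ≤ m)
    (hDV : D ≤ zl T H) : (H ⊓ centralizer (zl T H : Set G)) ⊔ T ≠ H := by
  intro e
  have hle : H ⊓ centralizer (zl T H : Set G) ≤ Ker T H (zl T H) D N zl_norm := by
    rintro x ⟨hx, hxc⟩
    refine ⟨hx, fun d hd => (mem_centralizer_iff.1 hxc d (hDV hd)).symm, fun v hv => ?_⟩
    have h1 := mem_centralizer_iff.1 hxc v hv
    have h2 : x * v * x⁻¹ = v := by rw [← h1]; group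
    rw [h2]
  refine ker_sup_ne hM N hk hm (le_antisymm (sup_le (fun x hx => hx.1) hM.syl.1) ?_)
  exact e.ge.trans (sup_le_sup_right hle T)

theorem cT' (hM : MinH H T) [Finite G] (N : SymK T H (zl T H) D k m) (hk : 0 < k) (hm : 1 ≤ m)
    (hDV : D ≤ zl T H) {t : G} (ht : t ∈ T) (hc : ∀ v ∈ zl T H, t * v = v * t) : t ∈ o2 H :=
  hM.inf_le inf_le_left cent_norm (cent_sup_ne' hM N hk hm hDV)
    ⟨ht, hM.syl.1 ht, mem_centralizer_iff.2 fun v hv => (hc v hv).symm⟩

/-- **The module data**, without `T`. -/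
theorem sy_of (hM : MinH H T) [Finite G] (N : SymK T H (zl T H) D k m) (hk : 0 < k)
    (hm : 1 ≤ m) (hDV : D ≤ zl T H) (hDn : ∀ h ∈ H, ∀ v ∈ D, h * v * h⁻¹ ∈ D) :
    Sy H (zl T H) D N.e where
  n3 := by
    have : 2 ≤ 2 ^ m := by
      calc 2 = 2 ^ 1 := (pow_one 2).symm
        _ ≤ 2 ^ m := Nat.pow_le_pow_right (by norm_num) hm
    omega
  n4 := by
    intro h4
    have h5 : 2 ∣ 2 ^ m := dvd_pow_self 2 (by omega)
    omega
  DV := hDV
  Vn := zl_norm
  Dn := hDn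
  comm := MinH.comm hM
  sq := MinH.sq hM
  mul := N.mul
  even := N.even
  surj := N.surj
  ker := N.ker
  lift := N.lift
  perm := N.perm
  cent := fun g hg h1 h2 => cent_of_ker hM N hk hm hDV hDn hg h1 h2

/-- No member of `A(T)` is an over-offender (from the structure of the offenders, without the FF theorem). -/
theorem noOver_of (hM : MinH H T) [Finite G] (N : SymK T H (zl T H) D k m) (hk : 0 < k)
    (hm : 1 ≤ m) (hDV : D ≤ zl T H) (hDn : ∀ h ∈ H, ∀ v ∈ D, h * v * h⁻¹ ∈ D) {A : Subgroup G}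
    (hAT : A ≤ T) (hE : IsElementaryAbelian 2 A) :
    Nat.card A * Nat.card ↥(zl T H ⊓ centralizer (A : Set G)) ≤
      Nat.card (zl T H) * Nat.card ↥(A ⊓ centralizer (zl T H : Set G)) := by
  have h := sy_of hM N hk hm hDV hDn
  by_contra hcon
  have hne : ¬ A ≤ centralizer (zl T H : Set G) := by
    intro hle
    apply hcon
    rw [inf_eq_left.2 hle, inf_eq_left.2 (le_centralizer_iff.mp hle), mul_comm]
  obtain ⟨h1, h2⟩ := N.off A hAT ⟨hE, hne, (not_le.1 hcon).le⟩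
  have hab : ∀ a ∈ A, ∀ b ∈ A, a * b = b * a := fun a ha b hb =>
    (isElementaryAbelian_iff.1 hE).1 a ha b hb
  apply hcon
  rw [Cfsg.Agent.Omega.FFThm.relIndex_le_iff]
  refine relIndex_le (o := (0 : Fin (2 ^ m + 1))) h hab
    (fun a ha τ hτ i => N.fix0 a (hAT ha) 1 τ hτ.act i) fun a ha => ?_
  obtain ⟨τ, hτ, hτ'⟩ := h2 a ha
  refine ⟨τ, ⟨hM.syl.1 (hAT ha), h1 a ha, hτ⟩, fun i x hx => ?_⟩
  obtain ⟨h3, b, hb, hb'⟩ := hτ' i x hx
  exact ⟨h3, b, hb, hM.syl.1 (hAT hb), h1 b hb, hb'⟩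

/-- **The module data.** -/
theorem syT_of (hM : MinH H T) [Finite G] (hJ : ¬ jj T ≤ o2 H)
    (N : SymK T H (zl T H) D k m) (hk : 0 < k)
    (hm : 1 ≤ m) (hDV : D ≤ zl T H) (hDn : ∀ h ∈ H, ∀ v ∈ D, h * v * h⁻¹ ∈ D) :
    SyT T H (o2 H) (zl T H) D (0 : Fin (2 ^ m + 1)) N.e where
  toSy := sy_of hM N hk hm hDV hDn
  TH := hM.syl.1
  Tp := hM.syl.2.1
  QT := o2_le_syl hM.syl
  VQ := MinH.zl_le_o2 hM
  Qn := fun g hg x hx => conj_mem_of_norm (le_normalizer_o2 H hg) hx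
  VcQ := MinH.o2_cent hM
  cT := fun x hx hc => cT' hM N hk hm hDV hx hc
  syl := fun x hx h2 => syl_elt hM.syl hx h2
  trans := N.trans
  fix0 := N.fix0
  gen := fun K hT hK => N.gen K hT fun g hg τ ha hd => hK g τ ⟨hg, hd, ha⟩
  offD := by
    intro A hA a ha
    by_cases hne : A ≤ centralizer (zl T H : Set G)
    · refine ⟨1, ⟨hM.syl.1 (hA.2.1 ha), fun d hd => (mem_centralizer_iff.1 (hne ha) d (hDV hd)).symm,
        fun v hv i x => ?_⟩, fun i x hx => absurd rfl hx⟩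
      have h1 := mem_centralizer_iff.1 (hne ha) v hv
      have h2 : a * v * a⁻¹ = v := by rw [← h1]; group
      rw [h2, Equiv.Perm.one_apply, Pi.one_apply, Equiv.Perm.one_apply]
    · obtain ⟨h1, h2⟩ := N.off A hA.2.1 (Cfsg.Agent.Omega.SQ1.FFOf.off_of_AA hM hA hne)
      obtain ⟨τ, hτ, hτ'⟩ := h2 a ha
      refine ⟨τ, ⟨hM.syl.1 (hA.2.1 ha), h1 a ha, hτ⟩, fun i x hx => ?_⟩
      obtain ⟨h3, b, hb, hb'⟩ := hτ' i x hx
      exact ⟨h3, b, hb, hM.syl.1 (hA.2.1 hb), h1 b hb, hb'⟩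
  nJ := by
    by_contra hcon
    push Not at hcon
    apply hJ
    intro j hj
    refine cT' hM N hk hm hDV (jj_le T hj) fun v hv => ?_
    have hle : jj T ≤ centralizer ({v} : Set G) := by
      rw [jj_eq]
      refine sSup_le fun A hA a ha => ?_
      rw [mem_centralizer_iff]
      rintro _ rfl
      exact (hcon A hA a ha _ hv).symm
    exact (mem_centralizer_iff.1 (hle hj) v rfl).symm
  noOver := fun A hA => noOver_of hM N hk hm hDV hDn hA.2.1 hA.1
  cycle := by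
    obtain ⟨p, h1, -, h3, h4⟩ := Cfsg.Agent.Omega.SQ1.SymCyc.exists_cyc m hm
    exact ⟨p, m, h1, h3, h4⟩
  prop := by
    intro X hTX hXH hle
    by_contra hcon
    obtain ⟨M₀, hn, hu⟩ := hM.uniq
    have h1 : X ≤ M₀ := hu X hTX hXH fun h => hcon h.ge
    have h2 : (H ⊓ centralizer (zl T H : Set G)) ⊔ T ≤ M₀ :=
      hu _ le_sup_right (sup_le inf_le_left hM.syl.1) (cent_sup_ne' hM N hk hm hDV)
    exact hn (hle.trans (sup_le h1 (le_sup_left.trans h2)))

end Cfsg.Agent.Omega.OM
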