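import Cfsg.Agent.Omega.OM.Uni
import Cfsg.Agent.Omega.SQ1.BauMin
import Cfsg.Agent.Omega.NO3S.NotFF.Basic
import Cfsg.Agent.Omega.LemmaK

/-!
# Blocks over `B` whose module is an extension of a trivial by a natural module

`PB B L N N1 N0 q`: `L ≥ B` acts on the elementary abelian group `N ≤ B`, trivially on `N0`, with `N / N0` of order
`q ^ 2`, `N1 = C_N(B)`, `N1 / N0` of order `q`; `B` is a Sylow 2-subgroup of `L = ⟨B, B^l⟩`.

* `PB.fb` : `L` is an FF-block (`Uni.FB`) over `B` with module `[N, L]`;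
* `PB.block` : `L` is a block in the sense of Lemma K (`LemmaK.Block`) with module `[N, L]`.
-/

set_option autoImplicit false

namespace Cfsg.Agent.Omega.OM

open Subgroup Cfsg Cfsg.Agent.PLocal.ThompsonJ Cfsg.Agent.ZN.ChoiceBase
open Cfsg.Agent.ZN hiding mem_zc
open Cfsg.Agent.PLocal.ElemAbSup
open Cfsg.Agent.Omega.SQ1.Bau (mem_sup_comm card_sup_comm elem_comm elem_sq Mv not_mv_iff mv_inv)
open Cfsg.Agent.Omega.SQ1.BauK (Pl)
open Cfsg.Agent.Omega.OM.Uni (Md FB)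
open Cfsg.Agent.Omega.LemmaK (Block WeakNormal inv_of)
open Cfsg.Agent.Omega.NO3S.NotFF (normalizer_commutator)
open scoped Pointwise commutatorElement

universe u

variable {G : Type u} [Group G]

/-- `L ≥ B` acts on `N ≤ B` with `N0` central, `N / N0` natural. -/
structure PB (B L N N1 N0 : Subgroup G) (q : ℕ) : Prop where
  Bp : IsPGroup 2 B
  BL : B ≤ L
  el : IsElementaryAbelian 2 N
  NB : N ≤ B
  Nn : ∀ l ∈ L, ∀ v ∈ N, l * v * l⁻¹ ∈ N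
  N1N : N1 ≤ N
  N1c : ∀ b ∈ B, ∀ v ∈ N1, b * v = v * b
  N01 : N0 ≤ N1
  N0c : ∀ l ∈ L, ∀ v ∈ N0, l * v = v * l
  card : Nat.card N = Nat.card N1 * q
  card1 : Nat.card N1 = Nat.card N0 * q
  opp : ∀ l ∈ L, Mv N1 l → ∀ v ∈ N1, l * v * l⁻¹ ∈ N1 → l * v * l⁻¹ ∈ N0
  quad : ∀ b ∈ B, ∀ v ∈ N, b * v * b⁻¹ * v⁻¹ ∈ N1
  cent : ∀ b ∈ B, (∃ v ∈ N, b * v ≠ v * b) → ∀ v ∈ N, b * v * b⁻¹ * v⁻¹ ∈ N0 → v ∈ N1
  cardB : Nat.card B = Nat.card ↥(B ⊓ centralizer (N : Set G)) * q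
  one : 1 < q
  mv : ∃ l ∈ L, Mv N1 l
  gen : ∀ l ∈ L, Mv N1 l → ∀ X : Subgroup G, B ≤ X → (∀ b ∈ B, l * b * l⁻¹ ∈ X) → L ≤ X
  act : ∀ l ∈ L, ∀ z ∈ zc B, l * z * l⁻¹ * z⁻¹ ∈ N
  cor : ∀ l ∈ L, ∀ x ∈ B, (∀ v ∈ N, x * v = v * x) → l * x * l⁻¹ ∈ B
  syl : ∀ T : Subgroup G, B ≤ T → T ≤ L → IsPGroup 2 T → T = B
  tor : ∀ z ∈ N1, z ∉ N0 → ∀ z' ∈ N1, z' ∉ N0 →
    ∃ h ∈ L, h ∈ normalizer (B : Set G) ∧ h * z * h⁻¹ * z'⁻¹ ∈ N0

/-- `Ω₁Z(B) = C_{Ω₁Z(B)}(L) N1`. -/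
theorem Z_split_aux {B L N N1 N0 : Subgroup G} {q : ℕ} [Finite G] (hpl : Pl L N N1 N0 q) {l : G} (hl : l ∈ L)
    (hm : Mv N1 l) (hgen : ∀ X : Subgroup G, B ≤ X → (∀ b ∈ B, l * b * l⁻¹ ∈ X) → L ≤ X) (hNB : N ≤ B)
    (hel : IsElementaryAbelian 2 N) (hN1c : ∀ b ∈ B, ∀ v ∈ N1, b * v = v * b)
    (hact : ∀ l ∈ L, ∀ z ∈ zc B, l * z * l⁻¹ * z⁻¹ ∈ N) {z : G} (hz : z ∈ zc B) :
    ∃ c ∈ zc B, (∀ l ∈ L, l * c = c * l) ∧ ∃ n ∈ N1, z = c * n := by
  have hN1N := hpl.W1W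
  have hzc := mem_zc.1 hz
  have hN1z : ∀ n ∈ N1, n ∈ zc B := fun n hn =>
    mem_zc.2 ⟨hNB (hN1N hn), elem_sq hel n (hN1N hn), fun b hb => hN1c b hb n hn⟩
  have hzN : ∀ v ∈ N, v * z = z * v := fun v hv => hzc.2.2 v (hNB hv)
  have h1 := hact l⁻¹ (inv_mem hl) z hz
  obtain ⟨a, ha, b, hb, e⟩ := hpl.split (inv_mem hl) (mv_inv.2 hm) h1
  -- `l⁻¹ z l = a (l⁻¹ b l) z`, so `b⁻¹ z = l (a z) l⁻¹`
  have haN := hN1N ha
  have hbN := hN1N hb
  have e1 : b⁻¹ * z = l * (a * z) * l⁻¹ := by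
    have hz1 : l⁻¹ * z * l⁻¹⁻¹ = a * (l⁻¹ * b * l⁻¹⁻¹) * z := by
      rw [← e]; group
    have e2 : z = (l * a * l⁻¹) * b * (l * z * l⁻¹) := by
      calc z = l * (l⁻¹ * z * l⁻¹⁻¹) * l⁻¹ := by group
        _ = l * (a * (l⁻¹ * b * l⁻¹⁻¹) * z) * l⁻¹ := by rw [hz1]
        _ = _ := by group
    have e3 : (l * a * l⁻¹) * b = b * (l * a * l⁻¹) := hpl.Wc _ (hpl.Wn l hl a haN) _ hbN
    have e4 : l * (a * z) * l⁻¹ = (l * a * l⁻¹) * (l * z * l⁻¹) := by group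
    rw [e4]
    calc b⁻¹ * z = b⁻¹ * ((l * a * l⁻¹) * b * (l * z * l⁻¹)) := by rw [← e2]
      _ = b⁻¹ * (b * (l * a * l⁻¹) * (l * z * l⁻¹)) := by rw [e3]
      _ = _ := by group
  have hc : b⁻¹ * z ∈ zc B := mul_mem (inv_mem (hN1z b hb)) hz
  have haz : a * z ∈ zc B := mul_mem (hN1z a ha) hz
  refine ⟨b⁻¹ * z, hc, ?_, b, hb, ?_⟩
  · have h2 : L ≤ centralizer ({b⁻¹ * z} : Set G) := by
      refine hgen _ (fun x hx => mem_centralizer_iff.2 fun y hy => ?_)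
        (fun x hx => mem_centralizer_iff.2 fun y hy => ?_)
      · rw [show y = b⁻¹ * z from hy]
        exact ((mem_zc.1 hc).2.2 x hx).symm
      · rw [show y = b⁻¹ * z from hy, e1]
        have h3 := (mem_zc.1 haz).2.2 x hx
        calc l * (a * z) * l⁻¹ * (l * x * l⁻¹) = l * ((a * z) * x) * l⁻¹ := by group
          _ = l * (x * (a * z)) * l⁻¹ := by rw [h3]
          _ = _ := by group
    exact fun g hg => (mem_centralizer_iff.1 (h2 hg) _ rfl).symm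
  · have e5 : z * b = b * z := (hzN b hbN).symm
    calc z = b⁻¹ * (b * z) := by group
      _ = b⁻¹ * (z * b) := by rw [e5]
      _ = _ := by group

namespace PB

variable {B L N N1 N0 : Subgroup G} {q : ℕ}

theorem comm (h : PB B L N N1 N0 q) {v w : G} (hv : v ∈ N) (hw : w ∈ N) : v * w = w * v :=
  elem_comm h.el v hv w hw

theorem pl (h : PB B L N N1 N0 q) : Pl L N N1 N0 q where
  Wn := h.Nn
  Wc := fun _ hv _ hw => h.comm hv hw
  W1W := h.N1N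
  W01 := h.N01
  W0n := fun l hl v hv => by rw [h.N0c l hl v hv, mul_inv_cancel_right]; exact hv
  card := h.card
  card1 := h.card1
  opp := h.opp

theorem LN [Finite G] (h : PB B L N N1 N0 q) : L ≤ normalizer (N : Set G) := fun l hl =>
  mem_normalizer_of_cj_le (by
    rintro _ ⟨v, hv, rfl⟩
    exact h.Nn l hl v hv)

theorem VN [Finite G] (h : PB B L N N1 N0 q) : ⁅N, L⁆ ≤ N := by
  rw [Subgroup.commutator_le]
  intro v hv l hl
  have h1 := mul_mem hv (h.Nn l hl _ (inv_mem hv))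
  rwa [← mul_assoc, ← mul_assoc, ← commutatorElement_def] at h1

theorem LV [Finite G] (h : PB B L N N1 N0 q) : L ≤ normalizer ((⁅N, L⁆ : Subgroup G) : Set G) :=
  normalizer_commutator h.LN le_normalizer_self'
where
  le_normalizer_self' : L ≤ normalizer (L : Set G) := le_normalizer

/-- `[b, v] ∈ [N, L]` -/
theorem comm_mem (_h : PB B L N N1 N0 q) {l v : G} (hl : l ∈ L) (hv : v ∈ N) :
    l * v * l⁻¹ * v⁻¹ ∈ (⁅N, L⁆ : Subgroup G) := by
  have h1 := inv_mem (commutator_mem_commutator hv hl)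
  have e : (⁅v, l⁆)⁻¹ = l * v * l⁻¹ * v⁻¹ := by rw [commutatorElement_def]; group
  rwa [e] at h1

theorem exists_b (h : PB B L N N1 N0 q) [Finite G] : ∃ b ∈ B, ∃ v ∈ N, b * v ≠ v * b := by
  by_contra hc
  push Not at hc
  have h1 : B ⊓ centralizer (N : Set G) = B :=
    inf_eq_left.2 fun b hb => mem_centralizer_iff.2 fun v hv => (hc b hb v hv).symm
  have h2 := h.cardB
  rw [h1] at h2
  have h3 : 0 < Nat.card B := Nat.card_pos
  have h4 := h.one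
  have h5 : Nat.card B * 2 ≤ Nat.card B * q := Nat.mul_le_mul_left _ h4
  omega

theorem exists_v (h : PB B L N N1 N0 q) [Finite G] : ∃ v ∈ N, v ∉ N1 := by
  by_contra hc
  push Not at hc
  obtain ⟨b, hb, v, hv, hne⟩ := h.exists_b
  exact hne (h.N1c b hb v (hc v hv))

/-- `N1 = [v, B] N0` for `v ∈ N - N1`. -/
theorem line (h : PB B L N N1 N0 q) [Finite G] {v : G} (hv : v ∈ N) (hv1 : v ∉ N1) {n : G} (hn : n ∈ N1) :
    ∃ b ∈ B, ∃ n0 ∈ N0, n = (b * v * b⁻¹ * v⁻¹) * n0 := by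
  classical
  let f : B →* G :=
    { toFun := fun x => (x : G) * v * (x : G)⁻¹ * v⁻¹
      map_one' := by simp
      map_mul' := by
        intro x y
        have h1 := h.quad y y.2 v hv
        have h2 := h.N1c x x.2 _ h1
        have h3 := h.comm (h.N1N (h.quad x x.2 v hv)) (h.N1N h1)
        show (x : G) * y * v * ((x : G) * y)⁻¹ * v⁻¹ = (x : G) * v * (x : G)⁻¹ * v⁻¹ * ((y : G) * v * (y : G)⁻¹ * v⁻¹)
        have e : (x : G) * y * v * ((x : G) * y)⁻¹ * v⁻¹ =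
          (x * ((y : G) * v * (y : G)⁻¹ * v⁻¹) * (x : G)⁻¹) * ((x : G) * v * (x : G)⁻¹ * v⁻¹) := by group
        rw [e, h2, h3]
        group }
  have hf : ∀ x : B, f x = (x : G) * v * (x : G)⁻¹ * v⁻¹ := fun x => rfl
  have hcN : ∀ x : B, f x ∈ N0 → ∀ w ∈ N, (x : G) * w = w * x := by
    intro x hx
    by_contra hc
    push Not at hc
    exact hv1 (h.cent x x.2 hc v hv hx)
  have hker : ∀ x : B, x ∈ f.ker ↔ (x : G) ∈ B ⊓ centralizer (N : Set G) := by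
    intro x
    rw [MonoidHom.mem_ker, mem_inf, mem_centralizer_iff]
    constructor
    · intro h1
      exact ⟨x.2, fun w hw => (hcN x (by rw [h1]; exact one_mem _) w hw).symm⟩
    · rintro ⟨-, h1⟩
      rw [hf, ← h1 v hv]; group
  have h1 : Nat.card f.ker = Nat.card ↥(B ⊓ centralizer (N : Set G)) := by
    refine Nat.card_congr
      { toFun := fun x => ⟨x.1, (hker x.1).1 x.2⟩
        invFun := fun x => ⟨⟨x.1, x.2.1⟩, (hker _).2 x.2⟩
        left_inv := fun x => rfl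
        right_inv := fun x => rfl }
  have h2 : Nat.card f.range = q := by
    have h3 : Nat.card f.range * Nat.card f.ker = Nat.card B := by
      rw [← Subgroup.index_ker, mul_comm]
      exact Subgroup.card_mul_index _
    rw [h1, h.cardB, mul_comm] at h3
    exact Nat.eq_of_mul_eq_mul_left Nat.card_pos h3
  have hR1 : f.range ≤ N1 := by
    rintro _ ⟨x, rfl⟩
    exact h.quad x x.2 v hv
  have hc : ∀ a ∈ f.range, ∀ b ∈ N0, a * b = b * a := fun a ha b hb =>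
    h.comm (h.N1N (hR1 ha)) (h.N1N (h.N01 hb))
  have h3 := card_sup_comm hc
  have h4 : f.range ⊓ N0 = ⊥ := by
    rw [eq_bot_iff]
    rintro _ ⟨⟨x, rfl⟩, hx⟩
    rw [mem_bot, hf, hcN x hx v hv]; group
  rw [h4, h2, Subgroup.card_bot, mul_one] at h3
  have h5 : f.range ⊔ N0 = N1 := by
    refine Subgroup.eq_of_le_of_card_ge (sup_le hR1 h.N01) ?_
    rw [h3, h.card1, mul_comm]
  rw [← h5] at hn
  obtain ⟨a, ⟨x, rfl⟩, b, hb, rfl⟩ := mem_sup_comm hc hn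
  exact ⟨x, x.2, b, hb, rfl⟩

/-- An `L`-invariant subgroup of `N` not in `N0` covers `N / N0`. -/
theorem cover (h : PB B L N N1 N0 q) [Finite G] {U : Subgroup G} (hU : U ≤ N)
    (hLU : L ≤ normalizer (U : Set G)) (hne : ¬ U ≤ N0) {v : G} (hv : v ∈ N) :
    ∃ u ∈ U, ∃ n ∈ N0, v = u * n := by
  have hLU' : ∀ l ∈ L, ∀ w ∈ U, l * w * l⁻¹ ∈ U := fun l hl w hw => (mem_normalizer_iff.1 (hLU hl) w).1 hw
  obtain ⟨l, hl, hm⟩ := h.mv
  obtain ⟨u, hu, hu0⟩ := SetLike.not_le_iff_exists.1 hne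
  -- an element of `U - N1`
  obtain ⟨w, hw, hw1⟩ : ∃ w ∈ U, w ∉ N1 := by
    by_cases hu1 : u ∈ N1
    · refine ⟨l * u * l⁻¹, hLU' l hl u hu, fun h1 => hu0 ?_⟩
      have h2 := h.opp l hl hm u hu1 h1
      have h3 := h.pl.W0n l⁻¹ (inv_mem hl) _ h2
      have e : l⁻¹ * (l * u * l⁻¹) * l⁻¹⁻¹ = u := by group
      rwa [e] at h3
    · exact ⟨u, hu, hu1⟩
  have hN1 : ∀ n ∈ N1, ∃ x ∈ U, ∃ m ∈ N0, n = x * m := by
    intro n hn
    obtain ⟨b, hb, m, hm, e⟩ := h.line (hU hw) hw1 hn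
    exact ⟨_, mul_mem (hLU' b (h.BL hb) w hw) (inv_mem hw), m, hm, e⟩
  obtain ⟨a, ha, b, hb, rfl⟩ := h.pl.split hl hm hv
  obtain ⟨x, hx, m, hm', rfl⟩ := hN1 a ha
  obtain ⟨y, hy, k, hk, rfl⟩ := hN1 b hb
  refine ⟨x * (l * y * l⁻¹), mul_mem hx (hLU' l hl y hy), m * k, mul_mem hm' hk, ?_⟩
  have e1 : l * (y * k) * l⁻¹ = (l * y * l⁻¹) * k := by
    calc l * (y * k) * l⁻¹ = l * y * l⁻¹ * (l * k) * l⁻¹ := by group
      _ = l * y * l⁻¹ * (k * l) * l⁻¹ := by rw [h.N0c l hl k hk]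
      _ = _ := by group
  rw [e1]
  have e2 : m * (l * y * l⁻¹) = (l * y * l⁻¹) * m :=
    h.comm (h.N1N (h.N01 hm')) (h.Nn l hl y (hU hy))
  calc x * m * (l * y * l⁻¹ * k) = x * (m * (l * y * l⁻¹)) * k := by group
    _ = x * ((l * y * l⁻¹) * m) * k := by rw [e2]
    _ = _ := by group

/-- elements of `N0` do not matter in commutators -/
theorem comm_eq (h : PB B L N N1 N0 q) {u n l : G} (hn : n ∈ N0) (hl : l ∈ L) :
    l * (u * n) * l⁻¹ * (u * n)⁻¹ = l * u * l⁻¹ * u⁻¹ := by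
  have e1 : l * (u * n) * l⁻¹ = (l * u * l⁻¹) * n := by
    calc l * (u * n) * l⁻¹ = l * u * l⁻¹ * (l * n) * l⁻¹ := by group
      _ = l * u * l⁻¹ * (n * l) * l⁻¹ := by rw [h.N0c l hl n hn]
      _ = _ := by group
  rw [e1]; group

theorem comm_eq' (h : PB B L N N1 N0 q) {u n l : G} (hn : n ∈ N0) (hl : l ∈ L) :
    ⁅u * n, l⁆ = ⁅u, l⁆ := by
  have h1 := h.comm_eq (u := u) hn hl
  have h2 := congrArg (fun t => t⁻¹) h1
  rw [commutatorElement_def, commutatorElement_def]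
  simpa [mul_assoc] using h2

theorem V_not_le (h : PB B L N N1 N0 q) [Finite G] : ¬ ⁅N, L⁆ ≤ N0 := by
  intro hle
  obtain ⟨b, hb, w, hw, hne⟩ := h.exists_b
  obtain ⟨v, hv, hv1⟩ := h.exists_v
  exact hv1 (h.cent b hb ⟨w, hw, hne⟩ v hv (hle (h.comm_mem (h.BL hb) hv)))

/-- `[N, L] ≤ U` for every `L`-invariant subgroup `U` of `N` which is not in `N0`. -/
theorem V_le (h : PB B L N N1 N0 q) [Finite G] {U : Subgroup G} (hU : U ≤ N)
    (hLU : L ≤ normalizer (U : Set G)) (hne : ¬ U ≤ N0) : ⁅N, L⁆ ≤ U := by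
  rw [Subgroup.commutator_le]
  intro v hv l hl
  obtain ⟨u, hu, n, hn, rfl⟩ := h.cover hU hLU hne hv
  rw [h.comm_eq' hn hl, commutatorElement_def]
  have h1 := mul_mem hu ((mem_normalizer_iff.1 (hLU hl) _).1 (inv_mem hu))
  rwa [← mul_assoc, ← mul_assoc] at h1

theorem exists_V (h : PB B L N N1 N0 q) [Finite G] {v : G} (hv : v ∈ N) :
    ∃ u ∈ (⁅N, L⁆ : Subgroup G), ∃ n ∈ N0, v = u * n := h.cover h.VN h.LV h.V_not_le hv

/-- `[N, L] = [[N, L], L]` -/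
theorem V_perf (h : PB B L N N1 N0 q) [Finite G] : ⁅N, L⁆ ≤ ⁅(⁅N, L⁆ : Subgroup G), L⁆ := by
  rw [Subgroup.commutator_le]
  intro v hv l hl
  obtain ⟨u, hu, n, hn, rfl⟩ := h.exists_V hv
  rw [h.comm_eq' hn hl]
  exact commutator_mem_commutator hu hl

/-- `[[N, L], B] = [N, B]` -/
theorem VB_eq (h : PB B L N N1 N0 q) [Finite G] : ⁅(⁅N, L⁆ : Subgroup G), B⁆ = ⁅N, B⁆ := by
  apply le_antisymm (commutator_mono h.VN le_rfl)
  rw [Subgroup.commutator_le]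
  intro v hv b hb
  obtain ⟨u, hu, n, hn, rfl⟩ := h.exists_V hv
  rw [h.comm_eq' hn (h.BL hb)]
  exact commutator_mem_commutator hu hb

/-- `[N, L] = [N, B] [N, B]^l` -/
theorem V_sup (h : PB B L N N1 N0 q) [Finite G] {l : G} (hl : l ∈ L) (hm : Mv N1 l) :
    ⁅N, L⁆ ≤ ⁅N, B⁆ ⊔ cj l ⁅N, B⁆ := by
  set X : Subgroup G := ⁅N, B⁆ ⊔ cj l ⁅N, B⁆ with hX
  let S : Subgroup G :=
    { carrier := {g | g ∈ L ∧ ∀ v ∈ N, g * v * g⁻¹ * v⁻¹ ∈ X}
      mul_mem' := by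
        rintro a b ⟨ha, ha'⟩ ⟨hb, hb'⟩
        refine ⟨mul_mem ha hb, fun v hv => ?_⟩
        have e : a * b * v * (a * b)⁻¹ * v⁻¹ =
          (a * (b * v * b⁻¹) * a⁻¹ * (b * v * b⁻¹)⁻¹) * (b * v * b⁻¹ * v⁻¹) := by group
        rw [e]
        exact mul_mem (ha' _ (h.Nn b hb v hv)) (hb' v hv)
      one_mem' := ⟨one_mem _, fun v _ => by simp⟩
      inv_mem' := by
        rintro a ⟨ha, ha'⟩
        refine ⟨inv_mem ha, fun v hv => ?_⟩
        have h1 := inv_mem (ha' _ (h.Nn a⁻¹ (inv_mem ha) v hv))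
        have e : (a * (a⁻¹ * v * a⁻¹⁻¹) * a⁻¹ * (a⁻¹ * v * a⁻¹⁻¹)⁻¹)⁻¹ = a⁻¹ * v * a⁻¹⁻¹ * v⁻¹ := by group
        rwa [e] at h1 }
  have hB : B ≤ S := by
    intro b hb
    refine ⟨h.BL hb, fun v hv => mem_sup_left ?_⟩
    have h1 := inv_mem (commutator_mem_commutator hv hb)
    have e : (⁅v, b⁆)⁻¹ = b * v * b⁻¹ * v⁻¹ := by rw [commutatorElement_def]; group
    rwa [e] at h1
  have hS : L ≤ S := by
    refine h.gen l hl hm S hB fun b hb => ?_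
    refine ⟨mul_mem (mul_mem hl (h.BL hb)) (inv_mem hl), fun v hv => mem_sup_right ?_⟩
    have hv' : l⁻¹ * v * l ∈ N := by
      have := h.Nn l⁻¹ (inv_mem hl) v hv
      rwa [inv_inv] at this
    rw [mem_cj]
    have h1 := inv_mem (commutator_mem_commutator hv' hb)
    have e : (⁅l⁻¹ * v * l, b⁆)⁻¹ = l⁻¹ * (l * b * l⁻¹ * v * (l * b * l⁻¹)⁻¹ * v⁻¹) * l := by
      rw [commutatorElement_def]; group
    rwa [e] at h1
  rw [Subgroup.commutator_le]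
  intro v hv g hg
  have h1 := inv_mem ((hS hg).2 v hv)
  have e : (g * v * g⁻¹ * v⁻¹)⁻¹ = ⁅v, g⁆ := by rw [commutatorElement_def]; group
  rwa [e] at h1

/-- `Ω₁Z(B) = C_{Ω₁Z(B)}(L) N1`. -/
theorem Z_split (h : PB B L N N1 N0 q) [Finite G] {z : G} (hz : z ∈ zc B) :
    ∃ c ∈ zc B, (∀ l ∈ L, l * c = c * l) ∧ ∃ n ∈ N1, z = c * n := by
  obtain ⟨l, hl, hm⟩ := h.mv
  exact Z_split_aux h.pl hl hm (h.gen l hl hm) h.NB h.el h.N1c h.act hz

/-- `[Ω₁Z(B), L] ≤ [N, L]` -/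
theorem act_V (h : PB B L N N1 N0 q) [Finite G] {l z : G} (hl : l ∈ L) (hz : z ∈ zc B) :
    l * z * l⁻¹ * z⁻¹ ∈ (⁅N, L⁆ : Subgroup G) := by
  obtain ⟨c, hc, hcl, n, hn, rfl⟩ := h.Z_split hz
  have e : l * (c * n) * l⁻¹ * (c * n)⁻¹ = c * (l * n * l⁻¹ * n⁻¹) * c⁻¹ := by
    calc l * (c * n) * l⁻¹ * (c * n)⁻¹ = (l * c) * n * l⁻¹ * n⁻¹ * c⁻¹ := by group
      _ = (c * l) * n * l⁻¹ * n⁻¹ * c⁻¹ := by rw [hcl l hl]
      _ = _ := by group
  have h1 := h.comm_mem hl (h.N1N hn)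
  have h2 : (l * n * l⁻¹ * n⁻¹) * c = c * (l * n * l⁻¹ * n⁻¹) :=
    (mem_zc.1 hc).2.2 _ (h.NB (h.VN h1))
  rw [e, ← h2, mul_inv_cancel_right]
  exact h1

/-- An element of `B` centralising `[N, L]` centralises `N`. -/
theorem cent_N (h : PB B L N N1 N0 q) [Finite G] {x : G} (hx : x ∈ L)
    (hc : ∀ v ∈ (⁅N, L⁆ : Subgroup G), x * v = v * x) : ∀ v ∈ N, x * v = v * x := by
  intro v hv
  obtain ⟨u, hu, n, hn, rfl⟩ := h.exists_V hv
  have e1 := hc u hu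
  have e2 := h.N0c x hx n hn
  calc x * (u * n) = (x * u) * n := by group
    _ = u * (x * n) := by rw [e1]; group
    _ = u * n * x := by rw [e2]; group

/-- The module of the block. -/
theorem md (h : PB B L N N1 N0 q) [Finite G] : Md B ⁅N, L⁆ (⁅N, L⁆ ⊓ N1) q where
  VB := h.VN.trans h.NB
  el := isElementaryAbelian_mono h.el h.VN
  ZV := inf_le_left
  cZ := fun b hb z hz => h.N1c b hb z hz.2
  com := fun b hb v hv => mem_inf.2 ⟨mul_mem ((mem_normalizer_iff.1 (h.LV (h.BL hb)) v).1 hv) (inv_mem hv),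
    h.quad b hb v (h.VN hv)⟩
  free := by
    intro b hb v hv hvZ hbv u hu
    by_contra hne
    refine hvZ ⟨hv, h.cent b hb ⟨u, h.VN hu, hne⟩ v (h.VN hv) ?_⟩
    rw [hbv, mul_inv_cancel_right, mul_inv_cancel]
    exact one_mem _
  ne := by
    obtain ⟨b, hb, v, hv, hne⟩ := h.exists_b
    by_contra hc
    push Not at hc
    exact hne (h.cent_N (h.BL hb) (hc b hb) v hv)
  card := by
    have hc : ∀ a ∈ (⁅N, L⁆ : Subgroup G), ∀ b ∈ N1, a * b = b * a := fun a ha b hb =>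
      h.comm (h.VN ha) (h.N1N hb)
    have h1 := card_sup_comm hc
    have h2 : (⁅N, L⁆ : Subgroup G) ⊔ N1 = N := by
      apply le_antisymm (sup_le h.VN h.N1N)
      intro v hv
      obtain ⟨u, hu, n, hn, rfl⟩ := h.exists_V hv
      exact mul_mem (mem_sup_left hu) (mem_sup_right (h.N01 hn))
    rw [h2, h.card] at h1
    have hp : 0 < Nat.card N1 := Nat.card_pos
    refine Nat.eq_of_mul_eq_mul_right hp ?_
    rw [← h1]; ring
  cardB := by
    rw [h.cardB, mul_comm]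
    refine Nat.mul_le_mul_left _ (Subgroup.card_le_of_le (inf_le_inf_left _ ?_))
    exact centralizer_le (by exact_mod_cast h.VN)
  one := h.one

/-- **The FF-block.** -/
theorem fb (h : PB B L N N1 N0 q) [Finite G] : FB B L ⁅N, L⁆ (⁅N, L⁆ ⊓ N1) q where
  toMd := h.md
  BL := h.BL
  nV := fun l hl v hv => (mem_normalizer_iff.1 (h.LV hl) v).1 hv
  gen := by
    obtain ⟨l, hl, hm⟩ := h.mv
    refine h.gen l hl hm _ ?_ fun b hb => ?_
    · have h1 := le_iSup (fun x : L => cj (x : G) B) 1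
      rwa [OneMemClass.coe_one, cj_one] at h1
    · exact (le_iSup (fun x : L => cj (x : G) B) ⟨l, hl⟩) ⟨b, hb, rfl⟩
  syl := h.syl
  act := fun l hl z hz => h.act_V hl hz
  sup := by
    obtain ⟨l, hl, hm⟩ := h.mv
    refine ⟨l, hl, ?_⟩
    rw [h.VB_eq]
    exact h.V_sup hl hm
  tri := by
    intro l hl
    by_cases hm : Mv N1 l
    · right
      rintro x ⟨⟨z, hz, rfl⟩, hx2⟩
      have h1 := h.opp l hl hm z hz.2 hx2.2
      rw [mem_centralizer_iff]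
      exact fun g hg => h.N0c g hg _ h1
    · left
      have h1 := not_mv_iff.1 hm
      rw [cj_inf, cj_eq_of_mem_normalizer (h.LV hl), cj_eq_of_mem_normalizer h1]
  tor := by
    have hcen : ∀ {z : G}, z ∉ centralizer (L : Set G) → z ∉ N0 := by
      intro z hz hz0
      exact hz (mem_centralizer_iff.2 fun g hg => h.N0c g hg _ hz0)
    intro z hz hzc z' hz' hzc'
    obtain ⟨x, hx, hxn, hxc⟩ := h.tor z hz.2 (hcen hzc) z' hz'.2 (hcen hzc')
    exact ⟨x, hx, hxn, mem_centralizer_iff.2 fun g hg => h.N0c g hg _ hxc⟩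
  cor := fun l hl x hx hc => h.cor l hl x hx (h.cent_N (h.BL hx) hc)

/-- `⟨Ω₁Z(B)^L⟩ = Ω₁Z(B) N` -/
theorem iSup_zc (h : PB B L N N1 N0 q) [Finite G] :
    (⨆ x : L, MulAut.conj (x : G) • zc B : Subgroup G) = zc B ⊔ N := by
  have hzc : ∀ z ∈ zc B, ∀ v ∈ N, z * v = v * z := fun z hz v hv => ((mem_zc.1 hz).2.2 v (h.NB hv)).symm
  apply le_antisymm
  · refine iSup_le fun x => ?_
    rintro _ ⟨z, hz, rfl⟩
    have h1 := h.act x x.2 z hz
    have e : (x : G) * z * (x : G)⁻¹ = ((x : G) * z * (x : G)⁻¹ * z⁻¹) * z := by group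
    show (x : G) * z * (x : G)⁻¹ ∈ _
    rw [e]
    exact mul_mem (mem_sup_right h1) (mem_sup_left hz)
  · have hle : ∀ x ∈ L, cj x (zc B) ≤ ⨆ x : L, MulAut.conj (x : G) • zc B := fun x hx =>
      le_iSup (fun x : L => MulAut.conj (x : G) • zc B) ⟨x, hx⟩
    have h1 : zc B ≤ ⨆ x : L, MulAut.conj (x : G) • zc B := by
      have := hle 1 (one_mem _)
      rwa [cj_one] at this
    refine sup_le h1 fun v hv => ?_
    obtain ⟨l, hl, hm⟩ := h.mv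
    have hN1z : ∀ n ∈ N1, n ∈ zc B := fun n hn =>
      mem_zc.2 ⟨h.NB (h.N1N hn), elem_sq h.el n (h.N1N hn), fun b hb => h.N1c b hb n hn⟩
    obtain ⟨a, ha, b, hb, rfl⟩ := h.pl.split hl hm hv
    exact mul_mem (h1 (hN1z a ha)) (hle l hl ⟨b, hN1z b hb, rfl⟩)

theorem V_eq (h : PB B L N N1 N0 q) [Finite G] :
    (⁅N, L⁆ : Subgroup G) = ⁅(⨆ x : L, MulAut.conj (x : G) • zc B : Subgroup G), L⁆ := by
  rw [h.iSup_zc]
  apply le_antisymm (commutator_mono le_sup_right le_rfl)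
  rw [Subgroup.commutator_le]
  intro y hy l hl
  obtain ⟨z, hz, v, hv, rfl⟩ := mem_sup_comm (fun z hz v hv => ((mem_zc.1 hz).2.2 v (h.NB hv)).symm) hy
  have h1 := inv_mem (h.act_V hl hz)
  have h2 := inv_mem (h.comm_mem hl hv)
  have h3 : z * (l * v⁻¹ * l⁻¹) = (l * v⁻¹ * l⁻¹) * z := ((mem_zc.1 hz).2.2 _ (h.NB (h.Nn l hl _ (inv_mem hv)))).symm
  have h4 : z * v = v * z := ((mem_zc.1 hz).2.2 _ (h.NB hv)).symm
  have e : ⁅z * v, l⁆ = (l * v * l⁻¹ * v⁻¹)⁻¹ * (l * z * l⁻¹ * z⁻¹)⁻¹ := by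
    rw [commutatorElement_def]
    calc z * v * l * (z * v)⁻¹ * l⁻¹ = (z * v) * (l * v⁻¹ * l⁻¹) * (l * z⁻¹ * l⁻¹) := by group
      _ = (v * z) * (l * v⁻¹ * l⁻¹) * (l * z⁻¹ * l⁻¹) := by rw [h4]
      _ = v * (z * (l * v⁻¹ * l⁻¹)) * (l * z⁻¹ * l⁻¹) := by group
      _ = v * ((l * v⁻¹ * l⁻¹) * z) * (l * z⁻¹ * l⁻¹) := by rw [h3]
      _ = _ := by group
  rw [e]
  exact mul_mem h2 h1

/-- **The block of Lemma K.** -/
theorem block (h : PB B L N N1 N0 q) [Finite G] (hw : WeakNormal 2 B) : Block 2 B L ⁅N, L⁆ where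
  two := h.Bp
  le := h.BL
  nor := hw
  gen := h.fb.gen
  inv := inv_of h.BL h.fb.gen (normalizer_le_of_cj (F := zc) (fun g B => LemmaK.Main.zc_cj g B) B) le_rfl h.V_eq
  Vp := h.Bp.to_le (h.VN.trans h.NB)
  VL := h.VN.trans (h.NB.trans h.BL)
  LV := h.LV
  core := by
    intro W hW hWL hLW
    -- `W ≤ B`
    have h1 : W ≤ B := by
      have h2 : IsPGroup 2 (B ⊔ W : Subgroup G) :=
        IsPGroup.to_sup_of_normal_right' h.Bp hW (h.BL.trans hLW)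
      have h3 := h.syl _ le_sup_left (sup_le h.BL hWL) h2
      rw [← h3]; exact le_sup_right
    intro w hw
    refine mem_centralizer_iff.2 fun v hv => ?_
    have h4 : ∀ v ∈ N, w * v = v * w := by
      by_contra hc
      push Not at hc
      obtain ⟨l, hl, u, hu, hlu⟩ := h.mv
      apply hlu
      refine h.cent w (h1 hw) hc _ (h.Nn l hl u (h.N1N hu)) ?_
      have h5 : l⁻¹ * w * l ∈ B := by
        have := (mem_normalizer_iff.1 (hLW (inv_mem hl)) w).1 hw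
        rw [inv_inv] at this
        exact h1 this
      have h6 := h.N1c _ h5 u hu
      have e : w * (l * u * l⁻¹) * w⁻¹ * (l * u * l⁻¹)⁻¹ = 1 := by
        have e2 : w * (l * u * l⁻¹) = (l * u * l⁻¹) * w := by
          calc w * (l * u * l⁻¹) = l * ((l⁻¹ * w * l) * u) * l⁻¹ := by group
            _ = l * (u * (l⁻¹ * w * l)) * l⁻¹ := by rw [h6]
            _ = _ := by group
        rw [e2]; group
      rw [e]; exact one_mem _
    exact (h4 v (h.VN hv)).symm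
  irr := by
    intro U hU hLU
    by_cases hU0 : U ≤ N0
    · left
      intro x hx
      exact mem_centralizer_iff.2 fun g hg => h.N0c g hg _ (hU0 hx)
    · right
      exact h.V_le (hU.trans h.VN) hLU hU0
  perf := h.V_perf

end PB

end Cfsg.Agent.Omega.OM
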