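import Cfsg.Agent.Omega.OM.BlockUniq

/-!
# Weak closure of `B` and two conjugates of `B` with commuting center and axis (UNI+ of bb OMEGA #15330, helper938)

* `WC B`: `B` is the only conjugate of `B` in a 2-group containing `B`.
* `WC.eq_mod`: if `B^x, B^y ≤ P`, `P` normalises `U` and acts on it as a 2-group, then `B^x` and `B^y` are conjugate by an
  element of `C_P(U)`.
* `WC.star`: this happens if `[U, B^y] ≤ R ≤ C_U(⟨B^x, B^y⟩)`, `U` elementary abelian.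
-/

set_option autoImplicit false

namespace Cfsg.Agent.Omega.OM.WeakCl

open Subgroup Cfsg Cfsg.Agent.ZN Cfsg.Agent.ZN.ChoiceBase
open scoped Pointwise commutatorElement

universe u

variable {G : Type u} [Group G]

/-- `B` is weakly closed in every 2-group containing it. -/
def WC (B : Subgroup G) : Prop :=
  ∀ T : Subgroup G, IsPGroup 2 T → B ≤ T → ∀ g : G, cj g B ≤ T → cj g B = B

theorem WC.conj {B : Subgroup G} (h : WC B) (x : G) : WC (cj x B) := by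
  intro T hT hB g hg
  have h1 : IsPGroup 2 (cj x⁻¹ T) := hT.map _
  have h2 : B ≤ cj x⁻¹ T := by
    have := cj_mono x⁻¹ hB
    rwa [cj_inv_cj] at this
  have h3 : cj (x⁻¹ * g * x) B ≤ cj x⁻¹ T := by
    have := cj_mono x⁻¹ hg
    rwa [cj_cj, cj_cj] at this
  have h4 := h _ h1 h2 _ h3
  have h5 := congrArg (cj x) h4
  rw [cj_cj] at h5
  have e : x * (x⁻¹ * g * x) = g * x := by group
  rw [e] at h5
  rw [cj_cj, h5]

/-- A 2-group quotient is covered by a Sylow 2-subgroup. -/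
theorem eq_mod_aux [Finite G] {P C : Subgroup G} (hC : ∀ c ∈ C, ∀ p ∈ P, p * c * p⁻¹ ∈ C)
    (h2 : ∀ p ∈ P, ∃ k : ℕ, p ^ 2 ^ k ∈ C) (T : Sylow 2 P) :
    ∀ p ∈ P, ∃ t ∈ (T : Subgroup P).map P.subtype, ∃ c ∈ C, p = t * c := by
  classical
  have : Fact (Nat.Prime 2) := ⟨Nat.prime_two⟩
  set C' : Subgroup P := C.subgroupOf P with hC'
  have : C'.Normal := ⟨fun c hc p => by
    rw [hC', mem_subgroupOf] at hc ⊢
    exact hC _ hc _ p.2⟩
  have hq : IsPGroup 2 (P ⧸ C') := by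
    intro q
    obtain ⟨p, rfl⟩ := QuotientGroup.mk_surjective q
    obtain ⟨k, hk⟩ := h2 p p.2
    refine ⟨k, ?_⟩
    rw [← QuotientGroup.mk_pow, QuotientGroup.eq_one_iff, hC', mem_subgroupOf]
    exact hk
  -- the image of `T` is everything
  have hT : (T : Subgroup P) ⊔ C' = ⊤ := by
    have h1 : ¬ 2 ∣ ((T : Subgroup P) ⊔ C').index := fun h =>
      T.not_dvd_index (h.trans (Subgroup.index_dvd_of_le le_sup_left))
    have h2 : C' ≤ (T : Subgroup P) ⊔ C' := le_sup_right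
    have h3 : ((T : Subgroup P) ⊔ C').index ∣ C'.index := Subgroup.index_dvd_of_le h2
    obtain ⟨n, hn⟩ := IsPGroup.iff_card.1 hq
    have h4 : C'.index = 2 ^ n := by rw [Subgroup.index, ← hn]
    rw [h4] at h3
    obtain ⟨m, -, hm⟩ := (Nat.dvd_prime_pow Nat.prime_two).1 h3
    rw [← Subgroup.index_eq_one, hm]
    rcases Nat.eq_zero_or_pos m with h0 | h0
    · rw [h0, pow_zero]
    · exact absurd (by rw [hm]; exact dvd_pow_self 2 h0.ne') h1
  intro p hp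
  have h1 : (⟨p, hp⟩ : P) ∈ (T : Subgroup P) ⊔ C' := by rw [hT]; exact mem_top _
  rw [Subgroup.mem_sup_of_normal_right] at h1
  obtain ⟨t, ht, c, hc, e⟩ := h1
  refine ⟨t, ⟨t, ht, rfl⟩, c, ?_, ?_⟩
  · rw [hC', mem_subgroupOf] at hc; exact hc
  · exact (congrArg Subtype.val e).symm

theorem WC.eq_mod [Finite G] {B P : Subgroup G} (h : WC B) (hB : IsPGroup 2 B) {C : Subgroup G} {x y : G}
    (hx : cj x B ≤ P) (hy : cj y B ≤ P) (hC : ∀ c ∈ C, ∀ p ∈ P, p * c * p⁻¹ ∈ C)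
    (h2 : ∀ p ∈ P, ∃ k : ℕ, p ^ 2 ^ k ∈ C) : ∃ c ∈ C, cj (c * y) B = cj x B := by
  classical
  have : Fact (Nat.Prime 2) := ⟨Nat.prime_two⟩
  have hBx : IsPGroup 2 (cj x B) := hB.map _
  have hBy : IsPGroup 2 (cj y B) := hB.map _
  have hBx' : IsPGroup 2 ((cj x B).subgroupOf P) := hBx.comap_subtype
  have hBy' : IsPGroup 2 ((cj y B).subgroupOf P) := hBy.comap_subtype
  obtain ⟨T, hT⟩ := hBx'.exists_le_sylow
  obtain ⟨T', hT'⟩ := hBy'.exists_le_sylow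
  obtain ⟨p, hp⟩ := MulAction.exists_smul_eq P T' T
  -- `p B^y p⁻¹ ≤ T`
  have hT2 : cj x B ≤ (T : Subgroup P).map P.subtype := fun b hb => ⟨⟨b, hx hb⟩, hT (by
    rw [mem_subgroupOf]; exact hb), rfl⟩
  have hp1 : ∀ b ∈ cj y B, (p : G) * b * (p : G)⁻¹ ∈ (T : Subgroup P).map P.subtype := by
    intro b hb
    have h1 : (⟨b, hy hb⟩ : P) ∈ (T' : Subgroup P) := hT' (by rw [mem_subgroupOf]; exact hb)
    refine ⟨p * ⟨b, hy hb⟩ * p⁻¹, ?_, rfl⟩
    rw [SetLike.mem_coe, ← hp, Sylow.coe_subgroup_smul]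
    rw [Subgroup.mem_smul_pointwise_iff_exists]
    exact ⟨⟨b, hy hb⟩, h1, rfl⟩
  obtain ⟨t, ht, c, hc, e⟩ := eq_mod_aux hC h2 T p p.2
  have hT3 : IsPGroup 2 ((T : Subgroup P).map P.subtype) := T.isPGroup'.map _
  have hp2 : cj (c * y) B ≤ (T : Subgroup P).map P.subtype := by
    intro z hz
    rw [← cj_cj, mem_cj] at hz
    have h1 := hp1 _ hz
    rw [e] at h1
    have e2 : t * c * (c⁻¹ * z * c) * (t * c)⁻¹ = t * z * t⁻¹ := by group
    rw [e2] at h1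
    have h3 := mul_mem (mul_mem (inv_mem ht) h1) ht
    have e3 : t⁻¹ * (t * z * t⁻¹) * t = z := by group
    rwa [e3] at h3
  refine ⟨c, hc, ?_⟩
  have h3 := h.conj x _ hT3 hT2 (c * y * x⁻¹) (by
    rw [cj_cj, inv_mul_cancel_right]; exact hp2)
  rwa [cj_cj, inv_mul_cancel_right] at h3

/-- The subgroup of elements `k` with `[U, k] ≤ R` and `[R, k] = 1` -/
def stab (U R : Subgroup G) : Subgroup G where
  carrier := {k | (∀ r ∈ R, k * r = r * k) ∧ ∀ u ∈ U, k * u * k⁻¹ * u⁻¹ ∈ R}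
  one_mem' := ⟨fun r _ => by rw [one_mul, mul_one], fun u _ => by
    have : (1 : G) * u * 1⁻¹ * u⁻¹ = 1 := by group
    rw [this]; exact one_mem _⟩
  mul_mem' := by
    rintro a b ⟨ha, ha'⟩ ⟨hb, hb'⟩
    refine ⟨fun r hr => by rw [mul_assoc, hb r hr, ← mul_assoc, ha r hr, mul_assoc], fun u hu => ?_⟩
    have h1 := hb' u hu
    have e : a * b * u * (a * b)⁻¹ * u⁻¹ = (a * (b * u * b⁻¹ * u⁻¹) * a⁻¹) * (a * u * a⁻¹ * u⁻¹) := by group
    rw [e, ha _ h1, mul_inv_cancel_right]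
    exact mul_mem h1 (ha' u hu)
  inv_mem' := by
    rintro a ⟨ha, ha'⟩
    refine ⟨fun r hr => ?_, fun u hu => ?_⟩
    · have := ha r hr
      calc a⁻¹ * r = a⁻¹ * (r * a) * a⁻¹ := by group
        _ = a⁻¹ * (a * r) * a⁻¹ := by rw [this]
        _ = r * a⁻¹ := by group
    · have h1 := ha' u hu
      have h2 := ha _ (inv_mem h1)
      have e : a⁻¹ * u * a⁻¹⁻¹ * u⁻¹ = a⁻¹ * (a * u * a⁻¹ * u⁻¹)⁻¹ * a := by group
      have h3 : a⁻¹ * (a * u * a⁻¹ * u⁻¹)⁻¹ * a = (a * u * a⁻¹ * u⁻¹)⁻¹ := by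
        rw [mul_assoc, ← h2]; group
      rw [e, h3]
      exact inv_mem h1

theorem mem_stab {U R : Subgroup G} {k : G} :
    k ∈ stab U R ↔ (∀ r ∈ R, k * r = r * k) ∧ ∀ u ∈ U, k * u * k⁻¹ * u⁻¹ ∈ R := Iff.rfl

theorem stab_sq {U R : Subgroup G} (hRU : R ≤ U) (hU : ∀ u ∈ U, u * u = 1) {k : G} (hk : k ∈ stab U R) :
    ∀ u ∈ U, k ^ 2 * u = u * k ^ 2 := by
  intro u hu
  have h1 := hk.2 u hu
  have h2 := hk.1 _ h1
  have h3 := hU _ (hRU h1)
  obtain ⟨r, hr⟩ : ∃ r, r = k * u * k⁻¹ * u⁻¹ := ⟨_, rfl⟩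
  rw [← hr] at h1 h2 h3
  have e1 : k * u * k⁻¹ = r * u := by rw [hr]; group
  have e2 : k ^ 2 * u * (k ^ 2)⁻¹ = u := by
    calc k ^ 2 * u * (k ^ 2)⁻¹ = k * (k * u * k⁻¹) * k⁻¹ := by rw [pow_two]; group
      _ = k * (r * u) * k⁻¹ := by rw [e1]
      _ = (k * r) * u * k⁻¹ := by group
      _ = (r * k) * u * k⁻¹ := by rw [h2]
      _ = r * (k * u * k⁻¹) := by group
      _ = r * r * u := by rw [e1, mul_assoc]
      _ = u := by rw [h3, one_mul]
  calc k ^ 2 * u = (k ^ 2 * u * (k ^ 2)⁻¹) * k ^ 2 := by group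
    _ = u * k ^ 2 := by rw [e2]

/-- **The principle (⋆)**: `B^x, B^y` normalise the elementary abelian `U`, centralise `R ≤ U`, and `[U, B^y] ≤ R`.
Then `B^x` and `B^y` are conjugate by an element of `⟨B^x, B^y⟩` centralising `U`. -/
theorem WC.star [Finite G] {B U R : Subgroup G} (h : WC B) (hB : IsPGroup 2 B) (hRU : R ≤ U)
    (hU : ∀ u ∈ U, u * u = 1) {x y : G}
    (hxU : ∀ b ∈ cj x B, ∀ u ∈ U, b * u * b⁻¹ ∈ U) (hyU : ∀ b ∈ cj y B, ∀ u ∈ U, b * u * b⁻¹ ∈ U)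
    (hxR : ∀ b ∈ cj x B, ∀ r ∈ R, b * r = r * b) (hy : cj y B ≤ stab U R) :
    ∃ c : G, (∀ u ∈ U, c * u = u * c) ∧ cj (c * y) B = cj x B := by
  classical
  set P : Subgroup G := cj x B ⊔ cj y B with hP
  -- `P` normalises `U` and centralises `R`
  have hPU : ∀ p ∈ P, ∀ u ∈ U, p * u * p⁻¹ ∈ U := by
    have h1 : P ≤ normalizer (U : Set G) := by
      rw [hP, sup_le_iff]
      have key : ∀ g : G, (∀ b ∈ cj g B, ∀ u ∈ U, b * u * b⁻¹ ∈ U) → cj g B ≤ normalizer (U : Set G) := by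
        intro g hg b hb
        rw [mem_normalizer_iff]
        intro u
        refine ⟨hg b hb u, fun hu => ?_⟩
        have h3 := hg b⁻¹ (inv_mem hb) _ hu
        have e : b⁻¹ * (b * u * b⁻¹) * b⁻¹⁻¹ = u := by group
        rwa [e] at h3
      exact ⟨key x hxU, key y hyU⟩
    intro p hp u hu
    exact (mem_normalizer_iff.1 (h1 hp) u).1 hu
  have hPR : ∀ p ∈ P, ∀ r ∈ R, p * r = r * p := by
    have h1 : P ≤ centralizer (R : Set G) := by
      rw [hP, sup_le_iff]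
      exact ⟨fun b hb => mem_centralizer_iff.2 fun r hr => (hxR b hb r hr).symm,
        fun b hb => mem_centralizer_iff.2 fun r hr => ((hy hb).1 r hr).symm⟩
    intro p hp r hr
    exact (mem_centralizer_iff.1 (h1 hp) r hr).symm
  -- the kernel `K` of `P` on `U / R`
  set K : Subgroup G := P ⊓ stab U R with hK
  have hKP : ∀ k ∈ K, ∀ p ∈ P, p * k * p⁻¹ ∈ K := by
    rintro k ⟨hk, hk1, hk2⟩ p hp
    have hpk : p * k * p⁻¹ ∈ P := P.mul_mem (P.mul_mem hp hk) (P.inv_mem hp)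
    refine ⟨hpk, fun r hr => ?_, fun u hu => ?_⟩
    · exact hPR _ hpk r hr
    · have hu' : p⁻¹ * u * p ∈ U := by
        have := hPU p⁻¹ (inv_mem hp) u hu
        rwa [inv_inv] at this
      have h1 := hk2 _ hu'
      have h2 := hPR p hp _ h1
      have e : p * k * p⁻¹ * u * (p * k * p⁻¹)⁻¹ * u⁻¹ = p * (k * (p⁻¹ * u * p) * k⁻¹ * (p⁻¹ * u * p)⁻¹) * p⁻¹ := by
        group
      rw [e, h2]
      have e2 : k * (p⁻¹ * u * p) * k⁻¹ * (p⁻¹ * u * p)⁻¹ * p * p⁻¹ = k * (p⁻¹ * u * p) * k⁻¹ * (p⁻¹ * u * p)⁻¹ := by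
        group
      rw [e2]
      exact h1
  have hyK : cj y B ≤ K := le_inf le_sup_right hy
  -- `P = B^x K`
  have hPK : ∀ p ∈ P, ∃ b ∈ cj x B, ∃ k ∈ K, p = b * k := by
    intro p hp
    have hp' : p ∈ closure ((cj x B : Set G) ∪ (cj y B : Set G)) := by
      rw [Subgroup.closure_union, closure_eq, closure_eq]; exact hp
    clear hp
    induction hp' using Subgroup.closure_induction with
    | mem p hp =>
      rcases hp with hp | hp
      · exact ⟨p, hp, 1, one_mem _, (mul_one p).symm⟩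
      · exact ⟨1, one_mem _, p, hyK hp, (one_mul p).symm⟩
    | one => exact ⟨1, one_mem _, 1, one_mem _, (mul_one 1).symm⟩
    | mul p q hp hq ihp ihq =>
      obtain ⟨b, hb, k, hk, rfl⟩ := ihp
      obtain ⟨c, hc, l, hl, rfl⟩ := ihq
      refine ⟨b * c, mul_mem hb hc, c⁻¹ * k * c * l, mul_mem ?_ hl, by group⟩
      have := hKP k hk c⁻¹ (inv_mem (mem_sup_left hc))
      rwa [inv_inv] at this
    | inv p hp ihp =>
      obtain ⟨b, hb, k, hk, rfl⟩ := ihp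
      refine ⟨b⁻¹, inv_mem hb, b * k⁻¹ * b⁻¹, ?_, by group⟩
      exact hKP _ (inv_mem hk) b (mem_sup_left hb)
  have hBx : IsPGroup 2 (cj x B) := hB.map _
  -- `C = C_P(U)`
  set C : Subgroup G := P ⊓ centralizer (U : Set G) with hC
  have hCmem : ∀ c, c ∈ C ↔ c ∈ P ∧ ∀ u ∈ U, c * u = u * c := fun c => by
    rw [hC, mem_inf, mem_centralizer_iff]
    exact and_congr_right fun _ => ⟨fun h u hu => (h u hu).symm, fun h u hu => (h u hu).symm⟩
  have hCP : ∀ c ∈ C, ∀ p ∈ P, p * c * p⁻¹ ∈ C := by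
    intro c hc p hp
    obtain ⟨h1, h2⟩ := (hCmem c).1 hc
    refine (hCmem _).2 ⟨mul_mem (mul_mem hp h1) (inv_mem hp), fun u hu => ?_⟩
    have hu' : p⁻¹ * u * p ∈ U := by
      have := hPU p⁻¹ (inv_mem hp) u hu
      rwa [inv_inv] at this
    have h3 := h2 _ hu'
    calc p * c * p⁻¹ * u = p * (c * (p⁻¹ * u * p)) * p⁻¹ := by group
      _ = p * (p⁻¹ * u * p * c) * p⁻¹ := by rw [h3]
      _ = u * (p * c * p⁻¹) := by group
  have h2 : ∀ p ∈ P, ∃ k : ℕ, p ^ 2 ^ k ∈ C := by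
    intro p hp
    obtain ⟨b, hb, k, hk, rfl⟩ := hPK p hp
    obtain ⟨n, hn⟩ := hBx ⟨b, hb⟩
    have hn' : b ^ 2 ^ n = 1 := by
      have := congrArg Subtype.val hn
      simpa using this
    -- `(b k)^m ∈ b^m K`
    have key : ∀ m : ℕ, ∃ l ∈ K, (b * k) ^ m = b ^ m * l := by
      intro m
      induction m with
      | zero => exact ⟨1, one_mem _, by simp⟩
      | succ m ih =>
        obtain ⟨l, hl, e⟩ := ih
        refine ⟨b⁻¹ * l * b * k, mul_mem ?_ hk, ?_⟩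
        · have := hKP l hl b⁻¹ (inv_mem (mem_sup_left hb))
          rwa [inv_inv] at this
        · rw [pow_succ, e, pow_succ]; group
    obtain ⟨l, hl, e⟩ := key (2 ^ n)
    rw [hn', one_mul] at e
    refine ⟨n + 1, ?_⟩
    rw [pow_succ, pow_mul, e]
    refine (hCmem _).2 ⟨pow_mem hl.1 2, stab_sq hRU hU hl.2⟩
  obtain ⟨c, hc, e⟩ := h.eq_mod hB (P := P) (x := x) (y := y) le_sup_left le_sup_right hCP h2
  exact ⟨c, ((hCmem c).1 hc).2, e⟩

end Cfsg.Agent.Omega.OM.WeakCl
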