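import Cfsg.Agent.Omega.FrameNOFF

/-!
# NOFF: `⟨P, N_G(B)⟩` is local for every `B` between `O₂(P)` and `S`

Paper: helper477 #13961 (referee report on OM1 = #13281 of helper4), K-free, for a family of parabolics.
`S`, `Z`, `F` as in `NoFF.Basic.Sys` (no mutual noncommuting pair), `B ≤ S` contains `C_S(V_P)` for all `P ∈ F`,
`N` normalises `B`.  Then all conjugates of all `V_P` under `H = ⟨N, F⟩` lie in all `C_S(V_P')`; so they
generate an abelian normal subgroup of `H`.
-/

set_option autoImplicit false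

namespace Cfsg.Agent.Omega.OM.LocB

open Subgroup Cfsg Cfsg.Agent.ZN Cfsg.Agent.Omega.MinPar Cfsg.Agent.Omega.Frame
open Cfsg.Agent.Omega.NoFF.Basic
open Cfsg.Agent.MinSimple.VModule
open scoped Pointwise

universe u

section abs

variable {G : Type*} [Group G] {S Z B N : Subgroup G} {F : Set (Subgroup G)}

/-- `C_S(V_P) ≤ B ≤ S` for all `P ∈ F`, and `N` normalises `B`. -/
structure Bau (S Z B N : Subgroup G) (F : Set (Subgroup G)) : Prop extends Sys S Z F where
  BS : B ≤ S
  le_B : ∀ P ∈ F, S ⊓ centralizer (V Z P : Set G) ≤ B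
  NB : ∀ n ∈ N, MulAut.conj n • B = B

theorem conj_core {P : Subgroup G} (D : Sys S Z F) (hP : P ∈ F) {p : G} (hp : p ∈ P) :
    MulAut.conj p • (S ⊓ centralizer (V Z P : Set G)) ≤ S ⊓ centralizer (V Z P : Set G) := by
  intro x hx
  rw [mem_conj] at hx
  have hc : x ∈ centralizer (V Z P : Set G) := by
    rw [mem_centralizer_iff]
    intro y hy
    have hy' : p⁻¹ * y * p ∈ V Z P := by
      have h1 : MulAut.conj p • V Z P = V Z P := by
        have := conj_V_mul (Z := Z) (P := P) (g := 1) hp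
        rwa [one_mul, map_one, one_smul] at this
      have hy2 : y ∈ MulAut.conj p • V Z P := by rw [h1]; exact hy
      exact mem_conj.1 hy2
    have h2 := congrArg (fun t => p * t * p⁻¹) (mem_centralizer_iff.1 hx.2 _ hy')
    simpa [mul_assoc] using h2
  refine ⟨?_, hc⟩
  -- `p⁻¹ x p ∈ S ∩ C(V)`, so `p⁻¹ x p ∈ p⁻¹ S p`
  have h3 := D.core P hP p⁻¹ (P.inv_mem hp) _ hx.1 hx.2
  rw [mem_conj] at h3
  simpa [mul_assoc] using h3

/-- A letter. -/
def Ok (N : Subgroup G) (F : Set (Subgroup G)) (g : G) : Prop := g ∈ N ∨ ∃ P ∈ F, g ∈ P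

theorem Ok.inv {g : G} (h : Ok N F g) : Ok N F g⁻¹ := by
  rcases h with h | ⟨P, hP, h⟩
  · exact Or.inl (N.inv_mem h)
  · exact Or.inr ⟨P, hP, P.inv_mem h⟩

variable (D : Bau S Z B N F)
include D

/-- A letter maps a subgroup of all `C_S(V_P)` into `B`. -/
theorem Bau.step {g : G} (hg : Ok N F g) {A : Subgroup G} (hA : ∀ P ∈ F, A ≤ S ⊓ centralizer (V Z P : Set G))
    (hne : F.Nonempty) : MulAut.conj g • A ≤ B := by
  rcases hg with hg | ⟨P, hP, hg⟩
  · obtain ⟨P, hP⟩ := hne
    calc MulAut.conj g • A ≤ MulAut.conj g • B := conj_le_iff.2 ((hA P hP).trans (D.le_B P hP))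
      _ = B := D.NB g hg
  · calc MulAut.conj g • A ≤ MulAut.conj g • (S ⊓ centralizer (V Z P : Set G)) := conj_le_iff.2 (hA P hP)
      _ ≤ S ⊓ centralizer (V Z P : Set G) := conj_core D.toSys hP hg
      _ ≤ B := D.le_B P hP

theorem Bau.word (n : ℕ) : ∀ l : List G, l.length = n → (∀ g ∈ l, Ok N F g) → ∀ P ∈ F, ∀ P' ∈ F,
    MulAut.conj l.prod • V Z P ≤ S ⊓ centralizer (V Z P' : Set G) := by
  have key : ∀ h : G, (∀ P ∈ F, MulAut.conj h • V Z P ≤ B) → (∀ P ∈ F, MulAut.conj h⁻¹ • V Z P ≤ B) →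
      ∀ P ∈ F, ∀ P' ∈ F, MulAut.conj h • V Z P ≤ S ⊓ centralizer (V Z P' : Set G) := by
    intro h h1 h2 P hP P' hP'
    refine le_inf ((h1 P hP).trans D.BS) ?_
    have h3 := D.noff' hP hP' (g := h) (h := 1) (by
      rw [map_one, one_smul]
      exact ((h1 P hP).trans D.BS).trans (D.SP P' hP')) (by
      rw [map_one, one_smul]
      have h4 := ((h2 P' hP').trans D.BS).trans (D.SP P hP)
      have h5 := conj_le_iff (g := h) |>.2 h4
      rwa [conj_conj, mul_inv_cancel, map_one, one_smul] at h5)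
    rwa [map_one, one_smul] at h3
  have hV : ∀ P ∈ F, V Z P ≤ B := fun P hP =>
    (le_inf (V_le fun p hp => by
      have h0 : S ⊓ centralizer (V Z P : Set G) ≤ S ⊓ centralizer (V Z P : Set G) := le_rfl
      have hZ : Z ≤ S ⊓ centralizer (V Z P : Set G) := by
        refine le_inf D.ZS (le_trans ?_ (D.abel P hP))
        have := Z_le_V (Z := Z) (P := P) (one_mem P)
        rwa [map_one, one_smul] at this
      exact ((conj_le_iff.2 hZ).trans (conj_core D.toSys hP hp)).trans inf_le_left)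
      (D.abel P hP)).trans (D.le_B P hP)
  induction n with
  | zero =>
    intro l hl _ P hP P' hP'
    rw [List.length_eq_zero_iff] at hl
    subst hl
    exact key 1 (fun P hP => by rw [map_one, one_smul]; exact hV P hP)
      (fun P hP => by rw [inv_one, map_one, one_smul]; exact hV P hP) P hP P' hP'
  | succ n ih =>
    have half : ∀ l : List G, l.length = n + 1 → (∀ g ∈ l, Ok N F g) → ∀ P ∈ F,
        MulAut.conj l.prod • V Z P ≤ B := by
      intro l hl hok P hP
      cases l with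
      | nil => simp at hl
      | cons g l' =>
        rw [List.prod_cons, ← conj_conj]
        refine D.step (hok g (by simp)) (fun P' hP' => ?_) ⟨P, hP⟩
        exact ih l' (by simpa using hl) (fun x hx => hok x (by simp [hx])) P hP P' hP'
    intro l hl hok
    refine key _ (half l hl hok) ?_
    intro P hP
    have h1 := half (l.map (·⁻¹)).reverse (by simpa using hl) (by
      intro g hg
      simp only [List.mem_reverse, List.mem_map] at hg
      obtain ⟨x, hx, rfl⟩ := hg
      exact (hok x hx).inv) P hP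
    rwa [← List.prod_inv_reverse] at h1

theorem Bau.main {h : G} (hh : h ∈ N ⊔ sSup F) {P P' : Subgroup G} (hP : P ∈ F) (hP' : P' ∈ F) :
    MulAut.conj h • V Z P ≤ S ⊓ centralizer (V Z P' : Set G) := by
  have h1 : N ⊔ sSup F ≤ closure {g : G | Ok N F g} := by
    refine sup_le (fun g hg => subset_closure (Or.inl hg)) (sSup_le fun Q hQ g hg => ?_)
    exact subset_closure (Or.inr ⟨Q, hQ, hg⟩)
  have h2 : ∃ l : List G, (∀ g ∈ l, Ok N F g) ∧ l.prod = h := by
    have h3 := h1 hh
    clear hh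
    induction h3 using closure_induction with
    | mem x hx => exact ⟨[x], fun g hg => by rw [List.mem_singleton.1 hg]; exact hx, by simp⟩
    | one => exact ⟨[], by simp, by simp⟩
    | mul x y _ _ hx hy =>
      obtain ⟨l, hl, rfl⟩ := hx
      obtain ⟨m, hm, rfl⟩ := hy
      refine ⟨l ++ m, fun g hg => ?_, by simp⟩
      rcases List.mem_append.1 hg with h | h
      · exact hl g h
      · exact hm g h
    | inv x _ hx =>
      obtain ⟨l, hl, rfl⟩ := hx
      refine ⟨(l.map (·⁻¹)).reverse, fun g hg => ?_, (List.prod_inv_reverse _).symm⟩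
      simp only [List.mem_reverse, List.mem_map] at hg
      obtain ⟨x, hx, rfl⟩ := hg
      exact (hl x hx).inv
  obtain ⟨l, hl, rfl⟩ := h2
  exact D.word l.length l rfl hl P hP P' hP'

/-- **`⟨N, F⟩` normalises an abelian subgroup of `⋂ C_S(V_P)` containing all `V_P`.** -/
theorem Bau.exists_normal : ∃ U : Subgroup G, (∀ P ∈ F, V Z P ≤ U) ∧ U ≤ centralizer (U : Set G) ∧
    (F.Nonempty → U ≤ S) ∧ (∀ P ∈ F, U ≤ S ⊓ centralizer (V Z P : Set G)) ∧
    N ⊔ sSup F ≤ normalizer (U : Set G) := by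
  set H : Subgroup G := N ⊔ sSup F with hH
  set U : Subgroup G := ⨆ i : {x : G × Subgroup G // x.1 ∈ H ∧ x.2 ∈ F}, MulAut.conj i.1.1 • V Z i.1.2 with hU
  have le_U : ∀ {h : G} {P : Subgroup G}, h ∈ H → P ∈ F → MulAut.conj h • V Z P ≤ U := fun hh hP =>
    le_iSup (fun i : {x : G × Subgroup G // x.1 ∈ H ∧ x.2 ∈ F} => MulAut.conj i.1.1 • V Z i.1.2)
      ⟨(_, _), hh, hP⟩
  have U_le : ∀ {A : Subgroup G}, (∀ h ∈ H, ∀ P ∈ F, MulAut.conj h • V Z P ≤ A) → U ≤ A := fun h =>
    iSup_le fun i => h _ i.2.1 _ i.2.2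
  have hQ : ∀ P ∈ F, U ≤ S ⊓ centralizer (V Z P : Set G) := fun P hP =>
    U_le fun h hh P' hP' => D.main hh hP' hP
  have hn : ∀ h ∈ H, MulAut.conj h • U ≤ U := by
    intro h hh
    rw [Subgroup.pointwise_smul_subset_iff]
    refine U_le fun h' hh' P hP => ?_
    rw [← Subgroup.pointwise_smul_subset_iff, conj_conj]
    exact le_U (H.mul_mem hh hh') hP
  have hn' : H ≤ normalizer (U : Set G) := by
    intro h hh
    rw [mem_normalizer_iff]
    intro x
    constructor
    · intro hx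
      apply hn h hh
      rw [mem_conj]
      simpa [mul_assoc] using hx
    · intro hx
      have := hn h⁻¹ (H.inv_mem hh)
      apply this
      rw [mem_conj]
      simpa [mul_assoc] using hx
  refine ⟨U, fun P hP => ?_, ?_, fun ⟨P, hP⟩ => (hQ P hP).trans inf_le_left, hQ, hn'⟩
  · have := le_U (one_mem H) hP
    rwa [map_one, one_smul] at this
  · refine U_le fun h hh P hP => ?_
    apply comm_symm
    -- `U ≤ C(V_P)` and `h` normalises `U`
    have h1 : U ≤ centralizer (V Z P : Set G) := (hQ P hP).trans inf_le_right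
    have h2 := conj_le_centralizer (g := h) h1
    refine le_trans ?_ h2
    have h3 := hn h⁻¹ (H.inv_mem hh)
    have h4 := conj_le_iff (g := h) |>.2 h3
    rwa [conj_conj, mul_inv_cancel, map_one, one_smul] at h4

end abs

/-! ### In the frame -/

variable {G : Type u} [Group G] [Finite G]

/-- **THEOREM (helper477).** No mutual pair; `F ⊆ P*(S)` nonempty, `O₂(P) ≤ B ≤ S` for all `P ∈ F`.
Then `⟨N_G(B), F⟩` normalises a nontrivial elementary abelian subgroup `U ≤ B` containing all `V_P`. -/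
theorem exists_local (hc : IsCharacteristicTwoType G) (S : Sylow 2 G) (hm : ¬ FF (S : Subgroup G))
    {B : Subgroup G} (hB : B ≤ (S : Subgroup G)) {F : Set (Subgroup G)}
    (hF : ∀ P ∈ F, IsParS (S : Subgroup G) P ∧ o2 P ≤ B) (hne : F.Nonempty) (hS : (S : Subgroup G) ≠ ⊥) :
    ∃ U : Subgroup G, U ≠ ⊥ ∧ IsPGroup 2 U ∧ U ≤ B ∧ U ≤ centralizer (U : Set G) ∧
      normalizer (B : Set G) ≤ normalizer (U : Set G) ∧
      ∀ P ∈ F, zl (S : Subgroup G) P ≤ U ∧ U ≤ o2 P ∧ P ≤ normalizer (U : Set G) := by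
  have hQ : ∀ P ∈ F, (S : Subgroup G) ⊓ centralizer (V (zc (S : Subgroup G)) P : Set G) = o2 P :=
    fun P hP => (hF P hP).1.inf_centralizer S hc
  have D0 := FrameNOFF.sys hc S hm
  have D : Bau (S : Subgroup G) (zc (S : Subgroup G)) B (normalizer (B : Set G)) F :=
    { ZS := D0.ZS
      cent := D0.cent
      SP := fun P hP => D0.SP P (hF P hP).1
      abel := fun P hP => D0.abel P (hF P hP).1
      core := fun P hP => D0.core P (hF P hP).1
      noff := fun P hP P' hP' => D0.noff P (hF P hP).1 P' (hF P' hP').1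
      BS := hB
      le_B := fun P hP => (hQ P hP).le.trans (hF P hP).2
      NB := fun n hn => NoFF.Main.conj_eq_of_mem_normalizer hn }
  obtain ⟨U, h1, h2, h3, h4, h5⟩ := D.exists_normal
  obtain ⟨P, hP⟩ := hne
  have hUS : U ≤ (S : Subgroup G) := h3 ⟨P, hP⟩
  refine ⟨U, ?_, ?_, ?_, h2, le_sup_left.trans h5, fun P hP => ⟨h1 P hP, hQ P hP ▸ h4 P hP, ?_⟩⟩
  · intro h
    apply MinSimple.Basic.zc_ne_bot S.isPGroup' hS
    rw [eq_bot_iff, ← h]
    exact (zc_le_zl _ P).trans (h1 P hP)
  · exact S.isPGroup'.to_le hUS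
  · exact (h4 P hP).trans (D.le_B P hP)
  · exact (le_sSup hP).trans (le_sup_right.trans h5)

end Cfsg.Agent.Omega.OM.LocB
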