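import Cfsg.Agent.Omega.OM.Uni
import Cfsg.Agent.Omega.OM.LocB

/-!
# (U1): `N_G(B) ≤ N_G(V_P)` and `N_G(B)` permutes the `Z i`
-/

set_option autoImplicit false

namespace Cfsg.Agent.Omega.OM.Uni

open Subgroup Cfsg Cfsg.Agent.ZN Cfsg.Agent.ZN.ChoiceBase Cfsg.Agent.Omega.Frame
open Cfsg.Agent.Omega.MinPar
open Cfsg.Agent.Omega.OM.BlockUniq (Mx)

universe u

variable {G : Type u} [Group G] [Finite G]

/-- `m(S)` bounds the orders of all elementary abelian 2-subgroups. -/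
theorem mx_sylow (S : Sylow 2 G) : Mx G (mm (S : Subgroup G)) := by
  intro E hE
  have h2 : IsPGroup 2 E := by
    intro x
    exact ⟨1, by rw [pow_one]; exact Subtype.ext (SQ1.Bau.elem_sq hE x x.2)⟩
  obtain ⟨S', hS'⟩ := h2.exists_le_sylow
  obtain ⟨g, hg⟩ := MulAction.exists_smul_eq G S S'
  have hg2 : (S' : Subgroup G) = cj g (S : Subgroup G) := by
    rw [← hg, Sylow.coe_subgroup_smul]
    rfl
  have h1 := card_le_mm hE hS'
  rwa [hg2, mm_cj] at h1

/-- **(U1)** in a group of characteristic 2 type without mutual pairs. -/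
theorem norm_bau (hc : IsCharacteristicTwoType G) (S : Sylow 2 G) (hm : ¬ FF (S : Subgroup G)) {P : Subgroup G}
    (hP : IsParS (S : Subgroup G) P) (hS : (S : Subgroup G) ≠ ⊥) {ι : Type*} [Finite ι] {Q ZJ : Subgroup G}
    {L W Z C A : ι → Subgroup G} {q m : ℕ}
    (h : Fr (bau (S : Subgroup G)) Q (zl (S : Subgroup G) P) ZJ L W Z C A q m)
    (hQ : o2 P ≤ bau (S : Subgroup G)) {g : G} (hg : g ∈ normalizer (bau (S : Subgroup G) : Set G)) :
    cj g (zl (S : Subgroup G) P) = zl (S : Subgroup G) P ∧ ∀ i, ∃ j, cj g (Z i) = Z j ∧ cj g (W i) ≤ W j ⊔ ZJ := by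
  obtain ⟨U, -, -, -, hU, hUn, hUP⟩ := LocB.exists_local hc S hm (ChoiceBase.bau_le _) (F := {P})
    (by rintro _ rfl; exact ⟨hP, hQ⟩) ⟨P, rfl⟩ hS
  have hVU := (hUP P rfl).1
  refine h.norm_of hg fun w hw v hv => ?_
  have h1 : w ∈ U := by
    have h2 := cj_mono g hVU hw
    rwa [cj_eq_of_mem_normalizer (hUn hg)] at h2
  exact mem_centralizer_iff.1 (hU (hVU hv)) w h1

end Cfsg.Agent.Omega.OM.Uni
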