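import Cfsg.Agent.Omega.OM.Uni
import Cfsg.Agent.Omega.OM.WeakCl
import Cfsg.Agent.Omega.LemmaK
import Cfsg.Agent.StdEven.Avg

/-!
# UNI+ : blocks over a Baumann group `B` (bb OMEGA #15330, helper938)

* `exists_fix` : block fact (i): `Ω₁Z(B) = Z × C(L)` for every `FB`;
* `NB B L V Z q` : natural block (`FB` with `|Z| = q`); `NB.block` : it is a `LemmaK.Block`; `NB.commute_of_fix` (K);
* `star_blocks`, `star_main` : the principle (⋆); `uni_two` : `q = 2`, (B) and (C) together;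
* `not_comm`, `C_le_of_two_lt`, `caseA` : UNI+ (A), (B); `uniPlus`, `uniPlus'` : UNI+;
* `two'` : (2');  `wc_bau` : the Baumann group is weakly closed.
-/

set_option autoImplicit false

namespace Cfsg.Agent.Omega.OM.UniPlus

open Subgroup Cfsg Cfsg.Agent.PLocal.ThompsonJ Cfsg.Agent.ZN Cfsg.Agent.ZN.ChoiceBase
open Cfsg.Agent.PLocal.ElemAbSup
open Cfsg.Agent.Omega.SQ1.Bau (mem_sup_comm card_sup_comm elem_comm elem_sq)
open Cfsg.Agent.Omega.OM.BlockUniq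
open Cfsg.Agent.Omega.OM.Uni
open Cfsg.Agent.Omega.OM.WeakCl
open scoped Pointwise commutatorElement

universe u

variable {G : Type u} [Group G]

/-! ### The image of one element -/

section md

variable {B V Z : Subgroup G} {q : ℕ}

/-- `v ↦ [b, v]` is a homomorphism with kernel `Z`. -/
theorem exists_comm_range (h : Md B V Z q) [Finite G] {b : G} (hb : b ∈ B) (hne : ¬ ∀ u ∈ V, b * u = u * b) :
    ∃ R : Subgroup G, R ≤ Z ∧ (∀ r ∈ R, ∃ v ∈ V, r = b * v * b⁻¹ * v⁻¹) ∧ (∀ v ∈ V, b * v * b⁻¹ * v⁻¹ ∈ R) ∧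
      Nat.card R = q := by
  classical
  let f : V →* G :=
    { toFun := fun v => b * v * b⁻¹ * (v : G)⁻¹
      map_one' := by simp
      map_mul' := by
        intro x y
        have h1 := h.com b hb y y.2
        have h2 := h.comm (h.ZV h1) (inv_mem x.2)
        show b * ((x : G) * y) * b⁻¹ * ((x : G) * y)⁻¹ = b * x * b⁻¹ * (x : G)⁻¹ * (b * y * b⁻¹ * (y : G)⁻¹)
        have e : b * ((x : G) * y) * b⁻¹ * ((x : G) * y)⁻¹ = b * x * b⁻¹ * ((b * y * b⁻¹ * (y : G)⁻¹) * (x : G)⁻¹) := by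
          group
        rw [e, h2]
        group }
  have hf : ∀ v : V, f v = b * v * b⁻¹ * (v : G)⁻¹ := fun v => rfl
  have hker : ∀ v : V, v ∈ f.ker ↔ (v : G) ∈ Z := by
    intro v
    rw [MonoidHom.mem_ker, hf]
    constructor
    · intro h1
      refine h.mem_Z hb hne v.2 ?_
      exact mul_inv_eq_iff_eq_mul.1 (mul_inv_eq_one.1 h1)
    · intro h1
      rw [h.cZ b hb v h1]; group
  refine ⟨f.range, ?_, ?_, ?_, ?_⟩
  · rintro _ ⟨x, rfl⟩
    exact h.com b hb x x.2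
  · rintro _ ⟨x, rfl⟩
    exact ⟨x, x.2, rfl⟩
  · intro v hv
    exact ⟨⟨v, hv⟩, rfl⟩
  · have h1 : Nat.card f.ker = Nat.card Z := by
      refine Nat.card_congr
        { toFun := fun x => ⟨x.1, (hker x.1).1 x.2⟩
          invFun := fun x => ⟨⟨x.1, h.ZV x.2⟩, (hker _).2 x.2⟩
          left_inv := fun x => rfl
          right_inv := fun x => rfl }
    have h2 : Nat.card f.range = f.ker.index := by
      rw [Subgroup.index_ker]
    have h3 := Subgroup.card_mul_index f.ker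
    rw [h1, h.card] at h3
    rw [h2]
    exact Nat.eq_of_mul_eq_mul_left Nat.card_pos h3

/-- if `|Z| = q` then `[V, b] = Z` for every `b` acting nontrivially -/
theorem exists_eq_comm (h : Md B V Z q) [Finite G] (hZ : Nat.card Z = q) {b : G} (hb : b ∈ B)
    (hne : ¬ ∀ u ∈ V, b * u = u * b) {z : G} (hz : z ∈ Z) : ∃ v ∈ V, z = b * v * b⁻¹ * v⁻¹ := by
  obtain ⟨R, h1, h2, -, h4⟩ := exists_comm_range h hb hne
  have h5 : R = Z := Subgroup.eq_of_le_of_card_ge h1 (by rw [h4, hZ])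
  exact h2 z (by rw [h5]; exact hz)

theorem Z_le_zc (h : Md B V Z q) : Z ≤ zc B := fun z hz =>
  ChoiceBase.mem_zc.2 ⟨h.VB (h.ZV hz), elem_sq h.el z (h.ZV hz), fun b hb => h.cZ b hb z hz⟩

end md

/-! ### A general block -/

section fb

variable {B L V Z : Subgroup G} {q : ℕ}

theorem odd_relIndex [Finite G] (h : FB B L V Z q) (hB : IsPGroup 2 B) : Odd (B.relIndex L) := by
  classical
  have : Fact (Nat.Prime 2) := ⟨Nat.prime_two⟩
  have h1 : IsPGroup 2 (B.subgroupOf L) := hB.comap_subtype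
  obtain ⟨T, hT⟩ := h1.exists_le_sylow
  have h2 : (T : Subgroup L).map L.subtype = B := by
    refine h.syl _ ?_ ?_ (T.isPGroup'.map _)
    · intro b hb
      exact ⟨⟨b, h.BL hb⟩, hT (by rw [mem_subgroupOf]; exact hb), rfl⟩
    · rintro _ ⟨x, -, rfl⟩
      exact x.2
  have h3 : (T : Subgroup L) = B.subgroupOf L := by
    ext x
    rw [mem_subgroupOf, ← h2]
    constructor
    · exact fun hx => ⟨x, hx, rfl⟩
    · rintro ⟨y, hy, e⟩
      have : y = x := Subtype.ext e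
      rwa [← this]
  rw [← Nat.not_even_iff_odd, even_iff_two_dvd, relIndex, ← h3]
  exact T.not_dvd_index

/-- `L` normalises `V Ω₁Z(B)`. -/
theorem nE (h : FB B L V Z q) {l : G} (hl : l ∈ L) {e : G} (he : e ∈ V ⊔ zc B) : l * e * l⁻¹ ∈ V ⊔ zc B := by
  have hcomm : ∀ v ∈ V, ∀ z ∈ zc B, v * z = z * v := fun v hv z hz =>
    (ChoiceBase.mem_zc.1 hz).2.2 v (h.VB hv)
  obtain ⟨v, hv, z, hz, rfl⟩ := mem_sup_comm hcomm he
  have e1 : l * (v * z) * l⁻¹ = (l * v * l⁻¹) * (l * z * l⁻¹ * z⁻¹) * z := by group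
  rw [e1]
  exact mul_mem (mem_sup_left (mul_mem (h.nV l hl v hv) (h.act l hl z hz))) (mem_sup_right hz)

/-- **Block fact (i)**: `Ω₁Z(B) = Z × C_{Ω₁Z(B)}(L)`. -/
theorem exists_fix [Finite G] (h : FB B L V Z q) (hB : IsPGroup 2 B) {z : G} (hz : z ∈ zc B) :
    ∃ a ∈ Z, ∃ c ∈ zc B, (∀ l ∈ L, l * c = c * l) ∧ z = a * c := by
  have hcomm : ∀ v ∈ V, ∀ z ∈ zc B, v * z = z * v := fun v hv z hz =>
    (ChoiceBase.mem_zc.1 hz).2.2 v (h.VB hv)
  obtain ⟨hzB, hz2, hzc⟩ := ChoiceBase.mem_zc.1 hz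
  have hzz : z * z = 1 := by rw [← pow_two]; exact hz2
  have hE : ∀ x ∈ V ⊔ zc B, ∀ y ∈ V ⊔ zc B, x * y = y * x := by
    intro x hx y hy
    obtain ⟨v, hv, s, hs, rfl⟩ := mem_sup_comm hcomm hx
    obtain ⟨w, hw, t, ht, rfl⟩ := mem_sup_comm hcomm hy
    have c1 : Commute v w := h.comm hv hw
    have c2 : Commute v t := hcomm v hv t ht
    have c3 : Commute w s := hcomm w hw s hs
    have c4 : Commute s t := (ChoiceBase.mem_zc.1 ht).2.2 s (ChoiceBase.mem_zc.1 hs).1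
    exact ((c1.mul_right c2).mul_left (c3.symm.mul_right c4)).eq
  obtain ⟨w, hw, hfix⟩ := StdEven.Avg.exists_fixed (N := L) (V := V ⊔ zc B) (T := B) (W := V) (t := z) hE
    (fun n hn v hv => nE h hn hv) (odd_relIndex h hB) (mem_sup_right hz) hzc hzz (by
      intro n hn
      have h1 := h.act n hn z hz
      have h2 : z * (n * z * n⁻¹) = (n * z * n⁻¹) * z :=
        hE z (mem_sup_right hz) _ (nE h hn (mem_sup_right hz))
      have e : z * (n * z * n⁻¹) = (n * z * n⁻¹ * z⁻¹) * (z * z) := by rw [h2]; group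
      rw [e, hzz, mul_one]
      exact h1)
  have hww : w * w = 1 := by rw [← pow_two]; exact elem_sq h.el w hw
  have hzw : w * z = z * w := hcomm w hw z hz
  have hwZ : w ∈ Z := by
    rw [h.toMd.mem_Z_iff]
    refine ⟨hw, fun b hb => ?_⟩
    have h1 := hfix b (h.BL hb)
    have h2 := hzc b hb
    calc b * w = z⁻¹ * (z * b) * w := by group
      _ = z⁻¹ * (b * z) * w := by rw [h2]
      _ = z⁻¹ * (b * (z * w)) := by group
      _ = z⁻¹ * (z * w * b) := by rw [h1]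
      _ = w * b := by group
  refine ⟨w, hwZ, z * w, mul_mem hz (Z_le_zc h.toMd hwZ), hfix, ?_⟩
  calc z = z * (w * w) := by rw [hww, mul_one]
    _ = (z * w) * w := by group
    _ = (w * z) * w := by rw [hzw]
    _ = w * (z * w) := by group

end fb

/-! ### Natural blocks -/

/-- natural block: `|Z| = q` -/
structure NB (B L V Z : Subgroup G) (q : ℕ) : Prop extends FB B L V Z q where
  cardZ : Nat.card Z = q

namespace NB

variable {B L V Z : Subgroup G} {q : ℕ}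

theorem conj (h : NB B L V Z q) (g : G) : NB (cj g B) (cj g L) (cj g V) (cj g Z) q where
  toFB := h.toFB.conj g
  cardZ := by rw [card_cj]; exact h.cardZ

theorem cjV (h : NB B L V Z q) {l : G} (hl : l ∈ L) : cj l Z ≤ V := by
  rintro _ ⟨z, hz, rfl⟩
  exact h.nV l hl z (h.ZV hz)

theorem spl (h : NB B L V Z q) [Finite G] : ∃ k ∈ L, V = Z ⊔ cj k Z ∧ Z ⊓ cj k Z = ⊥ := by
  obtain ⟨k, hk, hs⟩ := h.sup
  have h2 : ⁅V, B⁆ ≤ Z := h.comm_le le_rfl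
  have hs' : V = Z ⊔ cj k Z :=
    le_antisymm (hs.trans (sup_le (h2.trans le_sup_left) ((cj_mono k h2).trans le_sup_right)))
      (sup_le h.ZV (h.cjV hk))
  refine ⟨k, hk, hs', ?_⟩
  have hcc := card_sup_comm (A := Z) (B := cj k Z) fun a ha b hb' => h.comm (h.ZV ha) (h.cjV hk hb')
  rw [← hs', h.card, card_cj, h.cardZ] at hcc
  have h1 := h.one
  have h3 : Nat.card ↥(Z ⊓ cj k Z) = 1 := by
    have hq0 : 0 < q * q := Nat.mul_pos (by omega) (by omega)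
    exact Nat.eq_of_mul_eq_mul_left hq0 (by rw [hcc, mul_one])
  rw [← Subgroup.card_eq_one]; exact h3

theorem cent (h : NB B L V Z q) [Finite G] {z : G} (hz : z ∈ Z) (hc : ∀ l ∈ L, l * z = z * l) : z = 1 := by
  obtain ⟨k, hk, -, h2⟩ := h.spl
  have h3 : z ∈ Z ⊓ cj k Z := by
    refine mem_inf.2 ⟨hz, ?_⟩
    rw [mem_cj]
    have h4 := hc k hk
    have e : k⁻¹ * z * k = k⁻¹ * (z * k) := by group
    rw [e, ← h4]
    have e2 : k⁻¹ * (k * z) = z := by group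
    rwa [e2]
  rwa [h2, mem_bot] at h3

theorem tri' (h : NB B L V Z q) [Finite G] {l : G} (hl : l ∈ L) (hne : cj l Z ≠ Z) : cj l Z ⊓ Z = ⊥ := by
  rcases h.tri l hl with h1 | h1
  · exact absurd h1 hne
  rw [eq_bot_iff]
  intro x hx
  rw [mem_bot]
  exact h.cent hx.2 fun l hl => mem_centralizer_iff.1 (h1 hx) l hl

theorem nZ (h : NB B L V Z q) {x : G} (hx : x ∈ L) (hxB : x ∈ normalizer (B : Set G)) {z : G} (hz : z ∈ Z) :
    x * z * x⁻¹ ∈ Z := by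
  rw [h.toMd.mem_Z_iff]
  refine ⟨h.nV x hx z (h.ZV hz), fun b hb => ?_⟩
  have hb' : x⁻¹ * b * x ∈ B := by
    have := (mem_normalizer_iff.1 (inv_mem hxB) b).1 hb
    rwa [inv_inv] at this
  have h1 := h.cZ _ hb' z hz
  calc b * (x * z * x⁻¹) = x * ((x⁻¹ * b * x) * z) * x⁻¹ := by group
    _ = x * (z * (x⁻¹ * b * x)) * x⁻¹ := by rw [h1]
    _ = x * z * x⁻¹ * b := by group

theorem tor' (h : NB B L V Z q) [Finite G] {z z' : G} (hz : z ∈ Z) (h1 : z ≠ 1) (hz' : z' ∈ Z) (h1' : z' ≠ 1) :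
    ∃ x ∈ L, x ∈ normalizer (B : Set G) ∧ x * z * x⁻¹ = z' := by
  have key : ∀ z ∈ Z, z ≠ 1 → z ∉ centralizer (L : Set G) := fun z hz h1 hc =>
    h1 (h.cent hz fun l hl => mem_centralizer_iff.1 hc l hl)
  obtain ⟨x, hx, hxn, hxc⟩ := h.tor z hz (key z hz h1) z' hz' (key z' hz' h1')
  refine ⟨x, hx, hxn, ?_⟩
  by_contra hne
  exact key _ (mul_mem (h.nZ hx hxn hz) (inv_mem hz')) (fun e => hne (mul_inv_eq_one.1 e)) hxc

/-- `cj y B` centralises `cj y Z`, and its commutators on `V` are in `cj y Z`. -/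
theorem com' (h : NB B L V Z q) {y : G} (hy : y ∈ L) {b : G} (hb : b ∈ cj y B) {v : G} (hv : v ∈ V) :
    b * v * b⁻¹ * v⁻¹ ∈ cj y Z := by
  rw [mem_cj] at hb ⊢
  have h1 := h.com _ hb _ (h.toFB.nV' hy hv)
  have e : y⁻¹ * (b * v * b⁻¹ * v⁻¹) * y =
      (y⁻¹ * b * y) * (y⁻¹ * v * y) * (y⁻¹ * b * y)⁻¹ * (y⁻¹ * v * y)⁻¹ := by group
  rwa [e]

theorem cZ'' (h : NB B L V Z q) {y : G} {b : G} (hb : b ∈ cj y B) {z : G} (hz : z ∈ cj y Z) : b * z = z * b := by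
  rw [mem_cj] at hb hz
  exact comm_cj (h.cZ _ hb _ hz)

/-- `C = C_{Ω₁Z(B)}(L)`. -/
theorem cC (h : NB B L V Z q) {y : G} (hy : y ∈ L) {b : G} (hb : b ∈ cj y B) {c : G}
    (hc : ∀ l ∈ L, l * c = c * l) : b * c = c * b := by
  rw [mem_cj] at hb
  refine hc b ?_
  have h1 := mul_mem (mul_mem hy (h.BL hb)) (inv_mem hy)
  have e : y * (y⁻¹ * b * y) * y⁻¹ = b := by group
  rwa [e] at h1

end NB

/-! ### LEMMA K for natural blocks -/

section K

variable {B L V Z : Subgroup G} {q : ℕ}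

theorem NB.Z_le_comm (h : NB B L V Z q) [Finite G] : Z ≤ ⁅V, B⁆ := by
  obtain ⟨b, hb, v, hv, hne⟩ := h.ne
  intro z hz
  obtain ⟨w, hw, e⟩ := exists_eq_comm h.toMd h.cardZ hb (fun h1 => hne (h1 v hv)) hz
  rw [e]
  have e2 : b * w * b⁻¹ * w⁻¹ = ⁅w, b⁆⁻¹ := by rw [commutatorElement_def]; group
  rw [e2]
  exact inv_mem (commutator_mem_commutator hw hb)

/-- a subgroup of `V` normalised by `L` is trivial or `V`. -/
theorem NB.irr' (h : NB B L V Z q) [Finite G] {U : Subgroup G} (hU : U ≤ V)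
    (hL : ∀ l ∈ L, ∀ u ∈ U, l * u * l⁻¹ ∈ U) : (∀ u ∈ U, ∀ l ∈ L, l * u = u * l) ∨ V ≤ U := by
  by_cases h0 : ∀ u ∈ U, ∀ l ∈ L, l * u = u * l
  · exact Or.inl h0
  right
  push Not at h0
  obtain ⟨u, hu, l, hl, hne⟩ := h0
  -- some `B^x` moves `u`
  obtain ⟨x, hx, b, hb, hbu⟩ : ∃ x ∈ L, ∃ b ∈ cj x B, b * u ≠ u * b := by
    by_contra hcon
    push Not at hcon
    have h1 : L ≤ centralizer ({u} : Set G) := by
      refine h.gen.trans (iSup_le fun x b hb => mem_centralizer_singleton_iff.2 (hcon x x.2 b hb))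
    exact hne (mem_centralizer_singleton_iff.1 (h1 hl))
  -- `r = [b, u] ∈ Z^x ∩ U`
  have hr1 := h.com' hx hb (hU hu)
  have hbL : b ∈ L := LemmaK.Main.cj_le_of_mem h.BL hx hb
  have hr2 : b * u * b⁻¹ * u⁻¹ ∈ U := mul_mem (hL b hbL u hu) (inv_mem hu)
  have hr3 : b * u * b⁻¹ * u⁻¹ ≠ 1 := fun e => hbu (mul_inv_eq_iff_eq_mul.1 (mul_inv_eq_one.1 e))
  rw [mem_cj] at hr1
  have hr4 : x⁻¹ * (b * u * b⁻¹ * u⁻¹) * x ∈ U := by
    have := hL x⁻¹ (inv_mem hx) _ hr2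
    rwa [inv_inv] at this
  have hr5 : x⁻¹ * (b * u * b⁻¹ * u⁻¹) * x ≠ 1 := by
    intro e
    apply hr3
    have := congrArg (fun t => x * t * x⁻¹) e
    simpa [mul_assoc] using this
  have hZU : Z ≤ U := by
    intro z hz
    by_cases hz1 : z = 1
    · rw [hz1]; exact one_mem _
    obtain ⟨y, hy, -, e⟩ := h.tor' hr1 hr5 hz hz1
    rw [← e]
    exact hL y hy _ hr4
  obtain ⟨k, hk, hk1, -⟩ := h.spl
  rw [hk1]
  refine sup_le hZU ?_
  rintro _ ⟨z, hz, rfl⟩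
  exact hL k hk z (hZU hz)

theorem norm_of_forall {A L : Subgroup G} (h : ∀ l ∈ L, ∀ a ∈ A, l * a * l⁻¹ ∈ A) : L ≤ normalizer (A : Set G) := by
  intro l hl
  rw [mem_normalizer_iff]
  intro a
  refine ⟨h l hl a, fun ha => ?_⟩
  have h1 := h l⁻¹ (inv_mem hl) _ ha
  have e : l⁻¹ * (l * a * l⁻¹) * l⁻¹⁻¹ = a := by group
  rwa [e] at h1

theorem WC.weakNormal {B : Subgroup G} (h : WC B) : LemmaK.WeakNormal 2 B := by
  intro T hT hBT t ht
  rw [mem_normalizer_iff_cj]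
  refine h T hT hBT t ?_
  rintro _ ⟨b, hb, rfl⟩
  exact mul_mem (mul_mem ht (hBT hb)) (inv_mem ht)

/-- a natural block is a block of LEMMA K -/
theorem NB.block (h : NB B L V Z q) [Finite G] (hWC : WC B) (hB : IsPGroup 2 B) : LemmaK.Block 2 B L V where
  two := hB
  le := h.BL
  nor := WC.weakNormal hWC
  gen := h.gen
  inv := by
    intro g hg
    -- `V = ⟨[l, z]⟩`
    set D : Subgroup G := closure {x | ∃ l ∈ L, ∃ z ∈ zc B, x = l * z * l⁻¹ * z⁻¹} with hD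
    have hmem : ∀ l ∈ L, ∀ z ∈ zc B, l * z * l⁻¹ * z⁻¹ ∈ D := fun l hl z hz => subset_closure ⟨l, hl, z, hz, rfl⟩
    have hDV : D ≤ V := by
      rw [hD, closure_le]
      rintro x ⟨l, hl, z, hz, rfl⟩
      exact h.act l hl z hz
    have hLD : ∀ l ∈ L, ∀ d ∈ D, l * d * l⁻¹ ∈ D := by
      intro l hl
      have h1 : D ≤ D.comap (MulAut.conj l).toMonoidHom := by
        conv_lhs => rw [hD]
        rw [closure_le]
        rintro x ⟨k, hk, z, hz, rfl⟩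
        show l * (k * z * k⁻¹ * z⁻¹) * l⁻¹ ∈ D
        have e : l * (k * z * k⁻¹ * z⁻¹) * l⁻¹ = ((l * k) * z * (l * k)⁻¹ * z⁻¹) * (l * z * l⁻¹ * z⁻¹)⁻¹ := by group
        rw [e]
        exact mul_mem (hmem _ (mul_mem hl hk) z hz) (inv_mem (hmem l hl z hz))
      exact fun d hd => h1 hd
    have hVD : V ≤ D := by
      rcases h.irr' hDV hLD with h1 | h1
      · -- `D` central: `Z` is central
        exfalso
        obtain ⟨k, hk, hk1, hk2⟩ := h.spl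
        have h2 := h.one
        have h3 := h.cardZ
        have hZ : Z ≤ ⊥ := by
          intro z hz
          rw [mem_bot]
          -- `[k, z] ∈ Z`, so it is trivial ...
          refine h.cent hz fun l hl => ?_
          have hd := hmem l hl z (Z_le_zc h.toMd hz)
          have hdZ : l * z * l⁻¹ * z⁻¹ ∈ Z := h.toMd.mem_Z_iff.2 ⟨hDV hd, fun b hb => h1 _ hd b (h.BL hb)⟩
          have hd1 := h.cent hdZ (h1 _ hd)
          exact mul_inv_eq_iff_eq_mul.1 (mul_inv_eq_one.1 hd1)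
        have h4 := Subgroup.card_le_of_le hZ
        rw [h3, Subgroup.card_bot] at h4
        omega
      · exact h1
    have hVeq : V = D := le_antisymm hVD hDV
    -- `g` normalises `L` and `zc B`
    have hgL : g ∈ normalizer (L : Set G) := by
      have h1 : L = ⨆ x : L, cj (x : G) B :=
        le_antisymm h.gen (iSup_le fun x => LemmaK.Main.cj_le_of_mem h.BL x.2)
      rw [h1]
      exact LemmaK.Main.mem_normalizer_iSup fun x => hg x x.2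
    have hgB : g ∈ normalizer (B : Set G) := by
      have h1 := hg 1 (one_mem _)
      rwa [map_one, one_smul] at h1
    have hgz := normalizer_le_normalizer_zc B hgB
    have key : ∀ g : G, g ∈ normalizer (L : Set G) → g ∈ normalizer (zc B : Set G) → ∀ d ∈ D, g * d * g⁻¹ ∈ D := by
      intro g hgL hgz
      have h1 : D ≤ D.comap (MulAut.conj g).toMonoidHom := by
        conv_lhs => rw [hD]
        rw [closure_le]
        rintro x ⟨k, hk, z, hz, rfl⟩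
        show g * (k * z * k⁻¹ * z⁻¹) * g⁻¹ ∈ D
        have e : g * (k * z * k⁻¹ * z⁻¹) * g⁻¹ = (g * k * g⁻¹) * (g * z * g⁻¹) * (g * k * g⁻¹)⁻¹ * (g * z * g⁻¹)⁻¹ := by
          group
        rw [e]
        exact hmem _ ((mem_normalizer_iff.1 hgL k).1 hk) _ ((mem_normalizer_iff.1 hgz z).1 hz)
      exact fun d hd => h1 hd
    rw [hVeq, mem_normalizer_iff]
    intro d
    refine ⟨key g hgL hgz d, fun hd => ?_⟩
    have h1 := key g⁻¹ (inv_mem hgL) (inv_mem hgz) _ hd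
    have e : g⁻¹ * (g * d * g⁻¹) * g⁻¹⁻¹ = d := by group
    rwa [e] at h1
  Vp := hB.to_le h.VB
  VL := h.VB.trans h.BL
  LV := norm_of_forall h.nV
  core := by
    intro X hX hXL hLX
    have : Fact (Nat.Prime 2) := ⟨Nat.prime_two⟩
    have h1 : IsPGroup 2 (B ⊔ X : Subgroup G) := IsPGroup.to_sup_of_normal_right' hB hX (h.BL.trans hLX)
    have h2 := h.syl (B ⊔ X) le_sup_left (sup_le h.BL hXL) h1
    have h3 : X ≤ B := by rw [← h2]; exact le_sup_right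
    obtain ⟨k, hk, hk1, -⟩ := h.spl
    have hXZ : ∀ x ∈ X, ∀ z ∈ Z, x * z = z * x := fun x hx z hz => h.cZ x (h3 hx) z hz
    have hXZk : ∀ x ∈ X, ∀ z ∈ cj k Z, x * z = z * x := by
      intro x hx z hz
      rw [mem_cj] at hz
      have h4 : k⁻¹ * x * k ∈ X := by
        have := (mem_normalizer_iff.1 (inv_mem (hLX hk)) x).1 hx
        rwa [inv_inv] at this
      exact comm_cj (hXZ _ h4 _ hz)
    intro x hx
    have h4 : V ≤ centralizer ({x} : Set G) := by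
      rw [hk1, sup_le_iff]
      exact ⟨fun z hz => mem_centralizer_singleton_iff.2 (hXZ x hx z hz).symm,
        fun z hz => mem_centralizer_singleton_iff.2 (hXZk x hx z hz).symm⟩
    exact mem_centralizer_iff.2 fun v hv => mem_centralizer_singleton_iff.1 (h4 hv)
  irr := by
    intro U hU hLU
    rcases h.irr' hU fun l hl u hu => (mem_normalizer_iff.1 (hLU hl) u).1 hu with h1 | h1
    · exact Or.inl fun u hu => mem_centralizer_iff.2 fun l hl => h1 u hu l hl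
    · exact Or.inr h1
  perf := by
    obtain ⟨k, hk, hk1, -⟩ := h.spl
    have h1 : Z ≤ ⁅V, L⁆ := h.Z_le_comm.trans (commutator_mono le_rfl h.BL)
    conv_lhs => rw [hk1]
    refine sup_le h1 ?_
    rintro _ ⟨z, hz, rfl⟩
    have h2 : ⁅V, L⁆ ≤ (⁅V, L⁆).comap (MulAut.conj k).toMonoidHom := by
      rw [Subgroup.commutator_le]
      intro v hv l hl
      show k * ⁅v, l⁆ * k⁻¹ ∈ ⁅V, L⁆
      have e : k * ⁅v, l⁆ * k⁻¹ = ⁅k * v * k⁻¹, k * l * k⁻¹⁆ := by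
        rw [commutatorElement_def, commutatorElement_def]; group
      rw [e]
      exact commutator_mem_commutator (h.nV k hk v hv) (mul_mem (mul_mem hk hl) (inv_mem hk))
    exact h2 (h1 hz)

/-- **(K)**: natural blocks over `B` fixing a common nontrivial element of order 2 have commuting modules. -/
theorem NB.commute_of_fix [Finite G] (hG : IsCharacteristicTwoType G) (hWC : WC B) (hB : IsPGroup 2 B)
    {L₁ V₁ Z₁ L₂ V₂ Z₂ : Subgroup G} {q₁ q₂ : ℕ} (h₁ : NB B L₁ V₁ Z₁ q₁) (h₂ : NB B L₂ V₂ Z₂ q₂) {x : G}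
    (hx2 : x ^ 2 = 1) (hx1 : x ≠ 1) (hx : ∀ l ∈ L₁, l * x = x * l) (hx' : ∀ l ∈ L₂, l * x = x * l) :
    ∀ v ∈ V₁, ∀ w ∈ V₂, v * w = w * v := by
  have : Fact (Nat.Prime 2) := ⟨Nat.prime_two⟩
  set H : Subgroup G := normalizer (zpowers x : Set G) with hH
  have hU : IsPGroup 2 (zpowers x) := MinSimple.Basic.isPGroup_zpowers hx2
  have hU1 : zpowers x ≠ ⊥ := by
    rw [Ne, zpowers_eq_bot]; exact hx1
  have hc := MinSimple.Basic.char2_normalizer hG hU hU1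
  rw [← hH] at hc
  have hLH : ∀ {L : Subgroup G}, (∀ l ∈ L, l * x = x * l) → L ≤ H := by
    intro L hL
    have h1 : L ≤ centralizer (zpowers x : Set G) := by
      intro l hl
      rw [mem_centralizer_iff]
      rintro _ ⟨n, rfl⟩
      have c1 : Commute l x := hL l hl
      exact (c1.zpow_right n).symm.eq
    exact h1.trans (centralizer_le_normalizer _)
  have h1 := (h₁.block hWC hB).le_centralizer (isPGroup_o2 H) ((hLH hx).trans (le_normalizer_o2 H))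
  have h2 := (h₂.block hWC hB).le_centralizer (isPGroup_o2 H) ((hLH hx').trans (le_normalizer_o2 H))
  have h3 : V₁ ≤ o2 H := by
    intro v hv
    refine hc ⟨hLH hx (h₁.BL (h₁.VB hv)), mem_centralizer_iff.2 fun w hw => ?_⟩
    exact (mem_centralizer_iff.1 (h1 hw) v hv).symm
  intro v hv w hw
  exact (mem_centralizer_iff.1 (h2 (h3 hv)) w hw).symm

end K

/-! ### Two blocks: the principle (⋆) -/

section two

variable {B L₁ V₁ Z₁ L₂ V₂ Z₂ : Subgroup G} {q q₁ q₂ : ℕ}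

theorem E_comm (h : Md B V₁ Z₁ q₁) {x y : G} (hx : x ∈ V₁ ⊔ zc B) (hy : y ∈ V₁ ⊔ zc B) : x * y = y * x := by
  have hcomm : ∀ v ∈ V₁, ∀ z ∈ zc B, v * z = z * v := fun v hv z hz =>
    (ChoiceBase.mem_zc.1 hz).2.2 v (h.VB hv)
  obtain ⟨v, hv, s, hs, rfl⟩ := mem_sup_comm hcomm hx
  obtain ⟨w, hw, t, ht, rfl⟩ := mem_sup_comm hcomm hy
  have c1 : Commute v w := h.comm hv hw
  have c2 : Commute v t := hcomm v hv t ht
  have c3 : Commute w s := hcomm w hw s hs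
  have c4 : Commute s t := (ChoiceBase.mem_zc.1 ht).2.2 s (ChoiceBase.mem_zc.1 hs).1
  exact ((c1.mul_right c2).mul_left (c3.symm.mul_right c4)).eq

theorem E_sq (h : Md B V₁ Z₁ q₁) {x : G} (hx : x ∈ V₁ ⊔ zc B) : x * x = 1 := by
  have hcomm : ∀ v ∈ V₁, ∀ z ∈ zc B, v * z = z * v := fun v hv z hz =>
    (ChoiceBase.mem_zc.1 hz).2.2 v (h.VB hv)
  obtain ⟨v, hv, s, hs, rfl⟩ := mem_sup_comm hcomm hx
  have h1 := elem_sq h.el v hv
  have h2 := (ChoiceBase.mem_zc.1 hs).2.1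
  have c2 : v * s = s * v := hcomm v hv s hs
  calc v * s * (v * s) = v * (s * v) * s := by group
    _ = v * (v * s) * s := by rw [c2]
    _ = v ^ 2 * s ^ 2 := by rw [pow_two, pow_two]; group
    _ = 1 := by rw [h1, h2, one_mul]

/-- every element of `V Ω₁Z(B)` is `v c` with `v ∈ V` and `c` centralised by `L` -/
theorem E_split [Finite G] (h : NB B L₁ V₁ Z₁ q₁) (hB : IsPGroup 2 B) {u : G} (hu : u ∈ V₁ ⊔ zc B) :
    ∃ v ∈ V₁, ∃ c ∈ zc B, (∀ l ∈ L₁, l * c = c * l) ∧ u = v * c := by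
  have hcomm : ∀ v ∈ V₁, ∀ z ∈ zc B, v * z = z * v := fun v hv z hz =>
    (ChoiceBase.mem_zc.1 hz).2.2 v (h.VB hv)
  obtain ⟨v, hv, s, hs, rfl⟩ := mem_sup_comm hcomm hu
  obtain ⟨a, ha, c, hc, hcL, e⟩ := exists_fix h.toFB hB hs
  exact ⟨v * a, mul_mem hv (h.ZV ha), c, hc, hcL, by rw [e, mul_assoc]⟩

/-- `[V Ω₁Z(B), B^y] ≤ Z^y` -/
theorem com_E [Finite G] (h : NB B L₁ V₁ Z₁ q₁) (hB : IsPGroup 2 B) {y : G} (hy : y ∈ L₁) {b : G} (hb : b ∈ cj y B)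
    {u : G} (hu : u ∈ V₁ ⊔ zc B) : b * u * b⁻¹ * u⁻¹ ∈ cj y Z₁ := by
  obtain ⟨v, hv, c, hc, hcL, rfl⟩ := E_split h hB hu
  have h1 := h.cC hy hb hcL
  have h2 : b * c * b⁻¹ = c := by rw [h1]; group
  have e : b * (v * c) * b⁻¹ * (v * c)⁻¹ = (b * v * b⁻¹) * (b * c * b⁻¹) * c⁻¹ * v⁻¹ := by group
  rw [e, h2]
  have e2 : b * v * b⁻¹ * c * c⁻¹ * v⁻¹ = b * v * b⁻¹ * v⁻¹ := by group
  rw [e2]
  exact h.com' hy hb hv

theorem cjB_le (h : NB B L₁ V₁ Z₁ q₁) {y : G} (hy : y ∈ L₁) : cj y B ≤ L₁ := LemmaK.Main.cj_le_of_mem h.BL hy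

theorem inf_zc (h : Md B V₁ Z₁ q₁) : V₁ ⊓ zc B = Z₁ := by
  apply le_antisymm
  · rintro x ⟨hx, hx'⟩
    exact h.mem_Z_iff.2 ⟨hx, fun b hb => (ChoiceBase.mem_zc.1 hx').2.2 b hb⟩
  · exact le_inf h.ZV (Z_le_zc h)

variable [Finite G] (hWC : WC B) (hB : IsPGroup 2 B) (h₁ : NB B L₁ V₁ Z₁ q₁) (h₂ : NB B L₂ V₂ Z₂ q₂)
  (hU : V₁ ⊔ zc B = V₂ ⊔ zc B)
include hWC hB h₁ h₂ hU

/-- The principle (⋆) for blocks: if `Z₂^y ≤ Z₁^x C₁` then `B^y` and `B^x` act in the same way on `U`. -/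
theorem star_blocks {x y : G} (hx : x ∈ L₁) (hy : y ∈ L₂)
    (hle : ∀ v ∈ cj y Z₂, ∃ w ∈ cj x Z₁, ∃ c : G, (∀ l ∈ L₁, l * c = c * l) ∧ v = w * c) :
    ∃ c : G, (∀ u ∈ V₁ ⊔ zc B, c * u = u * c) ∧ cj (c * y) B = cj x B := by
  refine hWC.star hB (U := V₁ ⊔ zc B) (R := cj y Z₂) ?_ (fun u hu => E_sq h₁.toMd hu)
    (fun b hb u hu => nE h₁.toFB (cjB_le h₁ hx hb) hu) ?_ ?_ ?_
  · rw [hU]
    exact (h₂.cjV hy).trans le_sup_left
  · intro b hb u hu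
    rw [hU] at hu ⊢
    exact nE h₂.toFB (cjB_le h₂ hy hb) hu
  · intro b hb r hr
    obtain ⟨w, hw, c, hc, rfl⟩ := hle r hr
    have c1 : Commute b w := h₁.cZ'' hb hw
    have c2 : Commute b c := h₁.cC hx hb hc
    exact (c1.mul_right c2).eq
  · intro b hb
    refine ⟨fun r hr => h₂.cZ'' hb hr, fun u hu => ?_⟩
    rw [hU] at hu
    exact com_E h₂ hB hy hb hu

omit [Finite G] hB hWC h₁ in
theorem same_act {x y c : G} (hy : y ∈ L₂) (hc : ∀ u ∈ V₁ ⊔ zc B, c * u = u * c)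
    (he : cj (c * y) B = cj x B) {b : G} (hb : b ∈ cj x B) : ∃ b' ∈ cj y B, b = c * b' * c⁻¹ ∧
      ∀ u ∈ V₁ ⊔ zc B, b * u * b⁻¹ = b' * u * b'⁻¹ := by
  rw [← he, ← cj_cj, mem_cj] at hb
  refine ⟨c⁻¹ * b * c, hb, by group, fun u hu => ?_⟩
  have h1 : c⁻¹ * b * c * u * (c⁻¹ * b * c)⁻¹ ∈ V₁ ⊔ zc B := by
    rw [hU] at hu ⊢
    exact nE h₂.toFB (cjB_le h₂ hy hb) hu
  have h2 := hc _ h1
  have h3 := hc u hu
  have e : b * u * b⁻¹ = c * (c⁻¹ * b * c * (c⁻¹ * u * c) * (c⁻¹ * b * c)⁻¹) * c⁻¹ := by group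
  have e2 : c⁻¹ * u * c = u := by
    calc c⁻¹ * u * c = c⁻¹ * (u * c) := by group
      _ = c⁻¹ * (c * u) := by rw [h3]
      _ = u := by group
  rw [e, e2, h2]
  group

/-- the centers agree -/
theorem star_center (hq : q₁ = q₂) {x y : G} (hx : x ∈ L₁) (hy : y ∈ L₂)
    {c : G} (hc : ∀ u ∈ V₁ ⊔ zc B, c * u = u * c) (he : cj (c * y) B = cj x B) : cj x Z₁ = cj y Z₂ := by
  have _ := hWC
  refine Subgroup.eq_of_le_of_card_ge ?_ (by rw [card_cj, card_cj, h₁.cardZ, h₂.cardZ, hq])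
  have hc1 := h₁.conj x
  obtain ⟨b, hb, v, hv, hne⟩ := hc1.ne
  intro z hz
  obtain ⟨w, hw, e⟩ := exists_eq_comm hc1.toMd hc1.cardZ hb (fun h => hne (h v hv)) hz
  have hwV : w ∈ V₁ := by
    rw [mem_cj] at hw
    have := h₁.nV x hx _ hw
    have e : x * (x⁻¹ * w * x) * x⁻¹ = w := by group
    rwa [e] at this
  obtain ⟨b', hb', -, h3⟩ := same_act h₂ hU hy hc he hb
  have hwU : w ∈ V₁ ⊔ zc B := mem_sup_left hwV
  rw [e, h3 w hwU]
  rw [hU] at hwU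
  exact com_E h₂ hB hy hb' hwU

omit hU in
/-- the centralisers agree -/
theorem star_axis {x y : G} (hx : x ∈ L₁) (hy : y ∈ L₂) (hne : cj y Z₂ ≠ Z₂)
    {c : G} (hc : ∀ u ∈ V₁ ⊔ zc B, c * u = u * c) (he : cj (c * y) B = cj x B) {z : G} (hz : z ∈ zc B)
    (hzL : ∀ l ∈ L₁, l * z = z * l) : ∀ l ∈ L₂, l * z = z * l := by
  have _ := hWC
  obtain ⟨a, ha, d, hd, hdL, e⟩ := exists_fix h₂.toFB hB hz
  -- `a` is centralised by `B^y`
  have hzU : z ∈ V₁ ⊔ zc B := mem_sup_right hz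
  have h1 : ∀ b ∈ cj y B, b * a = a * b := by
    intro b hb
    have hb1 : c * b * c⁻¹ ∈ cj x B := by
      rw [← he, ← cj_cj]
      exact ⟨b, hb, rfl⟩
    have h2 := h₁.cC hx hb1 hzL
    have h3 := hc z hzU
    have h4 : b * z = z * b := by
      have e1 : c⁻¹ * z * c = z := by
        calc c⁻¹ * z * c = c⁻¹ * (z * c) := by group
          _ = c⁻¹ * (c * z) := by rw [h3]
          _ = z := by group
      calc b * z = b * (c⁻¹ * z * c) := by rw [e1]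
        _ = c⁻¹ * (c * b * c⁻¹ * z) * c := by group
        _ = c⁻¹ * (z * (c * b * c⁻¹)) * c := by rw [h2]
        _ = (c⁻¹ * z * c) * b := by group
        _ = z * b := by rw [e1]
    have h5 := h₂.cC hy hb hdL
    have e2 : a = z * d⁻¹ := by rw [e]; group
    have c1 : Commute b z := h4
    have c2 : Commute b d := h5
    rw [e2]
    exact (c1.mul_right c2.inv_right).eq
  have h2 : a ∈ cj y Z₂ := by
    have hc2 := h₂.conj y
    rw [hc2.toMd.mem_Z_iff]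
    refine ⟨?_, h1⟩
    rw [mem_cj]
    exact h₂.toFB.nV' hy (h₂.ZV ha)
  have h3 : a ∈ cj y Z₂ ⊓ Z₂ := mem_inf.2 ⟨h2, ha⟩
  rw [h₂.tri' hy hne, mem_bot] at h3
  rw [e, h3, one_mul]
  exact hdL

/-- Two natural blocks with the same `Z` whose spreads agree modulo `C₁` are equal on `U`. -/
theorem star_main (hq : q₁ = q₂) (hZ : Z₁ = Z₂)
    (hsp : ∀ y ∈ L₂, ∃ x ∈ L₁, ∀ v ∈ cj y Z₂, ∃ w ∈ cj x Z₁, ∃ c : G, (∀ l ∈ L₁, l * c = c * l) ∧ v = w * c) :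
    V₂ = V₁ ∧ (∀ z ∈ zc B, (∀ l ∈ L₁, l * z = z * l) → ∀ l ∈ L₂, l * z = z * l) ∧
      L₂ ≤ L₁ ⊔ centralizer ((V₁ ⊔ zc B : Subgroup G) : Set G) := by
  obtain ⟨k, hk, hk1, hk2⟩ := h₂.spl
  have hkne : cj k Z₂ ≠ Z₂ := by
    intro e
    rw [e, inf_idem] at hk2
    have h3 := h₂.cardZ
    rw [hk2, Subgroup.card_bot] at h3
    have := h₂.one
    omega
  obtain ⟨x, hx, hx1⟩ := hsp k hk
  obtain ⟨c, hc, he⟩ := star_blocks hWC hB h₁ h₂ hU hx hk hx1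
  have hxk := star_center hWC hB h₁ h₂ hU hq hx hk hc he
  refine ⟨?_, fun z hz hzL => star_axis hWC hB h₁ h₂ hx hk hkne hc he hz hzL, ?_⟩
  · refine Subgroup.eq_of_le_of_card_ge ?_ ?_
    · rw [hk1, ← hxk, ← hZ]
      exact sup_le h₁.ZV (h₁.cjV hx)
    · rw [h₁.card, h₂.card, hq, hZ]
  · refine h₂.gen.trans (iSup_le fun y => ?_)
    obtain ⟨x, hx, hx1⟩ := hsp y y.2
    obtain ⟨c, hc, he⟩ := star_blocks hWC hB h₁ h₂ hU hx y.2 hx1
    have hcc : c ∈ L₁ ⊔ centralizer ((V₁ ⊔ zc B : Subgroup G) : Set G) :=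
      mem_sup_right (mem_centralizer_iff.2 fun u hu => (hc u hu).symm)
    intro b hb
    have h1 : c * b * c⁻¹ ∈ cj x B := by
      rw [← he, ← cj_cj]
      exact ⟨b, hb, rfl⟩
    have h2 := mul_mem (mul_mem (inv_mem hcc) (mem_sup_left (cjB_le h₁ hx h1))) hcc
    have e : c⁻¹ * (c * b * c⁻¹) * c = b := by group
    rwa [e] at h2

end two

/-! ### `q = 2` -/

theorem eq_of_card_two {Z : Subgroup G} (hZ : Nat.card Z = 2) {x y : G} (hx : x ∈ Z) (hy : y ∈ Z) (hx1 : x ≠ 1)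
    (hy1 : y ≠ 1) : x = y := by
  obtain ⟨a, b, -, hab⟩ := Nat.card_eq_two_iff.1 hZ
  have h1 : (1 : Z) ∈ ({a, b} : Set Z) := by rw [hab]; exact Set.mem_univ _
  have h2 : (⟨x, hx⟩ : Z) ∈ ({a, b} : Set Z) := by rw [hab]; exact Set.mem_univ _
  have h3 : (⟨y, hy⟩ : Z) ∈ ({a, b} : Set Z) := by rw [hab]; exact Set.mem_univ _
  have e1 : (⟨x, hx⟩ : Z) ≠ 1 := fun h => hx1 (congrArg Subtype.val h)
  have e2 : (⟨y, hy⟩ : Z) ≠ 1 := fun h => hy1 (congrArg Subtype.val h)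
  have e3 : (⟨x, hx⟩ : Z) = ⟨y, hy⟩ := by
    rcases h1 with h1 | h1
    · have h2' : (⟨x, hx⟩ : Z) = b := h2.resolve_left fun h => e1 (h.trans h1.symm)
      have h3' : (⟨y, hy⟩ : Z) = b := h3.resolve_left fun h => e2 (h.trans h1.symm)
      rw [h2', h3']
    · have h1' : (1 : Z) = b := h1
      have h2' : (⟨x, hx⟩ : Z) = a := h2.resolve_right fun h => e1 (Eq.trans h h1'.symm)
      have h3' : (⟨y, hy⟩ : Z) = a := h3.resolve_right fun h => e2 (Eq.trans h h1'.symm)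
      rw [h2', h3']
  exact congrArg Subtype.val e3

section two2

variable {B L V Z L₁ V₁ L₂ V₂ : Subgroup G} {q : ℕ}

theorem cover_two [Finite G] (h : NB B L V Z 2) {v : G} (hv : v ∈ V) : ∃ x ∈ L, v ∈ cj x Z := by
  obtain ⟨k, hk, h1, h2⟩ := h.spl
  have hcomm : ∀ a ∈ Z, ∀ b ∈ cj k Z, a * b = b * a := fun a ha b hb => h.comm (h.ZV ha) (h.cjV hk hb)
  have hv' := hv
  rw [h1] at hv'
  obtain ⟨a, ha, b, hb, rfl⟩ := mem_sup_comm hcomm hv'
  have hck : Nat.card (cj k Z) = 2 := by rw [card_cj]; exact h.cardZ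
  by_cases hb1 : b = 1
  · refine ⟨1, one_mem _, ?_⟩
    rw [mem_cj, hb1]
    simpa using ha
  by_cases ha1 : a = 1
  · exact ⟨k, hk, by rw [ha1, one_mul]; exact hb⟩
  obtain ⟨b₀, hb₀, w, hw, hne⟩ := h.ne
  obtain ⟨u, hu, e⟩ := exists_eq_comm h.toMd h.cardZ hb₀ (fun h' => hne (h' w hw)) ha
  have hu' := hu
  rw [h1] at hu'
  obtain ⟨a₂, ha₂, b₂, hb₂, rfl⟩ := mem_sup_comm hcomm hu'
  have hc := h.cZ b₀ hb₀ a₂ ha₂
  have hb₂1 : b₂ ≠ 1 := by
    rintro rfl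
    apply ha1
    rw [e, mul_one, hc]; group
  have h3 : b₂ = b := eq_of_card_two hck hb₂ hb hb₂1 hb1
  subst h3
  refine ⟨b₀ * k, mul_mem (h.BL hb₀) hk, ?_⟩
  rw [← cj_cj, mem_cj]
  have e2 : a = b₀ * b₂ * b₀⁻¹ * b₂⁻¹ := by
    have hca : a₂ * (b₀ * b₂ * b₀⁻¹) = (b₀ * b₂ * b₀⁻¹) * a₂ :=
      h.comm (h.ZV ha₂) (h.BV hb₀ (h.cjV hk hb₂))
    calc a = b₀ * (a₂ * b₂) * b₀⁻¹ * (a₂ * b₂)⁻¹ := e
      _ = (b₀ * a₂) * b₂ * b₀⁻¹ * b₂⁻¹ * a₂⁻¹ := by group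
      _ = (a₂ * b₀) * b₂ * b₀⁻¹ * b₂⁻¹ * a₂⁻¹ := by rw [hc]
      _ = (a₂ * (b₀ * b₂ * b₀⁻¹)) * b₂⁻¹ * a₂⁻¹ := by group
      _ = (b₀ * b₂ * b₀⁻¹) * (a₂ * b₂⁻¹) * a₂⁻¹ := by rw [hca]; group
      _ = (b₀ * b₂ * b₀⁻¹) * (b₂⁻¹ * a₂) * a₂⁻¹ := by
          rw [h.comm (h.ZV ha₂) (inv_mem (h.cjV hk hb₂))]
      _ = b₀ * b₂ * b₀⁻¹ * b₂⁻¹ := by group
  have e3 : b₀⁻¹ * (a * b₂) * b₀ = b₂ := by
    rw [e2]; group
  rw [e3]
  exact hb₂

theorem sup_zc_eq [Finite G] (h₁ : NB B L₁ V₁ Z q) (h₂ : NB B L₂ V₂ Z q) (hV : V₂ ≤ V₁ ⊔ zc B) :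
    V₁ ⊔ zc B = V₂ ⊔ zc B := by
  have key : ∀ {L V : Subgroup G}, NB B L V Z q → Nat.card ↥(V ⊔ zc B : Subgroup G) * Nat.card Z = q * q * Nat.card (zc B) := by
    intro L V h
    have hcomm : ∀ v ∈ V, ∀ z ∈ zc B, v * z = z * v := fun v hv z hz =>
      (ChoiceBase.mem_zc.1 hz).2.2 v (h.VB hv)
    have h1 := card_sup_comm hcomm
    rw [inf_zc h.toMd, h.card, h.cardZ] at h1
    rw [h.cardZ, h1]
  refine (Subgroup.eq_of_le_of_card_ge (sup_le hV le_sup_right) ?_).symm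
  have h1 := key h₁
  have h2 := key h₂
  rw [← h2] at h1
  exact (Nat.eq_of_mul_eq_mul_right Nat.card_pos h1).le

/-- **UNI+ (C), `q = 2`** -/
theorem uni_two [Finite G] (hWC : WC B) (hB : IsPGroup 2 B) (h₁ : NB B L₁ V₁ Z 2) (h₂ : NB B L₂ V₂ Z 2)
    (hV : V₂ ≤ V₁ ⊔ zc B) :
    V₂ = V₁ ∧ (∀ z ∈ zc B, (∀ l ∈ L₁, l * z = z * l) → ∀ l ∈ L₂, l * z = z * l) ∧
      L₂ ≤ L₁ ⊔ centralizer ((V₁ ⊔ zc B : Subgroup G) : Set G) := by
  refine star_main hWC hB h₁ h₂ (sup_zc_eq h₁ h₂ hV) rfl rfl fun y hy => ?_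
  have hcy : Nat.card (cj y Z) = 2 := by rw [card_cj]; exact h₁.cardZ
  by_cases hyZ : cj y Z = Z
  · refine ⟨1, one_mem _, fun v hv => ⟨v, ?_, 1, fun l _ => by simp, by simp⟩⟩
    rw [mem_cj]
    rw [hyZ] at hv
    simpa using hv
  -- the nontrivial element of `cj y Z`
  have hex : ∃ v ∈ cj y Z, v ≠ 1 := by
    by_contra hcon
    push Not at hcon
    have h3 : cj y Z = ⊥ := by
      rw [eq_bot_iff]
      exact fun v hv => mem_bot.2 (hcon v hv)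
    rw [h3, Subgroup.card_bot] at hcy
    omega
  obtain ⟨v', hv', hv1⟩ := hex
  obtain ⟨v, hv, c, hc, hcL, e⟩ := E_split h₁ hB (hV (h₂.cjV hy hv'))
  obtain ⟨x, hx, hvx⟩ := cover_two h₁ hv
  refine ⟨x, hx, fun w hw => ?_⟩
  by_cases hw1 : w = 1
  · exact ⟨1, one_mem _, 1, fun l _ => by simp, by rw [hw1, mul_one]⟩
  · have : w = v' := eq_of_card_two hcy hw hv' hw1 hv1
    exact ⟨v, hvx, c, hcL, by rw [this]; exact e⟩

end two2

/-! ### The frame -/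

section frame

variable {ι : Type*} {B Q V ZJ : Subgroup G} {L W Z C A : ι → Subgroup G} {q m : ℕ}
variable {L' V' Z' : Subgroup G} {q' : ℕ}

theorem nb (h : Fr B Q V ZJ L W Z C A q m) (i : ι) : NB B (L i) (W i) (Z i) q := ⟨h.blk i, h.cardZ i⟩

theorem W_le_B (h : Fr B Q V ZJ L W Z C A q m) (i : ι) : W i ≤ B := (h.WV i).trans (h.VQ.trans h.QB)

/-- a block `L'` over `B` with `[V', B] = Z i` is natural. -/
theorem nb_of [Finite G] (h : Fr B Q V ZJ L W Z C A q m) (h' : FB B L' V' Z' q) {i : ι} (hc : ⁅V', B⁆ = Z i) :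
    Z' = Z i ∧ NB B L' V' (Z i) q := by
  have h1 : Z i ≤ Z' := by rw [← hc]; exact h'.comm_le le_rfl
  obtain ⟨k, hk, hs⟩ := h'.sup
  rw [hc] at hs
  have hcjW : cj k (Z i) ≤ V' := by
    rintro _ ⟨z, hz, rfl⟩
    exact h'.nV k hk z (h'.ZV (h1 hz))
  have hcc := card_sup_comm (A := Z i) (B := cj k (Z i)) fun a ha b hb' => h'.comm (h'.ZV (h1 ha)) (hcjW hb')
  rw [card_cj, h.cardZ i] at hcc
  have h2 : Nat.card V' ≤ q * q := by
    refine (Subgroup.card_le_of_le hs).trans ?_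
    calc Nat.card ↥(Z i ⊔ cj k (Z i) : Subgroup G) = Nat.card ↥(Z i ⊔ cj k (Z i) : Subgroup G) * 1 := (mul_one _).symm
      _ ≤ Nat.card ↥(Z i ⊔ cj k (Z i) : Subgroup G) * Nat.card ↥(Z i ⊓ cj k (Z i) : Subgroup G) :=
          Nat.mul_le_mul_left _ Nat.card_pos
      _ = q * q := hcc
  rw [h'.card] at h2
  have h3 : Nat.card Z' ≤ q := Nat.le_of_mul_le_mul_right h2 (by have := h'.one; omega)
  have h4 : Z i = Z' := Subgroup.eq_of_le_of_card_ge h1 (by rw [h.cardZ i]; exact h3)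
  refine ⟨h4.symm, ?_⟩
  rw [h4]
  exact ⟨h', by rw [← h4]; exact h.cardZ i⟩

/-- `ZJ ∩ C i = C_{ZJ}(L i)` -/
theorem mem_C_iff [Finite G] (h : Fr B Q V ZJ L W Z C A q m) {i : ι} {z : G} (hz : z ∈ ZJ) :
    z ∈ C i ↔ ∀ l ∈ L i, l * z = z * l := by
  constructor
  · exact fun hc l hl => h.LC i l hl z hz hc
  · intro hL
    obtain ⟨w, hw, c, hc, hcJ, e⟩ := h.split_ZJ i hz
    have h1 : w = 1 := by
      refine (nb h i).cent hw fun l hl => ?_
      have h2 := hL l hl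
      have h3 := h.LC i l hl c hcJ hc
      have e1 : w = z * c⁻¹ := by rw [e]; group
      have c1 : Commute l z := h2
      have c2 : Commute l c := h3
      rw [e1]
      exact (c1.mul_right c2.inv_right).eq
    rw [e, h1, one_mul]
    exact hc

/-- **UNI+ (A), first step**: a module not commuting with `W i`. -/
theorem not_comm [Finite G] (h : Fr B Q V ZJ L W Z C A q m) (h' : Md B V' Z' q') {i : ι} {w' w : G} (hw' : w' ∈ V')
    (hw : w ∈ W i) (hne : w' * w ≠ w * w') : q' = q ∧ ⁅V', B⁆ = Z i := by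
  have hb := h.blk i
  have hWB := W_le_B h i
  have hn1 : ¬ ∀ u ∈ W i, w' * u = u * w' := fun h1 => hne (h1 w hw)
  have hn2 : ¬ ∀ u ∈ V', w * u = u * w := fun h1 => hne (h1 w' hw').symm
  have hge : Z i ≤ ⁅V', B⁆ := by
    intro z hz
    obtain ⟨v, hv, e⟩ := exists_eq_comm hb.toMd (h.cardZ i) (h'.VB hw') hn1 hz
    rw [e]
    exact commutator_mem_commutator hw' (hWB hv)
  have hle1 : q' ≤ q := by
    obtain ⟨R, -, h2, -, h4⟩ := exists_comm_range h' (hWB hw) hn2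
    rw [← h4, ← h.cardZ i]
    refine Subgroup.card_le_of_le fun r hr => ?_
    obtain ⟨v, hv, rfl⟩ := h2 r hr
    have h5 := hb.com v (h'.VB hv) w hw
    have e : w * v * w⁻¹ * v⁻¹ = (v * w * v⁻¹ * w⁻¹)⁻¹ := by group
    rw [e]
    exact inv_mem h5
  have hcZ : W i ⊓ centralizer (V' : Set G) ≤ Z i := by
    rintro u ⟨hu, huc⟩
    exact hb.mem_Z (h'.VB hw') hn1 hu (mem_centralizer_iff.1 huc w' hw')
  have hcc := Subgroup.card_le_of_le hcZ
  rw [h.cardZ i] at hcc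
  have hWc : Nat.card (W i) = q * q := by rw [hb.card, h.cardZ i]
  have hq0 : 0 < q := by have := hb.one; omega
  have hle2 : q ≤ q' := by
    have h1 := h'.card_le hWB
    rw [hWc] at h1
    exact Nat.le_of_mul_le_mul_right (h1.trans (Nat.mul_le_mul_left _ hcc)) hq0
  have hq : q' = q := le_antisymm hle1 hle2
  refine ⟨hq, le_antisymm ?_ hge⟩
  have h1 := h'.comm_eq hWB (by
    rw [hWc, hq]
    exact Nat.mul_le_mul_left _ hcc)
  rw [← h1, Subgroup.commutator_le]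
  intro v hv u hu
  exact hb.com v (h'.VB hv) u hu

/-- An element permuting the `Z j` with `[ZJ, g] ≤ Z i` centralises `ZJ ∩ C i`. -/
theorem perm_comm [Finite ι] (h : Fr B Q V ZJ L W Z C A q m) {i : ι} {g : G}
    (hp : ∀ j, ∃ k, cj g (Z j) = Z k) (hg : ∀ z ∈ ZJ, g * z * g⁻¹ * z⁻¹ ∈ Z i) :
    ∀ c ∈ ZJ, c ∈ C i → g * c = c * g := by
  classical
  have := Fintype.ofFinite ι
  have hZW : ∀ j, Z j ≤ W j := fun j => (h.blk j).ZV
  have hZC : ∀ {j k : ι}, k ≠ j → Z j ≤ C k := fun hjk => (hZW _).trans (h.WjC _ _ hjk)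
  have hdis : ∀ (j : ι) {x : G}, x ∈ Z j → x ∈ C j → x = 1 := fun j x h1 h2 => by
    have h3 : x ∈ W j ⊓ C j := mem_inf.2 ⟨hZW j h1, h2⟩
    rwa [h.dir j, mem_bot] at h3
  -- `g` commutes with `Z j`, `j ≠ i`
  have hZj : ∀ j, j ≠ i → ∀ z ∈ Z j, g * z = z * g := by
    intro j hj z hz
    obtain ⟨k, hk⟩ := hp j
    have h1 : g * z * g⁻¹ ∈ Z k := by rw [← hk]; exact ⟨z, hz, rfl⟩
    have h2 := hg z (h.Z_le j hz)
    by_cases hkj : k = j
    · subst hkj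
      have h3 : g * z * g⁻¹ * z⁻¹ ∈ Z k := mul_mem h1 (inv_mem hz)
      have h4 := hdis i h2 (hZC hj.symm h3)
      exact mul_inv_eq_iff_eq_mul.1 (mul_inv_eq_one.1 h4)
    · -- `z ∈ Z k * Z i` is in `C j`
      have h3 : z ∈ C j := by
        have e : z = (g * z * g⁻¹ * z⁻¹)⁻¹ * (g * z * g⁻¹) := by group
        rw [e]
        exact mul_mem (inv_mem (hZC hj h2)) (hZC (Ne.symm hkj) h1)
      have h4 : z = 1 := hdis j hz h3
      rw [h4]; simp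
  intro c hcJ hc
  have key : ∀ s : Finset ι, i ∉ s → ∃ u ∈ ZJ, u ∈ C i ∧ g * u = u * g ∧ ∀ j ∈ s, u⁻¹ * c ∈ C j := by
    intro s
    induction s using Finset.induction_on with
    | empty => exact fun _ => ⟨1, one_mem _, one_mem _, by simp, by simp⟩
    | insert j s hj ih =>
      intro his
      have hji : j ≠ i := fun e => his (e ▸ Finset.mem_insert_self _ _)
      obtain ⟨u, hu, hui, hgu, hus⟩ := ih fun h => his (Finset.mem_insert_of_mem h)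
      obtain ⟨w, hw, d, hd, hdJ, e⟩ := h.split_ZJ j (mul_mem (inv_mem hu) hcJ)
      have e1 : (u * w)⁻¹ * c = d := by
        calc (u * w)⁻¹ * c = w⁻¹ * (u⁻¹ * c) := by group
          _ = w⁻¹ * (w * d) := by rw [e]
          _ = d := by group
      have c1 : Commute g u := hgu
      have c2 : Commute g w := hZj j hji w hw
      refine ⟨u * w, mul_mem hu (h.Z_le j hw), mul_mem hui (hZC hji.symm hw), (c1.mul_right c2).eq, fun k hk => ?_⟩
      rcases Finset.mem_insert.1 hk with rfl | hk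
      · rw [e1]; exact hd
      · have hkj : k ≠ j := fun e => hj (e ▸ hk)
        have e2 : (u * w)⁻¹ * c = w⁻¹ * (u⁻¹ * c) := by group
        rw [e2]
        exact mul_mem (inv_mem (hZC hkj hw)) (hus k hk)
  obtain ⟨u, hu, hui, hgu, hus⟩ := key (Finset.univ.erase i) (Finset.notMem_erase _ _)
  have h1 : u⁻¹ * c = 1 := by
    refine h.C0 _ (mul_mem (inv_mem (h.ZJV hu)) (h.ZJV hcJ)) fun j => ?_
    by_cases hj : j = i
    · rw [hj]; exact mul_mem (inv_mem hui) hc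
    · exact hus j (Finset.mem_erase.2 ⟨hj, Finset.mem_univ _⟩)
  rw [← inv_mul_eq_one.1 h1]
  exact hgu

/-- For `q > 2`: `ZJ ∩ C i ≤ C(L')` for every natural block with `Z' = Z i`. -/
theorem C_le_of_two_lt [Finite G] [Finite ι] (h : Fr B Q V ZJ L W Z C A q m) (hB : IsPGroup 2 B) {i : ι}
    (h' : NB B L' V' (Z i) q) (hq : 2 < q)
    (hp : ∀ g ∈ normalizer (B : Set G), ∀ j, ∃ k, cj g (Z j) = Z k) {c : G} (hcJ : c ∈ ZJ) (hc : c ∈ C i) :
    ∀ l ∈ L', l * c = c * l := by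
  have hz : ∀ z ∈ ZJ, ∃ a ∈ Z i, ∃ d, (∀ l ∈ L', l * d = d * l) ∧ z = a * d := by
    intro z hz
    rw [← h.zcB] at hz
    obtain ⟨a, ha, d, -, hd, e⟩ := exists_fix h'.toFB hB hz
    exact ⟨a, ha, d, hd, e⟩
  obtain ⟨a, ha, d, hd, e⟩ := hz c hcJ
  by_cases ha1 : a = 1
  · rw [e, ha1, one_mul]; exact hd
  exfalso
  -- another element
  obtain ⟨a', ha', ha1', hne⟩ : ∃ a' ∈ Z i, a' ≠ 1 ∧ a' ≠ a := by
    by_contra hcon
    push Not at hcon
    have h1 : (Z i : Set G) ⊆ {1, a} := by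
      intro x hx
      by_cases hx1 : x = 1
      · exact Or.inl hx1
      · exact Or.inr (hcon x hx hx1)
    have h2 := Set.ncard_le_ncard h1 (Set.toFinite _)
    have h3 : (Z i : Set G).ncard = Nat.card (Z i) := rfl
    rw [h3, h.cardZ i] at h2
    have h4 := Set.ncard_insert_le (1 : G) {a}
    rw [Set.ncard_singleton] at h4
    omega
  obtain ⟨x, hx, hxB, e2⟩ := h'.tor' ha ha1 ha' ha1'
  have h1 := perm_comm h (g := x) (hp x hxB) (fun z hz0 => by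
    obtain ⟨a₁, ha₁, d₁, hd₁, rfl⟩ := hz z hz0
    have e3 : x * d₁ * x⁻¹ = d₁ := by rw [hd₁ x hx]; group
    have e4 : x * (a₁ * d₁) * x⁻¹ * (a₁ * d₁)⁻¹ = (x * a₁ * x⁻¹) * (x * d₁ * x⁻¹) * d₁⁻¹ * a₁⁻¹ := by group
    rw [e4, e3]
    have e5 : x * a₁ * x⁻¹ * d₁ * d₁⁻¹ * a₁⁻¹ = (x * a₁ * x⁻¹) * a₁⁻¹ := by group
    rw [e5]
    exact mul_mem (h'.nZ hx hxB ha₁) (inv_mem ha₁)) c hcJ hc
  apply hne
  have h2 : x * c * x⁻¹ = c := by rw [h1]; group
  have h3 : x * d * x⁻¹ = d := by rw [hd x hx]; group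
  have h4 : a' * d = a * d := by
    calc a' * d = (x * a * x⁻¹) * (x * d * x⁻¹) := by rw [e2, h3]
      _ = x * (a * d) * x⁻¹ := by group
      _ = x * c * x⁻¹ := by rw [← e]
      _ = a * d := by rw [h2, ← e]
  exact mul_right_cancel h4

/-- the converse inclusion -/
theorem mem_C_of [Finite G] (h : Fr B Q V ZJ L W Z C A q m) {i : ι} (h' : NB B L' V' (Z i) q)
    (hle : ∀ c ∈ ZJ, c ∈ C i → ∀ l ∈ L', l * c = c * l) {z : G} (hz : z ∈ ZJ) (hzL : ∀ l ∈ L', l * z = z * l) :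
    z ∈ C i := by
  obtain ⟨w, hw, c, hc, hcJ, e⟩ := h.split_ZJ i hz
  have h1 : w = 1 := by
    refine h'.cent hw fun l hl => ?_
    have e1 : w = z * c⁻¹ := by rw [e]; group
    have c1 : Commute l z := hzL l hl
    have c2 : Commute l c := hle c hcJ hc l hl
    rw [e1]
    exact (c1.mul_right c2.inv_right).eq
  rw [e, h1, one_mul]
  exact hc

/-- `|ZJ| = q |ZJ ∩ C i|` -/
theorem card_ZJ [Finite G] (h : Fr B Q V ZJ L W Z C A q m) (i : ι) :
    Nat.card ZJ = q * Nat.card ↥(ZJ ⊓ C i : Subgroup G) := by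
  have h1 : ZJ = Z i ⊔ (ZJ ⊓ C i) := by
    apply le_antisymm
    · intro z hz
      obtain ⟨w, hw, c, hc, hcJ, rfl⟩ := h.split_ZJ i hz
      exact mul_mem (mem_sup_left hw) (mem_sup_right ⟨hcJ, hc⟩)
    · exact sup_le (h.Z_le i) inf_le_left
  have h2 := card_sup_comm (A := Z i) (B := ZJ ⊓ C i) fun a ha b hb => h.Vc (h.ZV i ha) (h.CV i hb.2)
  have h3 : Z i ⊓ (ZJ ⊓ C i) = ⊥ := by
    rw [eq_bot_iff]
    rintro x ⟨hx, -, hx'⟩
    have h4 : x ∈ W i ⊓ C i := mem_inf.2 ⟨(h.blk i).ZV hx, hx'⟩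
    rwa [h.dir i] at h4
  rw [← h1, h3, Subgroup.card_bot, mul_one, h.cardZ i] at h2
  exact h2

/-- **UNI+ (A)**: `[V', W i] ≠ 1`, no nontrivial element of `ZJ` is centralised by `L i` and `L'`. Then `q = 2` and
`|ZJ| = 4` (or there is only one block). -/
theorem caseA [Finite G] [Finite ι] (h : Fr B Q V ZJ L W Z C A q m) (hB : IsPGroup 2 B) {i : ι}
    (h' : NB B L' V' (Z i) q) (hp : ∀ g ∈ normalizer (B : Set G), ∀ j, ∃ k, cj g (Z j) = Z k)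
    (hK : ∀ x ∈ ZJ, x ∈ C i → (∀ l ∈ L', l * x = x * l) → x = 1) {j : ι} (hj : j ≠ i) :
    q = 2 ∧ Nat.card ZJ = 4 ∧ ∃ c ∈ ZJ, c ≠ 1 ∧ (∀ l ∈ L', l * c = c * l) ∧ ∀ k, c ∉ C k := by
  have hq2 : q = 2 := by
    by_contra hq
    have hq' : 2 < q := by have := h'.one; omega
    have h1 : Z j ≤ ⊥ := by
      intro z hz
      have hzC : z ∈ C i := h.WjC i j hj.symm ((h.blk j).ZV hz)
      exact mem_bot.2 (hK z (h.Z_le j hz) hzC (C_le_of_two_lt h hB h' hq' hp (h.Z_le j hz) hzC))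
    have h2 := Subgroup.card_le_of_le h1
    rw [Subgroup.card_bot, h.cardZ j] at h2
    omega
  have hz : ∀ z ∈ ZJ, ∃ a ∈ Z i, ∃ d ∈ ZJ, (∀ l ∈ L', l * d = d * l) ∧ z = a * d := by
    intro z hz
    rw [← h.zcB] at hz
    obtain ⟨a, ha, d, hd0, hd, e⟩ := exists_fix h'.toFB hB hz
    rw [h.zcB] at hd0
    exact ⟨a, ha, d, hd0, hd, e⟩
  -- `|ZJ ∩ C i| ≤ 2`
  have hc2 : Nat.card ↥(ZJ ⊓ C i : Subgroup G) ≤ 2 := by
    have hex : ∀ c : ↥(ZJ ⊓ C i : Subgroup G), ∃ a : Z i, ∀ l ∈ L', l * ((a : G)⁻¹ * c) = (a : G)⁻¹ * c * l := by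
      intro c
      obtain ⟨a, ha, d, -, hd, e⟩ := hz c c.2.1
      refine ⟨⟨a, ha⟩, ?_⟩
      have e1 : (a : G)⁻¹ * c = d := by rw [e]; group
      show ∀ l ∈ L', l * (a⁻¹ * (c : G)) = a⁻¹ * c * l
      rw [e1]
      exact hd
    choose f hf using hex
    have hinj : Function.Injective f := by
      intro c d hcd
      apply Subtype.ext
      have h1 := hf c
      have h2 := hf d
      rw [hcd] at h1
      have h3 : (c : G)⁻¹ * d = 1 := by
        refine hK _ (mul_mem (inv_mem c.2.1) d.2.1) (mul_mem (inv_mem c.2.2) d.2.2) fun l hl => ?_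
        have c1 : Commute l ((f d : G)⁻¹ * c) := h1 l hl
        have c2 : Commute l ((f d : G)⁻¹ * d) := h2 l hl
        have e : (c : G)⁻¹ * d = ((f d : G)⁻¹ * c)⁻¹ * ((f d : G)⁻¹ * d) := by group
        rw [e]
        exact (c1.inv_right.mul_right c2).eq
      exact inv_mul_eq_one.1 h3
    have h1 := Nat.card_le_card_of_injective f hinj
    rw [h.cardZ i] at h1
    omega
  have hcZJ := card_ZJ h i
  have hZjle : Z j ≤ ZJ ⊓ C i := le_inf (h.Z_le j) ((h.blk j).ZV.trans (h.WjC i j hj.symm))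
  have h4 : Nat.card ZJ = 4 := by
    have h1 := Subgroup.card_le_of_le hZjle
    rw [h.cardZ j] at h1
    have h2 : Nat.card ↥(ZJ ⊓ C i : Subgroup G) = 2 := by omega
    rw [hcZJ, h2, hq2]
  refine ⟨hq2, h4, ?_⟩
  -- an element of `ZJ ∩ C i` not centralised by `L'`
  obtain ⟨z, hzj, hz1⟩ : ∃ z ∈ Z j, z ≠ 1 := by
    by_contra hcon
    push Not at hcon
    have h1 : Z j ≤ ⊥ := fun z hz => mem_bot.2 (hcon z hz)
    have h2 := Subgroup.card_le_of_le h1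
    rw [Subgroup.card_bot, h.cardZ j] at h2
    omega
  obtain ⟨a, ha, c, hcJ, hcL, e⟩ := hz z (h.Z_le j hzj)
  have hzCi : z ∈ C i := (hZjle hzj).2
  have hc1 : c ≠ 1 := by
    rintro rfl
    rw [mul_one] at e
    subst e
    have h5 : z ∈ W i ⊓ C i := mem_inf.2 ⟨(h.blk i).ZV ha, hzCi⟩
    rw [h.dir i, mem_bot] at h5
    exact hz1 h5
  refine ⟨c, hcJ, hc1, hcL, fun k hk => ?_⟩
  by_cases hki : k = i
  · subst hki
    exact hc1 (hK c hcJ hk hcL)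
  · -- `ZJ ∩ C k = Z i`
    have h5 := card_ZJ h k
    rw [h4, hq2] at h5
    have h6 : Nat.card ↥(ZJ ⊓ C k : Subgroup G) = 2 := by omega
    have h7 : Z i = ZJ ⊓ C k := by
      refine Subgroup.eq_of_le_of_card_ge (le_inf (h.Z_le i) ((h.blk i).ZV.trans (h.WjC k i hki))) ?_
      rw [h6, h.cardZ i, hq2]
    have h8 : c ∈ Z i := by rw [h7]; exact ⟨hcJ, hk⟩
    exact hc1 (h'.cent h8 hcL)

/-- **UNI+** (bb OMEGA #15330). -/
theorem uniPlus [Finite G] [Finite ι] (h : Fr B Q V ZJ L W Z C A q m) (hB : IsPGroup 2 B) (hWC : WC B)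
    (hp : ∀ g ∈ normalizer (B : Set G), ∀ j, ∃ k, cj g (Z j) = Z k) (hn : ∀ i : ι, ∃ j, j ≠ i)
    (h' : FB B L' V' Z' q')
    (hK : ∀ i, NB B L' V' (Z i) q → (∃ w' ∈ V', ∃ w ∈ W i, w' * w ≠ w * w') → ∀ x ∈ ZJ, x ∈ C i →
      (∀ l ∈ L', l * x = x * l) → x = 1) :
    q' = q ∧ ∃ i, Z' = Z i ∧ NB B L' V' (Z i) q ∧
      ((V' ≤ W i ⊔ ZJ ∧ (∀ z ∈ ZJ, z ∈ C i ↔ ∀ l ∈ L', l * z = z * l) ∧
          (q = 2 → V' = W i ∧ L' ≤ L i ⊔ centralizer ((W i ⊔ ZJ : Subgroup G) : Set G))) ∨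
        (q = 2 ∧ Nat.card ZJ = 4 ∧ (∃ w' ∈ V', ∃ w ∈ W i, w' * w ≠ w * w') ∧
          ∃ c ∈ ZJ, c ≠ 1 ∧ (∀ l ∈ L', l * c = c * l) ∧ ∀ k, c ∉ C k)) := by
  by_cases hA : ∃ i, ∃ w' ∈ V', ∃ w ∈ W i, w' * w ≠ w * w'
  · obtain ⟨i, w', hw', w, hw, hne⟩ := hA
    obtain ⟨hq, hc⟩ := not_comm h h'.toMd hw' hw hne
    subst hq
    obtain ⟨hZ, hN⟩ := nb_of h h' hc
    obtain ⟨j, hj⟩ := hn i
    obtain ⟨h1, h2, h3⟩ := caseA h hB hN hp (hK i hN ⟨w', hw', w, hw, hne⟩) hj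
    exact ⟨rfl, i, hZ, hN, Or.inr ⟨h1, h2, ⟨w', hw', w, hw, hne⟩, h3⟩⟩
  · push Not at hA
    have hcV : ∀ w ∈ V', ∀ v ∈ V, w * v = v * w := by
      intro w hw v hv
      rw [h.V_eq] at hv
      have h1 : (⨆ i, W i) ≤ centralizer ({w} : Set G) := iSup_le fun i u hu =>
        mem_centralizer_singleton_iff.2 (hA i w hw u hu).symm
      exact (mem_centralizer_singleton_iff.1 (h1 hv)).symm
    obtain ⟨hq, i, hc, hle⟩ := h.uni h'.toMd hcV
    subst hq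
    obtain ⟨hZ, hN⟩ := nb_of h h' hc
    refine ⟨rfl, i, hZ, hN, Or.inl ?_⟩
    have hle' : V' ≤ W i ⊔ zc B := by rw [h.zcB]; exact hle
    by_cases hq2 : q' = 2
    · subst hq2
      obtain ⟨h1, h2, h3⟩ := uni_two hWC hB (nb h i) hN hle'
      have h4 : ∀ c ∈ ZJ, c ∈ C i → ∀ l ∈ L', l * c = c * l := fun c hc hcC =>
        h2 c (by rw [h.zcB]; exact hc) ((mem_C_iff h hc).1 hcC)
      rw [h.zcB] at h3
      exact ⟨hle, fun z hz => ⟨h4 z hz, mem_C_of h hN h4 hz⟩, fun _ => ⟨h1, h3⟩⟩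
    · have hq' : 2 < q' := by have := h'.one; omega
      have h4 : ∀ c ∈ ZJ, c ∈ C i → ∀ l ∈ L', l * c = c * l := fun c hc hcC =>
        C_le_of_two_lt h hB hN hq' hp hc hcC
      exact ⟨hle, fun z hz => ⟨h4 z hz, mem_C_of h hN h4 hz⟩, fun h => absurd h hq2⟩

end frame

/-- **UNI+** in a group of characteristic 2 type. -/
theorem uniPlus' {G : Type u} [Group G] [Finite G] {ι : Type*} [Finite ι] {B Q V ZJ : Subgroup G}
    {L W Z C A : ι → Subgroup G} {q m : ℕ} {L' V' Z' : Subgroup G} {q' : ℕ} (hG : IsCharacteristicTwoType G)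
    (h : Fr B Q V ZJ L W Z C A q m) (hB : IsPGroup 2 B) (hWC : WC B)
    (hcom : ∀ g ∈ normalizer (B : Set G), ∀ w ∈ cj g V, ∀ v ∈ V, w * v = v * w) (hn : ∀ i : ι, ∃ j, j ≠ i)
    (h' : FB B L' V' Z' q') :
    q' = q ∧ ∃ i, Z' = Z i ∧ NB B L' V' (Z i) q ∧
      ((V' ≤ W i ⊔ ZJ ∧ (∀ z ∈ ZJ, z ∈ C i ↔ ∀ l ∈ L', l * z = z * l) ∧
          (q = 2 → V' = W i ∧ L' ≤ L i ⊔ centralizer ((W i ⊔ ZJ : Subgroup G) : Set G))) ∨
        (q = 2 ∧ Nat.card ZJ = 4 ∧ (∃ w' ∈ V', ∃ w ∈ W i, w' * w ≠ w * w') ∧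
          ∃ c ∈ ZJ, c ≠ 1 ∧ (∀ l ∈ L', l * c = c * l) ∧ ∀ k, c ∉ C k)) := by
  refine uniPlus h hB hWC (fun g hg j => ?_) hn h' fun i hN hne x hx hxC hxL => ?_
  · obtain ⟨k, hk, -⟩ := (h.norm_of hg (hcom g hg)).2 j
    exact ⟨k, hk⟩
  · by_contra hx1
    obtain ⟨w', hw', w, hw, hne⟩ := hne
    exact hne (NB.commute_of_fix hG hWC hB hN (nb h i) (elem_sq h.el x (h.ZJV hx)) hx1 hxL
      ((mem_C_iff h hx).1 hxC) w' hw' w hw)

/-! ### (2') -/

section mtl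

variable {ι : Type*} {B Q V ZJ : Subgroup G} {L W Z C A : ι → Subgroup G} {q m : ℕ}

/-- **(2')**: no noncommuting pair `W i`, `(W j)^g` with `W i ≤ B^g`, `(W j)^g ≤ B`. -/
theorem two' [Finite G] (h : Fr B Q V ZJ L W Z C A q m) [Nonempty ι]
    (hW : ∀ i, V ≤ o2 (normalizer (Z i : Set G)) ∧ o2 (normalizer (Z i : Set G)) ≤ B)
    (hno : ∀ g : G, cj g V ≤ normalizer (V : Set G) → V ≤ normalizer ((cj g V : Subgroup G) : Set G) →
      ∀ w ∈ cj g V, ∀ v ∈ V, w * v = v * w)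
    {g : G} {i j : ι} (h1 : cj g (W j) ≤ B) (h2 : W i ≤ cj g B) :
    ∀ w' ∈ cj g (W j), ∀ w ∈ W i, w' * w = w * w' := by
  by_contra hcon
  push Not at hcon
  obtain ⟨w', hw', w, hw, hne⟩ := hcon
  have hBV : B ≤ normalizer (V : Set G) := by
    obtain ⟨i⟩ := ‹Nonempty ι›
    intro b hb
    have h3 := h.LV i b ((h.blk i).BL hb)
    have h4 := h.LV i b⁻¹ ((h.blk i).BL (inv_mem hb))
    rw [mem_normalizer_iff]
    intro v
    refine ⟨h3 v, fun hv => ?_⟩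
    have h5 := h4 _ hv
    have e : b⁻¹ * (b * v * b⁻¹) * b⁻¹⁻¹ = v := by group
    rwa [e] at h5
  -- `Z i ≤ (Z j)^g`
  have hZ : Z i = cj g (Z j) := by
    refine Subgroup.eq_of_le_of_card_ge ?_ (by rw [card_cj, h.cardZ, h.cardZ])
    intro z hz
    obtain ⟨v, hv, e⟩ := exists_eq_comm (h.blk i).toMd (h.cardZ i) (h1 hw') (fun h3 => hne (h3 w hw)) hz
    have h3 := ((h.blk j).toMd.conj g).com v (h2 hv) w' hw'
    rw [e]
    have e2 : w' * v * w'⁻¹ * v⁻¹ = (v * w' * v⁻¹ * w'⁻¹)⁻¹ := by group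
    rw [e2]
    exact inv_mem h3
  have ho : cj g (o2 (normalizer (Z j : Set G))) = o2 (normalizer (Z i : Set G)) := by
    rw [← pCore_cj, cj_normalizer, ← hZ]
  have h3 : cj g V ≤ B := by
    refine le_trans (cj_mono g (hW j).1) ?_
    rw [ho]
    exact (hW i).2
  have h4 : V ≤ cj g B := by
    refine (hW i).1.trans ?_
    rw [← ho]
    exact cj_mono g (hW j).2
  have h5 := hno g (h3.trans hBV) (by
    refine h4.trans ?_
    have := cj_mono g hBV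
    rwa [cj_normalizer] at this) w' (cj_mono g (h.WV j) hw') w (h.WV i hw)
  exact hne h5

end mtl

/-- `bau S` is weakly closed. -/
theorem wc_bau [Finite G] (S : Sylow 2 G) : WC (bau (S : Subgroup G)) := by
  intro T hT hB g hg
  have h1 := LemmaK.Main.bau_eq S hT hB
  have h2 : cj g (bau (S : Subgroup G)) = bau ((g • S : Sylow 2 G) : Subgroup G) := by
    have h3 : ((g • S : Sylow 2 G) : Subgroup G) = cj g (S : Subgroup G) := by
      rw [Sylow.coe_subgroup_smul]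
      rfl
    rw [h3]
    exact (bau_cj g (S : Subgroup G)).symm
  rw [h2] at hg ⊢
  rw [← LemmaK.Main.bau_eq (g • S) hT hg, h1]

end Cfsg.Agent.Omega.OM.UniPlus
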