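import Cfsg.Agent.Omega.OM.Line

/-!
# The FF line with several blocks, `q = 2`: `K0 = ⟨C_G(Z_J), L_1, .., L_k⟩`

The second alternative of UNI+ (`Line.uniPlus`) is void: there `c = z₁z₂` is the only nontrivial element of `Z_J` fixed
by `S`, so the block `L'` lies in `C_G(Z)`, `V ≤ O₂(C_G(Z))` centralises its module (LEMMA K).

* `Line.uniTwo` : `q = 2`: every FF-block `L'` over `B` has `V' = W i`, `L' ≤ L i C_G(W i Z_J)` for some `i`;
* `Line.K0_eq` : `K0 S (FBlk S) = C_G(Z_J) ⊔ ⨆ L i`.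
-/

set_option autoImplicit false

namespace Cfsg.Agent.Omega.OM

open Subgroup Cfsg Cfsg.Agent.ZN.ChoiceBase Cfsg.Agent.ZN.ChoiceSit
open Cfsg.Agent.ZN (jj zj bau zc zl o2)
open Cfsg.Agent.Omega.LemmaK (Block)
open Cfsg.Agent.Omega.OM.Uni (FB Fr)
open Cfsg.Agent.Omega.OM.Dich (K0)
open Cfsg.Agent.Omega.OM.BlkGen (FBlk)
open scoped Pointwise

universe u

variable {G : Type u} [Group G] [Finite G]

section line

variable {ι : Type} [Finite ι] {S : Sylow 2 G} {P : Subgroup G} {L W Z C A : ι → Subgroup G}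

omit [Finite ι] in
theorem Line.exists_z (h : Line S P L W Z C A 2) (i : ι) : ∃ z ∈ Z i, z ≠ 1 ∧ ∀ x ∈ Z i, x = 1 ∨ x = z := by
  have h1 := h.fr.cardZ i
  obtain ⟨z, hz1, hz2⟩ := Nat.card_eq_two_iff' (1 : Z i) |>.1 h1
  refine ⟨z, z.2, fun e => hz1 (Subtype.ext e), fun x hx => ?_⟩
  by_cases hx1 : x = 1
  · exact Or.inl hx1
  · exact Or.inr (congrArg Subtype.val (hz2 ⟨x, hx⟩ fun e => hx1 (congrArg Subtype.val e)))

/-- **UNI+ for `q = 2`**: the second alternative is void. -/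
theorem Line.uniTwo (h : Line S P L W Z C A 2)
    (htr : ∀ i j : ι, ∃ s ∈ (S : Subgroup G), cj s (Z i) = Z j) {L' V' Z' : Subgroup G} {q' : ℕ}
    (h' : FB (bau (S : Subgroup G)) L' V' Z' q') (hb : Block 2 (bau (S : Subgroup G)) L' V') :
    ∃ i, Z' = Z i ∧ V' = W i ∧ L' ≤ L i ⊔ centralizer ((W i ⊔ zj (S : Subgroup G) : Subgroup G) : Set G) := by
  have : Fact (Nat.Prime 2) := ⟨Nat.prime_two⟩
  obtain ⟨-, i, hZ, -, ⟨-, -, h2⟩ | ⟨-, hcard, ⟨w', hw', w, hw, hne⟩, c, hc, hc1, hcL, hcC⟩⟩ := h.uniPlus h'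
  · exact ⟨i, hZ, h2 rfl⟩
  exfalso
  obtain ⟨j, hji⟩ := h.two i
  obtain ⟨zi, hzi, hzi1, hzi2⟩ := h.exists_z i
  obtain ⟨zj', hzj, hzj1, hzj2⟩ := h.exists_z j
  have hiJ : zi ∈ zj (S : Subgroup G) := h.fr.Z_le i hzi
  have hjJ : zj' ∈ zj (S : Subgroup G) := h.fr.Z_le j hzj
  have hiC : ∀ k, k ≠ i → zi ∈ C k := fun k hk => h.fr.WjC k i hk ((h.fr.blk i).ZV hzi)
  have hjC : ∀ k, k ≠ j → zj' ∈ C k := fun k hk => h.fr.WjC k j hk ((h.fr.blk j).ZV hzj)
  have hij : zi ≠ zj' := by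
    intro e
    apply hzi1
    have h1 : zi ∈ W i ⊓ C i := ⟨(h.fr.blk i).ZV hzi, by rw [e]; exact hjC i hji.symm⟩
    rw [h.fr.dir i, mem_bot] at h1
    exact h1
  have hci : c ≠ zi := fun e => hcC j (e ▸ hiC j hji)
  have hcj : c ≠ zj' := fun e => hcC i (e ▸ hjC i hji.symm)
  -- `Z_J = {1, z_i, z_j, c}`
  have hfour : ∀ x ∈ zj (S : Subgroup G), x = 1 ∨ x = zi ∨ x = zj' ∨ x = c := by
    intro x hx
    by_contra hcon
    push Not at hcon
    obtain ⟨h1, h2, h3, h4⟩ := hcon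
    have hinj : Function.Injective (![⟨1, one_mem _⟩, ⟨zi, hiJ⟩, ⟨zj', hjJ⟩, ⟨c, hc⟩, ⟨x, hx⟩] :
        Fin 5 → zj (S : Subgroup G)) := by
      intro a b hab
      have e := congrArg Subtype.val hab
      fin_cases a <;> fin_cases b <;> simp at e ⊢ <;>
        first
        | exact (hzi1 e.symm).elim | exact (hzi1 e).elim | exact (hzj1 e.symm).elim | exact (hzj1 e).elim
        | exact (hc1 e.symm).elim | exact (hc1 e).elim | exact (h1 e.symm).elim | exact (h1 e).elim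
        | exact (hij e).elim | exact (hij e.symm).elim | exact (hci e).elim | exact (hci e.symm).elim
        | exact (hcj e).elim | exact (hcj e.symm).elim | exact (h2 e).elim | exact (h2 e.symm).elim
        | exact (h3 e).elim | exact (h3 e.symm).elim | exact (h4 e).elim | exact (h4 e.symm).elim
    have h5 := Nat.card_le_card_of_injective _ hinj
    rw [hcard, Nat.card_eq_fintype_card, Fintype.card_fin] at h5
    omega
  -- `Ω₁(Z(S)) ≤ {1, c}`
  have hzc : ∀ x ∈ zc (S : Subgroup G), x = 1 ∨ x = c := by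
    intro x hx
    have hxJ : x ∈ zj (S : Subgroup G) := zc_le_zj _ hx
    have hno : ∀ k l : ι, k ≠ l → ∀ y, y ∈ Z k → y ≠ 1 → x ≠ y := by
      intro k l hkl y hy hy1 e
      obtain ⟨s, hs, hsZ⟩ := htr k l
      have h1 : s * x * s⁻¹ ∈ Z l := by
        rw [← hsZ, e]
        exact ⟨y, hy, rfl⟩
      have h2 := (mem_zc.1 hx).2.2 s hs
      have h3 : s * x * s⁻¹ = x := by rw [h2]; group
      rw [h3] at h1
      apply hy1
      have h4 : y ∈ W k ⊓ C k := ⟨(h.fr.blk k).ZV hy, h.fr.WjC k l hkl ((h.fr.blk l).ZV (e ▸ h1))⟩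
      rw [h.fr.dir k, mem_bot] at h4
      exact h4
    rcases hfour x hxJ with h1 | h1 | h1 | h1
    · exact Or.inl h1
    · exact (hno i j hji.symm zi hzi hzi1 h1).elim
    · exact (hno j i hji zj' hzj hzj1 h1).elim
    · exact Or.inr h1
  -- `L' ≤ C_G(Z)`
  have hL' : L' ≤ centralizer (zc (S : Subgroup G) : Set G) := by
    intro l hl
    rw [mem_centralizer_iff]
    intro x hx
    rcases hzc x hx with rfl | rfl
    · rw [one_mul, mul_one]
    · exact (hcL l hl).symm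
  have hH := h.hyp.low P h.hyp.star
  have h1 := hb.le_centralizer (isPGroup_o2 (centralizer (zc (S : Subgroup G) : Set G)))
    (hL'.trans (le_normalizer_o2 _))
  have hwV : w ∈ zl (S : Subgroup G) P := h.fr.WV i hw
  exact hne (mem_centralizer_iff.1 (h1 (hH hwV)) w' hw')

/-- **`K0 = ⟨C_G(Z_J), L_1, .., L_k⟩`.** -/
theorem Line.K0_eq (h : Line S P L W Z C A 2)
    (htr : ∀ i j : ι, ∃ s ∈ (S : Subgroup G), cj s (Z i) = Z j) :
    K0 (S : Subgroup G) (FBlk (S : Subgroup G)) = centralizer (zj (S : Subgroup G) : Set G) ⊔ ⨆ i, L i := by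
  apply le_antisymm
  · refine sup_le le_sup_left (iSup_le ?_)
    rintro ⟨⟨L', V'⟩, ⟨Z', q', hF⟩, hb⟩
    obtain ⟨i, -, -, hle⟩ := h.uniTwo htr hF hb
    refine hle.trans (sup_le (le_sup_of_le_right (le_iSup L i)) (le_sup_of_le_left (centralizer_le ?_)))
    exact_mod_cast (le_sup_right : zj (S : Subgroup G) ≤ W i ⊔ zj (S : Subgroup G))
  · exact sup_le Dich.cent_le_K0 (iSup_le fun i => Dich.blk_le_K0 (h.fblk i))

end line

end Cfsg.Agent.Omega.OM
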