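import Cfsg.Agent.Omega.OM.PB
import Cfsg.Agent.Omega.SQ1.FFKNat

/-!
# The blocks of a minimal parabolic of type `SL₂(q) ≀` are FF-blocks (`V0 = C_V(H)` arbitrary)

`pb` : `FFK` data `M`, `InK` and a minimal block `L` (`BlkK`) over `bau T` give
`PB (bau T) L (M.N i) (V1 T V ⊓ M.N i) V0 |F|`.
-/

set_option autoImplicit false
set_option linter.unusedSectionVars false

namespace Cfsg.Agent.Omega.OM.FBK

open Subgroup Cfsg Cfsg.Agent.PLocal.ThompsonJ Cfsg.Agent.ZN.ChoiceBase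
open Cfsg.Agent.ZN (jj zj bau zc zl o2)
open Cfsg.Agent.ZN.ChoiceSit
open Cfsg.Agent.Omega.NatPair Cfsg.Agent.Lib.SL2Mat
open Cfsg.Agent.PLocal.ElemAbSup
open Cfsg.Agent.Omega.SQ1.Bau (elem_comm elem_sq mem_sup_comm card_sup_comm mem_sup_norm Mv not_mv_iff mv_inv)
open Cfsg.Agent.Omega.SQ1.BauK
open Cfsg.Agent.Omega.SQ1.BauK.InK (QL mem_QL not_QL comm_iff mem_VL)
open Cfsg.Agent.Omega.SQ1.FFOne
open Cfsg.Agent.Omega.LemmaK (WeakNormal)
open scoped Pointwise commutatorElement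

universe u

variable {G : Type u} [Group G] {ι : Type} {F : Type*} [Field F] {H T V V0 L : Subgroup G} {E : ι → Subgroup G}
  {q : ℕ} {i : ι}

section

variable [Finite G] [Finite F] [CharP F 2] [Finite ι] [Nonempty ι]

theorem St_le (M : FFK ι F H T V V0) : InK.St H (M.N i) ≤ M.St i := fun g hg =>
  M.mem_St.2 ⟨hg.1, M.W_cj_of_N hg.1 (mem_normalizer_iff_cj.1 hg.2)⟩

theorem L_le (M : FFK ι F H T V V0) (h : InK H T (o2 H) V V0 M.N E q) (k : BlkK H T V M.N i L) :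
    L ≤ M.St i := (k.LS h).trans (St_le M)

theorem bau_up (hm : MinH H T) (M : FFK ι F H T V V0) (h : InK H T (o2 H) V V0 M.N E q) {b : G}
    (hb : b ∈ bau T) : ∃ c, M.Up b c := by
  obtain ⟨j, hj, e⟩ := h.bau_act hb
  obtain ⟨c, hc⟩ := M.jj_up hm hj
  exact ⟨c, fun i v hv => by rw [e v hv]; exact hc i v hv⟩

/-- Every element of `L` acts on the `i`-th coordinate as an element of `SL₂(F)`. -/
theorem ind (hm : MinH H T) (M : FFK ι F H T V V0) (h : InK H T (o2 H) V V0 M.N E q)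
    (k : BlkK H T V M.N i L) {l : G} (hl : l ∈ L) : ∃ A, (M.sec i).Ind l A := by
  let X : Subgroup G :=
    { carrier := {g | g ∈ M.St i ∧ ∃ A, (M.sec i).Ind g A}
      mul_mem' := by
        rintro a b ⟨ha, A, hA⟩ ⟨hb, B, hB⟩
        exact ⟨mul_mem ha hb, A * B, (M.sec i).ind_mul ha hb hA hB⟩
      one_mem' := ⟨one_mem _, 1, (M.sec i).ind_one⟩
      inv_mem' := by
        rintro a ⟨ha, A, hA⟩
        exact ⟨inv_mem ha, A⁻¹, (M.sec i).ind_inv ha hA⟩ }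
  have hB : bau T ≤ X := by
    intro b hb
    obtain ⟨c, hc⟩ := bau_up hm M h hb
    exact ⟨L_le M h k (k.BL hb), up (c i), hc i⟩
  obtain ⟨g, hg, hgm⟩ := k.mv
  have hX : L ≤ X := by
    refine k.gen h hg hgm hB fun b hb => ?_
    obtain ⟨hbS, A, hA⟩ := hB hb
    have hgS := L_le M h k hg
    obtain ⟨A', hA'⟩ := (M.sec i).norm g hgS b hbS A hA
    exact ⟨mul_mem (mul_mem hgS hbS) (inv_mem hgS), A', hA'⟩
  exact (hX hl).2

theorem bau_act1 (hm : MinH H T) (M : FFK ι F H T V V0) (i : ι) (c : F) :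
    ∃ a ∈ jj T, Act1 M.π V i a (up c) := by
  obtain ⟨A, hA, -, hc⟩ := M.exists_E hm i
  obtain ⟨a, ha, hac⟩ := hc c
  exact ⟨a, le_jj hA ha, hac⟩

/-- The determining entry: `l` moves the line iff the entry `1 0` is not zero. -/
theorem ent_ne (hm : MinH H T) (M : FFK ι F H T V V0) (h : InK H T (o2 H) V V0 M.N E q)
    (k : BlkK H T V M.N i L) {l : G} (hl : l ∈ L) {A : Matrix.SpecialLinearGroup (Fin 2) F}
    (hA : (M.sec i).Ind l A) (hmv : Mv (V1 T V ⊓ M.N i) l) : ent A 1 0 ≠ 0 := by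
  obtain ⟨v, hv, hlv⟩ := hmv
  intro h0
  apply hlv
  have hv' := (M.mem_V1N hm).1 hv
  rw [M.mem_V1N hm]
  refine ⟨(mem_normalizer_iff.1 (k.LS h hl).2 v).1 hv'.1, ?_⟩
  have h1 := hA v hv'.1.1
  change M.π i (l * v * l⁻¹) = ap A (M.π i v) at h1
  rw [h1, ap_one', h0, hv'.2]; simp

theorem not_mv_of (hm : MinH H T) (M : FFK ι F H T V V0) {l : G} (hN : ∀ v ∈ M.N i, l * v * l⁻¹ ∈ M.N i)
    {A : Matrix.SpecialLinearGroup (Fin 2) F}
    (hA : ∀ v ∈ V, M.π i (l * v * l⁻¹) = ap A (M.π i v)) (h0 : ent A 1 0 = 0) : ¬ Mv (V1 T V ⊓ M.N i) l := by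
  rintro ⟨v, hv, hlv⟩
  apply hlv
  have hv' := (M.mem_V1N hm).1 hv
  rw [M.mem_V1N hm]
  refine ⟨hN v hv'.1, ?_⟩
  rw [hA v hv'.1.1, ap_one', h0, hv'.2]; simp

/-- `L` induces all of `SL₂(F)`. -/
theorem cov (hm : MinH H T) (M : FFK ι F H T V V0) (h : InK H T (o2 H) V V0 M.N E q)
    (k : BlkK H T V M.N i L) (A : Matrix.SpecialLinearGroup (Fin 2) F) : ∃ l ∈ L, (M.sec i).Ind l A := by
  have hLS := L_le M h k
  let K : Subgroup (Matrix.SpecialLinearGroup (Fin 2) F) :=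
    { carrier := {A | ∃ l ∈ L, (M.sec i).Ind l A}
      mul_mem' := by
        rintro A B ⟨a, ha, hA⟩ ⟨b, hb, hB⟩
        exact ⟨a * b, mul_mem ha hb, (M.sec i).ind_mul (hLS ha) (hLS hb) hA hB⟩
      one_mem' := ⟨1, one_mem _, (M.sec i).ind_one⟩
      inv_mem' := by
        rintro A ⟨a, ha, hA⟩
        exact ⟨a⁻¹, inv_mem ha, (M.sec i).ind_inv (hLS ha) hA⟩ }
  have hup : ∀ c : F, up c ∈ K := by
    intro c
    obtain ⟨a, ha, hac⟩ := bau_act1 hm M i c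
    exact ⟨a, k.BL (jj_le_bau T ha), hac.act⟩
  obtain ⟨g, hg, hgm⟩ := k.mv
  obtain ⟨A0, hA0⟩ := ind hm M h k hg
  have hne := ent_ne hm M h k hg hA0 hgm
  have hA0K : A0 ∈ K := ⟨g, hg, hA0⟩
  -- some `lo c0`
  set c0 := ent A0 1 0 with hc0
  have hlo0 : lo c0 ∈ K := by
    obtain ⟨a, d, h1⟩ : ∃ a d, A0 = up a * lo c0 * up d := ⟨_, _, eq_up_lo_up A0 hne⟩
    have h2 := K.mul_mem (K.mul_mem (K.inv_mem (hup a)) hA0K) (K.inv_mem (hup d))
    have h3 : (up a)⁻¹ * A0 * (up d)⁻¹ = lo c0 := by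
      calc (up a)⁻¹ * A0 * (up d)⁻¹ = (up a)⁻¹ * (up a * lo c0 * up d) * (up d)⁻¹ := by rw [← h1]
        _ = lo c0 := by group
    rwa [h3] at h2
  have hb0 : -c0⁻¹ ≠ 0 := neg_ne_zero.2 (inv_ne_zero hne)
  have hw : wm (-c0⁻¹) hb0 ∈ K := by
    rw [wm_eq]
    have e : -(-c0⁻¹)⁻¹ = c0 := by rw [inv_neg, neg_neg, inv_inv]
    rw [e]
    exact K.mul_mem (K.mul_mem hlo0 (hup _)) hlo0
  have hlo : ∀ s : F, lo s ∈ K := by
    intro s
    have h1 := wm_up (-c0⁻¹) (-(s * (-c0⁻¹) ^ 2)) hb0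
    have h2 : -(-(s * (-c0⁻¹) ^ 2) / (-c0⁻¹) ^ 2) = s := by
      rw [neg_div, neg_neg, mul_div_assoc, div_self (pow_ne_zero 2 hb0), mul_one]
    rw [h2] at h1
    have h3 : lo s = wm (-c0⁻¹) hb0 * up (-(s * (-c0⁻¹) ^ 2)) * (wm (-c0⁻¹) hb0)⁻¹ := by
      rw [h1, mul_inv_cancel_right]
    rw [h3]
    exact K.mul_mem (K.mul_mem hw (hup _)) (K.inv_mem hw)
  obtain ⟨a, b, c, d, rfl⟩ := exists_up_lo A
  exact K.mul_mem (K.mul_mem (K.mul_mem (hup a) (hlo b)) (hup c)) (hlo d)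

theorem act_N (M : FFK ι F H T V V0) (h : InK H T (o2 H) V V0 M.N E q)
    (k : BlkK H T V M.N i L) {l z : G} (hl : l ∈ L) (hz : z ∈ zj T) : l * z * l⁻¹ * z⁻¹ ∈ M.N i := by
  obtain ⟨r, hr, b, hb, rfl⟩ := h.mem_PP (k.LP hl)
  have h1 := (mem_RR.1 hr).2.2.2 z (mem_sup_left hz)
  have h2 := (mem_bau.1 hb).2 z hz
  have e : r * b * z * (r * b)⁻¹ = r * z * r⁻¹ := by
    calc r * b * z * (r * b)⁻¹ = r * (b * z) * b⁻¹ * r⁻¹ := by group
      _ = r * (z * b) * b⁻¹ * r⁻¹ := by rw [h2]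
      _ = _ := by group
  rw [e]; exact h1

theorem V0_cent (M : FFK ι F H T V V0) (h : InK H T (o2 H) V V0 M.N E q) (k : BlkK H T V M.N i L)
    {l v : G} (hl : l ∈ L) (hv : v ∈ V0) : l * v = v * l := by
  have hB : ∀ b ∈ bau T, ∀ v ∈ V0, b * v = v * b := fun b hb v hv => h.bau_V1 hb (h.V0V1 i hv).1
  obtain ⟨g, hg, hgm⟩ := k.mv
  have hLc : L ≤ centralizer (V0 : Set G) := by
    refine k.gen h hg hgm (fun b hb => mem_centralizer_iff.2 fun w hw => (hB b hb w hw).symm) fun b hb => ?_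
    refine mem_centralizer_iff.2 fun w hw => ?_
    have hw' : g⁻¹ * w * g ∈ V0 := by
      have := h.V0n g⁻¹ (inv_mem (k.LH h hg)) w hw
      rwa [inv_inv] at this
    have h1 := hB b hb _ hw'
    calc w * (g * b * g⁻¹) = g * ((g⁻¹ * w * g) * b) * g⁻¹ := by group
      _ = g * (b * (g⁻¹ * w * g)) * g⁻¹ := by rw [h1]
      _ = _ := by group
  exact (mem_centralizer_iff.1 (hLc hl) v hv).symm

/-- the condition `cent` -/
theorem cent (hm : MinH H T) (M : FFK ι F H T V V0) (h : InK H T (o2 H) V V0 M.N E q) {b : G}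
    (hb : b ∈ bau T) (hne : ∃ v ∈ M.N i, b * v ≠ v * b) {v : G} (hv : v ∈ M.N i)
    (h0 : b * v * b⁻¹ * v⁻¹ ∈ V0) : v ∈ V1 T V ⊓ M.N i := by
  obtain ⟨c, hc⟩ := bau_up hm M h hb
  have hV : ∀ w ∈ M.N i, b * w * b⁻¹ ∈ V := fun w hw => M.Vn b (h.TH (bau_le T hb)) w hw.1
  have hci : c i ≠ 0 := by
    intro hci
    obtain ⟨w, hw, hwb⟩ := hne
    obtain ⟨j, hj, e⟩ := h.bau_act hb
    have hjN : ∃ v ∈ M.N i, j * v ≠ v * j := ⟨w, hw, fun h1 => hwb (by
      rw [comm_iff] at h1 ⊢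
      rw [e w (h.NV i hw)]; exact h1)⟩
    obtain ⟨u, hu, hu0⟩ := h.faith i j hj hjN
    apply hu0
    rw [← e u hu.1, ← M.ker _ (mul_mem (hV u hu) (inv_mem hu.1))]
    intro m
    rw [M.map_div m (hV u hu) hu.1, hc m u hu.1]
    by_cases hmi : m = i
    · subst hmi
      rw [hci, up_zero, ap_one, sub_self]
    · rw [hu.2 m hmi]
      apply ext2
      · simp [ap_zero']
      · simp [ap_one']
  have h1 := (M.ker _ (mul_mem (hV v hv) (inv_mem hv.1))).2 h0 i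
  rw [M.map_div i (hV v hv) hv.1] at h1
  have h2 := congrFun h1 0
  rw [Pi.sub_apply, M.up_val hc hv.1 i] at h2
  rw [M.mem_V1N hm]
  refine ⟨hv, ?_⟩
  have h3 : c i * M.π i v 1 = 0 := by
    have : M.π i v 0 + c i * M.π i v 1 - M.π i v 0 = c i * M.π i v 1 := by ring
    rw [← this]; exact h2
  exact (mul_eq_zero.1 h3).resolve_left hci

/-- A 2-element of the kernel of `H` on `V / V0` is in `O₂(H)`. -/
theorem kern_two (hm : MinH H T) (M : FFK ι F H T V V0) {S : Subgroup G} (hS : S ≤ H) (h2 : IsPGroup 2 S)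
    {x : G} (hx : x ∈ S) (hk : x ∈ M.kern) : x ∈ o2 H := by
  obtain ⟨R, hR, hSR⟩ := exists_syl h2 hS
  obtain ⟨g, hg, e⟩ := syl_conj hR hm.syl
  have h1 : g * x * g⁻¹ ∈ T := by
    rw [← e]; exact ⟨x, hSR hx, rfl⟩
  have h3 := M.inf_kern_le hm ⟨h1, M.kern_norm hg hk⟩
  have h4 := conj_mem_of_norm (le_normalizer_o2 H (inv_mem hg)) h3
  have e2 : g⁻¹ * (g * x * g⁻¹) * g⁻¹⁻¹ = x := by group
  rwa [e2] at h4

/-- **`B` is a Sylow 2-subgroup of `L`.** -/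
theorem syl (hm : MinH H T) (M : FFK ι F H T V V0) (h : InK H T (o2 H) V V0 M.N E q)
    (hw : WeakNormal 2 (bau T)) (k : BlkK H T V M.N i L)
    (hZ : ∀ z ∈ zj T, ∃ c, (∀ l ∈ L, l * c = c * l) ∧ ∃ n ∈ V1 T V ⊓ M.N i, z = c * n)
    {S : Subgroup G} (hBS : bau T ≤ S) (hSL : S ≤ L) (h2 : IsPGroup 2 S) : S = bau T := by
  classical
  have hSH : S ≤ H := hSL.trans (k.LH h)
  refine le_antisymm (fun t ht => ?_) hBS
  have htL := hSL ht
  have htN : t ∈ normalizer (bau T : Set G) := hw S h2 hBS ht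
  have htS := L_le M h k htL
  -- `t` fixes the line
  have hnm : ¬ Mv (V1 T V ⊓ M.N i) t := by
    rintro ⟨v, hv, htv⟩
    apply htv
    have hN : t * v * t⁻¹ ∈ M.N i := (mem_normalizer_iff.1 (k.LS h htL).2 v).1 hv.2
    refine ⟨mem_V1.2 ⟨hN.1, fun j hj => ?_⟩, hN⟩
    have h3 : t⁻¹ * j * t ∈ bau T := by
      have := (mem_normalizer_iff.1 (inv_mem htN) j).1 (jj_le_bau T hj)
      rwa [inv_inv] at this
    have h4 := h.bau_V1 h3 hv.1
    calc j * (t * v * t⁻¹) = t * ((t⁻¹ * j * t) * v) * t⁻¹ := by group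
      _ = t * (v * (t⁻¹ * j * t)) * t⁻¹ := by rw [h4]
      _ = _ := by group
  obtain ⟨A, hA⟩ := ind hm M h k htL
  -- `A` is unitriangular
  obtain ⟨d, hd⟩ : ∃ d : F, A = up d := by
    have h10 : ent A 1 0 = 0 := by
      by_contra h10
      apply hnm
      obtain ⟨v, hv, e, hv0⟩ := M.surj i ![1, 0]
      have hvN : v ∈ M.N i := ⟨hv, hv0⟩
      refine ⟨v, (M.mem_V1N hm).2 ⟨hvN, by rw [e]; rfl⟩, fun h1 => h10 ?_⟩
      have h2 := ((M.mem_V1N hm).1 h1).2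
      have h3 := hA v hv
      change M.π i (t * v * t⁻¹) = ap A (M.π i v) at h3
      rw [h3, ap_one', e] at h2
      simpa using h2
    obtain ⟨n, hn⟩ := h2 ⟨t, ht⟩
    have hn' : t ^ 2 ^ n = 1 := by simpa using congrArg Subtype.val hn
    have hpow : ∀ m : ℕ, (M.sec i).Ind (t ^ m) (A ^ m) := by
      intro m
      induction m with
      | zero => rw [pow_zero, pow_zero]; exact (M.sec i).ind_one
      | succ m ih => rw [pow_succ, pow_succ]; exact (M.sec i).ind_mul (pow_mem htS m) htS ih hA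
    have h3 := hpow (2 ^ n)
    rw [hn'] at h3
    have h4 := (M.sec i).ind_unique (one_mem _) h3 (M.sec i).ind_one
    have h5 : ∀ m : ℕ, ent (A ^ m) 1 0 = 0 ∧ ent (A ^ m) 0 0 = ent A 0 0 ^ m := by
      intro m
      induction m with
      | zero => simp
      | succ m ih =>
        rw [pow_succ, ent_mul, ent_mul, h10, ih.1, ih.2, pow_succ]
        simp
    have h6 : ent A 0 0 ^ 2 ^ n = 1 := by rw [← (h5 (2 ^ n)).2, h4]; simp
    have h7 : ent A 0 0 = 1 := FF.eq_one_of_pow' h6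
    have h8 := det_eq A
    rw [h7, h10, mul_zero, sub_zero, one_mul] at h8
    exact ⟨ent A 0 1, ext_ent (by simp [h7]) (by simp) (by simp [h10]) (by simp [h8])⟩
  subst hd
  -- the other coordinates
  obtain ⟨r, hr, b, hb, e⟩ := h.mem_PP (k.LP htL)
  obtain ⟨c, hc⟩ := bau_up hm M h hb
  have hrH : r ∈ H := (mem_RR.1 hr).1
  obtain ⟨a, ha, hac⟩ := bau_act1 hm M i (d - c i)
  have haH : a ∈ H := hm.syl.1 (jj_le T ha)
  have hbH : b ∈ H := h.TH (bau_le T hb)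
  have htH := hSH ht
  have hup := FFK.Up.mul M hbH (M.up_of_act1 hac) hc
  -- `x = t (a b)⁻¹` is in the kernel
  have hab : a * b ∈ bau T := mul_mem (jj_le_bau T ha) hb
  have habH : a * b ∈ H := mul_mem haH hbH
  have hx : t * (a * b)⁻¹ ∈ M.kern := by
    refine ⟨mul_mem htH (inv_mem habH), fun v hv m => ?_⟩
    have hv' : (a * b)⁻¹ * v * (a * b) ∈ V := by
      have := M.Vn (a * b)⁻¹ (inv_mem habH) v hv
      rwa [inv_inv] at this
    set w := (a * b)⁻¹ * v * (a * b) with hw'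
    have e1 : t * (a * b)⁻¹ * v * (t * (a * b)⁻¹)⁻¹ = t * w * t⁻¹ := by rw [hw']; group
    have e2 : v = (a * b) * w * (a * b)⁻¹ := by rw [hw']; group
    rw [e1]
    conv_rhs => rw [e2]
    rw [hup m w hv']
    by_cases hmi : m = i
    · subst hmi
      have h3 := hA w hv'
      change M.π m (t * w * t⁻¹) = ap (up d) (M.π m w) at h3
      rw [h3, Pi.add_apply, Pi.single_eq_same, sub_add_cancel]
    · rw [Pi.add_apply, Pi.single_eq_of_ne hmi, zero_add, ← hc m w hv', e]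
      have hbw : b * w * b⁻¹ ∈ V := M.Vn b hbH w hv'
      have e3 : r * b * w * (r * b)⁻¹ = r * (b * w * b⁻¹) * r⁻¹ := by group
      rw [e3]
      -- `r` acts trivially on the coordinate `m`
      obtain ⟨n, hn, u, hu, e4, en⟩ := M.split m hbw
      have hrn := (mem_RR.1 hr).2.2.1 m (Ne.symm hmi) n hn
      have hrN : cj r (M.N m) = M.N m := by
        refine mem_normalizer_iff_cj.1 (mem_norm_of fun y hy => ?_)
        rw [(mem_RR.1 hr).2.2.1 m (Ne.symm hmi) y hy, mul_inv_cancel_right]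
        exact hy
      have hrW := M.W_cj_of_N hrH hrN
      have hu' : r * u * r⁻¹ ∈ M.W m := by
        rw [← hrW]; exact ⟨u, hu, rfl⟩
      have e5 : r * (n * u) * r⁻¹ = (r * n * r⁻¹) * (r * u * r⁻¹) := by group
      rw [e4, e5, hrn, mul_inv_cancel_right, M.map_mul m n hn.1 _ hu'.1, M.map_mul m n hn.1 u hu.1, hu'.2, hu.2]
  have hxS : t * (a * b)⁻¹ ∈ S := mul_mem ht (inv_mem (hBS hab))
  have hxQ := kern_two hm M hSH h2 hxS hx
  -- `t` centralises `Z_J`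
  refine h.bau_of_le hSH h2 hBS t ht fun z hz => ?_
  obtain ⟨y, hy, n, hn, rfl⟩ := hZ z hz
  have h3 : t * n = n * t := by
    have e6 : t = (t * (a * b)⁻¹) * (a * b) := by group
    have h4 := h.bau_V1 hab hn.1
    have h5 := M.VcQ _ hxQ n hn.1.1
    rw [e6]
    calc (t * (a * b)⁻¹) * (a * b) * n = (t * (a * b)⁻¹) * ((a * b) * n) := by group
      _ = ((t * (a * b)⁻¹) * n) * (a * b) := by rw [h4]; group
      _ = n * (t * (a * b)⁻¹ * (a * b)) := by rw [h5]; group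
  have h4 := hy t htL
  calc t * (y * n) = (t * y) * n := by group
    _ = y * (t * n) := by rw [h4]; group
    _ = y * n * t := by rw [h3]; group

theorem tor (hm : MinH H T) (M : FFK ι F H T V V0) (h : InK H T (o2 H) V V0 M.N E q)
    (k : BlkK H T V M.N i L)
    (hsyl : ∀ S : Subgroup G, bau T ≤ S → S ≤ L → IsPGroup 2 S → S = bau T)
    {z z' : G} (hz : z ∈ V1 T V ⊓ M.N i) (hz0 : z ∉ V0) (hz' : z' ∈ V1 T V ⊓ M.N i) (hz0' : z' ∉ V0) :
    ∃ g ∈ L, g ∈ normalizer (bau T : Set G) ∧ g * z * g⁻¹ * z'⁻¹ ∈ V0 := by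
  have hLS := L_le M h k
  have hp : IsPGroup 2 (bau T) := h.syl.2.1.to_le (bau_le T)
  obtain ⟨hzN, hz1⟩ := (M.mem_V1N hm).1 hz
  obtain ⟨hzN', hz1'⟩ := (M.mem_V1N hm).1 hz'
  have hne : ∀ {y}, y ∈ M.N i → M.π i y 1 = 0 → y ∉ V0 → M.π i y 0 ≠ 0 := fun hy h1 h0 h2 =>
    h0 (M.V0_of_N hy (ext2 h2 h1))
  have ha := hne hzN hz1 hz0
  have ha' := hne hzN' hz1' hz0'
  set t : F := M.π i z' 0 / M.π i z 0 with ht
  have ht0 : t ≠ 0 := div_ne_zero ha' ha
  obtain ⟨l, hl, hlA⟩ := cov hm M h k (dg t ht0)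
  let R : Subgroup G :=
    { carrier := {x | x ∈ L ∧ ∃ c : F, (M.sec i).Ind x (up c)}
      mul_mem' := by
        rintro a b ⟨ha, c, hc⟩ ⟨hb, d, hd⟩
        refine ⟨mul_mem ha hb, c + d, ?_⟩
        rw [← up_mul]
        exact (M.sec i).ind_mul (hLS ha) (hLS hb) hc hd
      one_mem' := ⟨one_mem _, 0, by rw [up_zero]; exact (M.sec i).ind_one⟩
      inv_mem' := by
        rintro a ⟨ha, c, hc⟩
        refine ⟨inv_mem ha, -c, ?_⟩
        rw [← up_inv]
        exact (M.sec i).ind_inv (hLS ha) hc }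
  have hRL : R ≤ L := fun x hx => hx.1
  have hBR : bau T ≤ R := by
    intro b hb
    obtain ⟨c, hc⟩ := bau_up hm M h hb
    exact ⟨k.BL hb, c i, hc i⟩
  have hS1 : Syl (bau T) R := ⟨hBR, hp, fun S hS h2 hBS => hsyl S hBS (hS.trans hRL) h2⟩
  have hS2 : Syl (cj l (bau T)) R := by
    refine ⟨?_, isPGroup_cj l hp, fun S hS h2 hle => ?_⟩
    · rintro _ ⟨b, hb, rfl⟩
      obtain ⟨hbL, c, hc⟩ := hBR hb
      refine ⟨mul_mem (mul_mem hl hbL) (inv_mem hl), t ^ 2 * c, ?_⟩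
      have h2 := (M.sec i).ind_mul (mul_mem (hLS hl) (hLS hbL)) (inv_mem (hLS hl))
        ((M.sec i).ind_mul (hLS hl) (hLS hbL) hlA hc) ((M.sec i).ind_inv (hLS hl) hlA)
      rw [dg_up, mul_inv_cancel_right] at h2
      exact h2
    · have h3 : cj l⁻¹ S ≤ L := by
        rintro _ ⟨r, hr, rfl⟩
        exact mul_mem (mul_mem (inv_mem hl) (hRL (hS hr))) (inv_mem (inv_mem hl))
      have h4 := hsyl _ (cj_le_iff.1 hle) h3 (isPGroup_cj _ h2)
      rw [← h4, cj_cj_inv]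
  obtain ⟨x, ⟨hxL, c, hc⟩, e⟩ := syl_conj hS2 hS1
  rw [cj_cj] at e
  refine ⟨x * l, mul_mem hxL hl, mem_normalizer_iff_cj.2 e, ?_⟩
  have h1 : M.π i (x * l * z * (x * l)⁻¹) = M.π i z' := by
    have h2 := (M.sec i).ind_mul (hLS hxL) (hLS hl) hc hlA z hzN.1
    change M.π i (x * l * z * (x * l)⁻¹) = ap (up c * dg t ht0) (M.π i z) at h2
    rw [h2]
    apply ext2
    · rw [ap_zero', hz1]
      simp [ent_mul, ht, div_mul_cancel₀ _ ha]
    · rw [ap_one', hz1, hz1']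
      simp [ent_mul]
  have h2 : x * l * z * (x * l)⁻¹ ∈ M.N i := (mem_normalizer_iff.1 (k.LS h (mul_mem hxL hl)).2 z).1 hzN
  refine M.V0_of_N (mul_mem h2 (inv_mem hzN')) ?_
  rw [M.map_div i h2.1 hzN'.1, h1, sub_self]

/-- **The blocks of a minimal parabolic of type `SL₂(q) ≀`.** -/
theorem pb (hm : MinH H T) (M : FFK ι F H T V V0) (h : InK H T (o2 H) V V0 M.N E q)
    (hw : WeakNormal 2 (bau T)) (k : BlkK H T V M.N i L) :
    PB (bau T) L (M.N i) (V1 T V ⊓ M.N i) V0 q := by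
  have hNB : M.N i ≤ bau T := le_sup_right.trans (h.VL_le_bau i)
  have hNel := isElementaryAbelian_mono h.Velem (h.NV i)
  have hpl : Pl L (M.N i) (V1 T V ⊓ M.N i) V0 q :=
    { Wn := fun l hl v hv => (mem_normalizer_iff.1 (k.LS h hl).2 v).1 hv
      Wc := (h.pl i).Wc
      W1W := (h.pl i).W1W
      W01 := (h.pl i).W01
      W0n := fun l hl v hv => (h.pl i).W0n l (k.LS h hl) v hv
      card := (h.pl i).card
      card1 := (h.pl i).card1
      opp := fun l hl => (h.pl i).opp l (k.LS h hl) }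
  have hact : ∀ l ∈ L, ∀ z ∈ zc (bau T), l * z * l⁻¹ * z⁻¹ ∈ M.N i := fun l hl z hz => by
    rw [zc_bau] at hz
    exact act_N M h k hl hz
  have hsyl : ∀ S : Subgroup G, bau T ≤ S → S ≤ L → IsPGroup 2 S → S = bau T := by
    intro S hBS hSL h2
    refine syl hm M h hw k (fun z hz => ?_) hBS hSL h2
    obtain ⟨l, hl, hmv⟩ := k.mv
    obtain ⟨c, -, hc, n, hn, e⟩ := Z_split_aux hpl hl hmv (fun X hX hx => k.gen h hl hmv hX hx) hNB hNel
      (fun b hb v hv => h.bau_V1 hb hv.1) hact (z := z) (by rw [zc_bau]; exact hz)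
    exact ⟨c, hc, n, hn, e⟩
  exact
    { Bp := h.syl.2.1.to_le (bau_le T)
      BL := k.BL
      el := hNel
      NB := hNB
      Nn := hpl.Wn
      N1N := inf_le_right
      N1c := fun b hb v hv => h.bau_V1 hb hv.1
      N01 := h.V0V1 i
      N0c := fun l hl v hv => V0_cent M h k hl hv
      card := h.card1 i
      card1 := h.card0 i
      opp := hpl.opp
      quad := fun b hb v hv => h.bau_quad hb hv
      cent := fun b hb hne v hv h0 => cent hm M h hb hne hv h0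
      cardB := h.card_bau i
      one := h.one_lt
      mv := k.mv
      gen := fun l hl hmv X hX hx => k.gen h hl hmv hX hx
      act := hact
      cor := fun l hl x hx hc => (mem_QL.1 (k.QL_norm h l hl x (mem_QL.2 ⟨hx, hc⟩))).1
      syl := hsyl
      tor := fun z hz hz0 z' hz' hz0' => tor hm M h k hsyl hz hz0 hz' hz0' }

end

end Cfsg.Agent.Omega.OM.FBK
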