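import Cfsg.Agent.Omega.OM.PB
import Cfsg.Agent.Omega.SQ1.BauSBlk

/-!
# The blocks of a minimal parabolic of type `S_{2^m+1} ≀` (or `S₃ ≀`) are FF-blocks (`C_V(H)` arbitrary)

`pb` : `BauS.In` data and a minimal block `L` (`BauS.Blk`) over `bau T` give
`PB (bau T) L (N i) ⟨d i⟩ 1 2`; `N i` is the natural `SL₂(2)`-module for `L`.
-/

set_option autoImplicit false

namespace Cfsg.Agent.Omega.OM.FBS

open Subgroup Cfsg Cfsg.Agent.PLocal.ThompsonJ Cfsg.Agent.ZN.ChoiceBase
open Cfsg.Agent.ZN (jj zj bau zc zl o2)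
open Cfsg.Agent.ZN.ChoiceSit (Syl)
open Cfsg.Agent.PLocal.ElemAbSup
open Cfsg.Agent.Omega.SQ1.Bau (elem_comm elem_sq mem_sup_comm card_sup_comm mem_sup_norm Mv not_mv_iff mv_inv)
open Cfsg.Agent.Omega.SQ1.BauS
open Cfsg.Agent.Omega.SQ1.BauS.In (sim_one_iff)
open Cfsg.Agent.Omega.SQ1.BauS.Blk (mem_zp Z_inf_N VV_le_B relIndex_QQ)
open Cfsg.Agent.Omega.LemmaK (WeakNormal)
open scoped Pointwise commutatorElement

universe u w

variable {G : Type u} [Group G] {H T Q V L : Subgroup G} {ι : Type w} {N : ι → Subgroup G} {d t r : ι → G} {i : ι}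

theorem mv_iff (h : In H T Q V N d t r) {l : G} : Mv (zpowers (d i)) l ↔ l * d i * l⁻¹ ≠ d i := by
  constructor
  · rintro ⟨x, hx, hx'⟩ e
    apply hx'
    rcases mem_zp h hx with h1 | h1
    · rw [h1, mul_one, mul_inv_cancel]; exact one_mem _
    · rw [h1, e]; exact mem_zpowers _
  · intro hm
    refine ⟨d i, mem_zpowers _, fun h1 => ?_⟩
    rcases mem_zp h h1 with h2 | h2
    · apply h.d1 i
      calc d i = l⁻¹ * (l * d i * l⁻¹) * l := by group
        _ = 1 := by rw [h2]; group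
    · exact hm h2

theorem card_zp (h : In H T Q V N d t r) (i : ι) : Nat.card (zpowers (d i)) = 2 := by
  rw [Nat.card_zpowers]
  exact orderOf_eq_prime (by rw [pow_two]; exact h.mulself (h.dV i)) (h.d1 i)

theorem zp_le (h : In H T Q V N d t r) (i : ι) : zpowers (d i) ≤ N i := (zpowers_le).2 (h.dN i)

/-- `[Z_J, L] ≤ N i` -/
theorem act (h : In H T Q V N d t r) [Finite G] (k : Blk H T V d r i L) {l z : G} (hl : l ∈ L)
    (hz : z ∈ zj T) : l * z * l⁻¹ * z⁻¹ ∈ N i := by
  obtain ⟨g, hg, hm⟩ := k.mv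
  rcases k.Z_split h hg hm hz with h1 | h1
  · have h2 := k.cent_of h hg hm hz h1 l hl
    rw [h2, mul_inv_cancel_right, mul_inv_cancel]
    exact one_mem _
  · have h2 := k.cent_of h hg hm (mul_mem (h.d_mem_Z i) hz) h1 l hl
    have h3 : z = d i * (d i * z) := by rw [← mul_assoc, h.mulself (h.dV i), one_mul]
    have e : l * z * l⁻¹ * z⁻¹ = l * d i * l⁻¹ * (d i)⁻¹ := by
      conv_lhs => rw [h3]
      calc l * (d i * (d i * z)) * l⁻¹ * (d i * (d i * z))⁻¹
          = l * d i * l⁻¹ * (l * (d i * z)) * l⁻¹ * (d i * z)⁻¹ * (d i)⁻¹ := by group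
        _ = l * d i * l⁻¹ * (d i * z * l) * l⁻¹ * (d i * z)⁻¹ * (d i)⁻¹ := by rw [h2]
        _ = _ := by group
    rw [e]
    exact mul_mem (k.L_N h hl (h.dN i)) (inv_mem (h.dN i))

/-- `B` is a Sylow 2-subgroup of `L`. -/
theorem syl (h : In H T Q V N d t r) [Finite G] (hw : WeakNormal 2 (bau T)) (k : Blk H T V d r i L)
    {S : Subgroup G} (hBS : bau T ≤ S) (hSL : S ≤ L) (h2 : IsPGroup 2 S) : S = bau T := by
  refine le_antisymm (fun x hx => ?_) hBS
  have hxL := hSL hx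
  have hxN : x ∈ normalizer (bau T : Set G) := hw S h2 hBS hx
  -- `x` fixes `d i`
  have hfix : x * d i * x⁻¹ = d i := by
    have h3 : x * d i * x⁻¹ ∈ zj T := by
      have h4 := normalizer_le_of_cj (F := zc) (fun g B => LemmaK.Main.zc_cj g B) (bau T) hxN
      rw [zc_bau] at h4
      exact (mem_normalizer_iff.1 h4 _).1 (h.d_mem_Z i)
    rcases Z_inf_N h (k.L_N h hxL (h.dN i)) h3 with h5 | h5
    · exfalso
      apply h.d1 i
      calc d i = x⁻¹ * (x * d i * x⁻¹) * x := by group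
        _ = 1 := by rw [h5]; group
    · exact h5
  obtain ⟨b, hb, hbx⟩ := h.PP_fix (k.LP hxL) hfix
  have hcP : b⁻¹ * x ∈ S := mul_mem (inv_mem (hBS hb)) hx
  have hcH : b⁻¹ * x ∈ H := mul_mem (inv_mem (h.bau_H hb)) (k.LH h hxL)
  have hcV : ∀ v ∈ V, b⁻¹ * x * v = v * (b⁻¹ * x) := by
    refine sim_one_iff.1 ?_
    have := hbx.mul_left b⁻¹
    rwa [inv_mul_cancel] at this
  have hcQ : b⁻¹ * x ∈ Q := by
    obtain ⟨n, hn⟩ := h2 ⟨_, hcP⟩
    exact h.two _ hcH hcV ⟨n, by simpa using congrArg Subtype.val hn⟩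
  have hcB : b⁻¹ * x ∈ bau T := k.inf_Q h (mul_mem (inv_mem (k.BL hb)) hxL) hcQ
  have h3 := mul_mem hb hcB
  rwa [mul_inv_cancel_left] at h3

/-- **The blocks for `q = 2`.** -/
theorem pb (h : In H T Q V N d t r) [Finite G] (hw : WeakNormal 2 (bau T)) (k : Blk H T V d r i L) :
    PB (bau T) L (N i) (zpowers (d i)) ⊥ 2 where
  Bp := h.Tp.to_le (bau_le T)
  BL := k.BL
  el := isElementaryAbelian_mono h.Velem (h.NV i)
  NB := le_sup_right.trans (VV_le_B h)
  Nn := fun l hl v hv => k.L_N h hl hv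
  N1N := zp_le h i
  N1c := fun b hb v hv => by
    have h1 : v ∈ zj T := (zpowers_le.2 (h.d_mem_Z i)) hv
    exact ((mem_bau.1 hb).2 v h1).symm
  N01 := bot_le
  N0c := fun l _ v hv => by rw [mem_bot.1 hv, mul_one, one_mul]
  card := by rw [h.cardN, card_zp h]
  card1 := by rw [card_zp h, Subgroup.card_bot]
  opp := by
    intro l hl hm v hv hlv
    rcases mem_zp h hv with h1 | h1
    · rw [h1, mul_one, mul_inv_cancel]; exact one_mem _
    · exfalso
      rw [h1] at hlv
      rcases mem_zp h hlv with h2 | h2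
      · apply h.d1 i
        calc d i = l⁻¹ * (l * d i * l⁻¹) * l := by group
          _ = 1 := by rw [h2]; group
      · exact (mv_iff h).1 hm h2
  quad := by
    intro b hb v hv
    rcases (h.EE_good (h.bau_EE hb)).actN i with h1 | h1
    · rw [h1 v hv, mul_inv_cancel]; exact one_mem _
    · rw [h1 v hv]
      rcases h.t_comm i v (h.NV i hv) with h2 | h2
      · rw [h2, mul_inv_cancel]; exact one_mem _
      · rw [h2, mul_inv_cancel_right]; exact mem_zpowers _
  cent := by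
    intro b hb hne v hv h0
    have h1 : b * v * b⁻¹ = v := mul_inv_eq_one.1 (mem_bot.1 h0)
    have hbQ : b ∉ QQ T N i := by
      intro hbQ
      obtain ⟨w, hw, hne⟩ := hne
      exact hne (mem_centralizer_iff.1 hbQ.2 w hw).symm
    rcases h.B_ne hb hbQ hv h1 with h2 | h2
    · rw [h2]; exact one_mem _
    · rw [h2]; exact mem_zpowers _
  cardB := by
    have h1 := relIndex_QQ (i := i) h
    have h2 : QQ T N i ≤ bau T := inf_le_left
    have h3 := relIndex_mul_relIndex (⊥ : Subgroup G) (QQ T N i) (bau T) bot_le h2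
    rw [relIndex_bot_left, relIndex_bot_left, h1] at h3
    exact h3.symm
  one := by norm_num
  mv := by
    obtain ⟨l, hl, hm⟩ := k.mv
    exact ⟨l, hl, (mv_iff h).2 hm⟩
  gen := fun l hl hm X hX hx => k.gen h hl ((mv_iff h).1 hm) hX hx
  act := fun l hl z hz => act h k hl (by rwa [zc_bau] at hz)
  cor := fun l hl x hx hc => (k.L_QQ h hl (x := x)
    ⟨hx, mem_centralizer_iff.2 fun v hv => (hc v hv).symm⟩).1
  syl := fun S h1 h2 h3 => syl h hw k h1 h2 h3
  tor := by
    intro z hz hz0 z' hz' hz0'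
    refine ⟨1, one_mem _, one_mem _, ?_⟩
    have h1 := (mem_zp h hz).resolve_left fun e => hz0 (by rw [e]; exact one_mem _)
    have h2 := (mem_zp h hz').resolve_left fun e => hz0' (by rw [e]; exact one_mem _)
    rw [h1, h2, one_mul, inv_one, mul_one, mul_inv_cancel]
    exact one_mem _

theorem comm_eq (h : In H T Q V N d t r) [Finite G] (hw : WeakNormal 2 (bau T)) (k : Blk H T V d r i L) :
    ⁅N i, L⁆ = N i := by
  have hp := pb h hw k
  refine le_antisymm hp.VN fun v hv => ?_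
  obtain ⟨u, hu, n, hn, rfl⟩ := hp.exists_V hv
  rw [mem_bot.1 hn, mul_one]
  exact hu

end Cfsg.Agent.Omega.OM.FBS
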