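import Cfsg.Agent.Omega.OM.Dich
import Cfsg.Agent.Omega.NO3b.K0.Bridge
import Cfsg.Agent.Omega.NO3b.K0.FullOff
import Cfsg.Agent.Omega.NO3b.K0.One
import Cfsg.Agent.Omega.FFThmM

/-!
# Fixed points do not lift (helper857 #12910 (c))

`T` a Sylow 2-subgroup of the minimal parabolic `H` over `T`, `[Ω₁(Z(T)), H] = 1`, `J(T) ≰ O₂(H)`. Then `O²(H)`
centralises `Ω₁(Z(O₂(H)))`; more generally every elementary abelian normal 2-subgroup of `H` centralised by `O₂(H)`
(`fix_of`). Input: the abstract FF theorem `FFBr.AStmt`.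
-/

set_option autoImplicit false

namespace Cfsg.Agent.Omega.OM.FixPt

open Subgroup Cfsg Cfsg.Agent.ZN.ChoiceBase Cfsg.Agent.ZN.ChoiceSit
open Cfsg.Agent.ZN (jj zj bau zc zl o2)
open Cfsg.Agent.MinSimple.MinParabolic (IsMinPar)
open Cfsg.Agent.MinSimple.VModule (oddGen mem_oddGen le_normalizer_oddGen oddGen_le)
open Cfsg.Agent.Omega.NO3b.K0 (NoOv FullOff noOv fullOff oddGen_oddGen norm_inf)
open Cfsg.Agent.Omega.NO3S.NotFF (le_centralizer_of_commutator commutator_commutator_eq normalizer_commutator)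
open Cfsg.Agent.Omega.FFThm (Off off_of_AA relIndex_le_iff)
open scoped commutatorElement

universe u

variable {G : Type u} [Group G] [Finite G] {T H : Subgroup G}

theorem ri_ne (A B : Subgroup G) : A.relIndex B ≠ 0 := Subgroup.index_ne_zero_of_finite

/-- **Fixed points do not lift.** -/
theorem fix_of (hA : FFBr.AStmt.{u}) (hT : Syl T H) (hmin : IsMinPar T H) (hJ : ¬ jj T ≤ o2 H)
    (hz : H ≤ centralizer (zc T : Set G)) {U : Subgroup G} (hU2 : ∀ u ∈ U, u ^ 2 = 1)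
    (hUc : U ≤ centralizer (U : Set G)) (hUn : H ≤ normalizer (U : Set G)) (hUO : U ≤ o2 H)
    (hOU : o2 H ≤ centralizer (U : Set G)) : U ≤ centralizer (oddGen H : Set G) := by
  classical
  by_contra hcon
  -- a minimal bad submodule
  let 𝒮 : Set (Subgroup G) := {K | K ≤ U ∧ H ≤ normalizer (K : Set G) ∧ ¬ K ≤ centralizer (oddGen H : Set G)}
  have hne : 𝒮.Nonempty := ⟨U, le_rfl, hUn, hcon⟩
  obtain ⟨Y, hY, hYmin⟩ : ∃ Y ∈ 𝒮, ∀ K ∈ 𝒮, Nat.card Y ≤ Nat.card K := by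
    obtain ⟨Y, hY⟩ := Set.exists_min_image 𝒮 (fun K => Nat.card K) (Set.toFinite _) hne
    exact ⟨Y, hY⟩
  obtain ⟨hYU, hYn, hYodd⟩ := hY
  have hprop : ∀ K : Subgroup G, K ≤ Y → H ≤ normalizer (K : Set G) → K ≠ Y →
      K ≤ centralizer (oddGen H : Set G) := by
    intro K hKY hKn hKne
    by_contra h
    exact hKne (Subgroup.eq_of_le_of_card_ge hKY (hYmin K ⟨hKY.trans hYU, hKn, h⟩))
  have hYsq : ∀ y ∈ Y, y ^ 2 = 1 := fun y hy => hU2 y (hYU hy)
  have hYc : Y ≤ centralizer (Y : Set G) := hYU.trans (hUc.trans (centralizer_le (by exact_mod_cast hYU)))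
  have hYO : o2 H ≤ centralizer (Y : Set G) := hOU.trans (centralizer_le (by exact_mod_cast hYU))
  have hYH : Y ≤ H := hYU.trans (hUO.trans (o2_le H))
  have hYT : Y ≤ T := hYU.trans (hUO.trans (o2_le_syl hT))
  have hYp : IsPGroup 2 Y := hT.2.1.to_le hYT
  have hEn : oddGen H ≤ normalizer (Y : Set G) := (oddGen_le H).trans hYn
  -- `[Y, O²(H)] = Y`
  have hYE : ⁅Y, oddGen H⁆ = Y := by
    by_contra h
    have h1 : ⁅Y, oddGen H⁆ ≤ Y := NO3b.CTwo.Sit.commutator_le_of_norm hEn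
    have h2 : H ≤ normalizer ((⁅Y, oddGen H⁆ : Subgroup G) : Set G) :=
      normalizer_commutator hYn (le_normalizer_oddGen H)
    exact hYodd (le_centralizer_of_commutator (oddGen_oddGen H) hYp hEn (hprop _ h1 h2 h))
  have hYne : Y ≠ ⊥ := by
    rintro rfl
    exact hYodd bot_le
  -- an offender
  obtain ⟨A, hAT, hAO⟩ : ∃ A ∈ AA T, ¬ A ≤ o2 H := by
    by_contra hc
    push Not at hc
    apply hJ
    rw [jj_eq]
    exact sSup_le hc
  have hAel := hAT.1
  have hAle : A ≤ T := hAT.2.1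
  have hA2 : ∀ a ∈ A, a ^ 2 ∈ o2 H := fun a ha => by rw [hAel.2 a ha]; exact one_mem _
  have hAc : ∀ a ∈ A, ∀ b ∈ A, a * b * a⁻¹ * b⁻¹ ∈ o2 H := fun a ha b hb => by
    have h3 : a * b = b * a := congrArg Subtype.val (hAel.1.is_comm.comm ⟨a, ha⟩ ⟨b, hb⟩)
    have h4 : a * b * a⁻¹ * b⁻¹ = 1 := by rw [h3]; group
    rw [h4]; exact one_mem _
  set D : Subgroup G := Y ⊓ centralizer (oddGen H : Set G) with hD
  have hDn : H ≤ normalizer (D : Set G) :=
    norm_inf hYn ((le_normalizer_oddGen H).trans Dich.norm_cent)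
  have hDne : D ≠ Y := fun h => hYodd (inf_eq_left.1 h)
  -- `D' = {y | [y, A] ≤ D}`
  let D' : Subgroup G :=
    { carrier := {y | y ∈ Y ∧ ∀ a ∈ A, ⁅y, a⁆ ∈ D}
      one_mem' := ⟨one_mem _, fun a _ => by rw [commutatorElement_one_left]; exact one_mem _⟩
      mul_mem' := by
        rintro x y ⟨hx, hx'⟩ ⟨hy, hy'⟩
        refine ⟨mul_mem hx hy, fun a ha => ?_⟩
        have h1 : x * ⁅y, a⁆ = ⁅y, a⁆ * x := mem_centralizer_iff.1 (hYc (hy' a ha).1) x hx
        have h2 : ⁅x * y, a⁆ = (x * ⁅y, a⁆ * x⁻¹) * ⁅x, a⁆ := by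
          simp only [commutatorElement_def]; group
        rw [h2, h1, mul_inv_cancel_right]
        exact mul_mem (hy' a ha) (hx' a ha)
      inv_mem' := by
        rintro x ⟨hx, hx'⟩
        have h1 : x⁻¹ = x := inv_eq_of_mul_eq_one_left (by have := hYsq x hx; rwa [pow_two] at this)
        rw [h1]
        exact ⟨hx, hx'⟩ }
  have hD'Y : D' ≤ Y := fun y hy => hy.1
  have hCD' : Y ⊓ centralizer (A : Set G) ≤ D' := by
    rintro y ⟨hy, hyc⟩
    refine ⟨hy, fun a ha => ?_⟩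
    have h1 := mem_centralizer_iff.1 hyc a ha
    have h2 : ⁅y, a⁆ = 1 := by rw [commutatorElement_def, ← h1]; group
    rw [h2]; exact one_mem _
  -- NoOv
  have h1 := noOv hA hT hmin D Y A D' inf_le_left hYH hYsq hYc hDn hYn
    (fun K hDK hKY hKn => by
      by_cases h : K = Y
      · exact Or.inr h
      · exact Or.inl (le_antisymm (le_inf hKY (hprop K hKY hKn h)) hDK))
    (fun h => hDne (le_antisymm inf_le_left (hYE ▸ h))) (hAle.trans hT.1) hA2 hAc hD'Y
    (by rw [commutator_le]; exact fun y hy a ha => hy.2 a ha)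
  have hAY : ¬ A ≤ centralizer (Y : Set G) := by
    intro h
    have h2 : D' = Y := le_antisymm hD'Y ((le_inf le_rfl (le_centralizer_iff.1 h)).trans hCD')
    rw [h2, relIndex_self] at h1
    have h3 : (o2 H).relIndex A = 1 := le_antisymm h1 (Nat.one_le_iff_ne_zero.2 ((ri_ne _ _)))
    exact hAO (relIndex_eq_one.1 h3)
  have hYel : IsElementaryAbelian 2 Y :=
    ⟨⟨⟨fun a b => Subtype.ext (mem_centralizer_iff.1 (hYc b.2) a a.2)⟩⟩, hYsq⟩
  have hoff := off_of_AA hYel hYT hAT hAY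
  have h2 : (centralizer (A : Set G)).relIndex Y ≤ (centralizer (Y : Set G)).relIndex A := relIndex_le_iff.1 hoff.le
  have h3 : (centralizer (Y : Set G)).relIndex A ≤ (o2 H).relIndex A :=
    Nat.le_of_dvd (Nat.pos_of_ne_zero (ri_ne _ _)) (relIndex_dvd_of_le_left A hYO)
  have h40 : (Y ⊓ centralizer (A : Set G)).relIndex Y = (centralizer (A : Set G)).relIndex Y :=
    inf_relIndex_left Y (centralizer (A : Set G))
  have h41 := relIndex_mul_relIndex _ _ _ hCD' hD'Y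
  have h42 : (Y ⊓ centralizer (A : Set G)).relIndex D' ≠ 0 := (ri_ne _ _)
  have h43 : D'.relIndex Y ≠ 0 := (ri_ne _ _)
  rw [h40] at h41
  have h4 : D'.relIndex Y ≤ (centralizer (A : Set G)).relIndex Y := by
    rw [← h41]
    exact Nat.le_mul_of_pos_left _ (Nat.pos_of_ne_zero h42)
  have h5 : D'.relIndex Y = (centralizer (A : Set G)).relIndex Y :=
    le_antisymm h4 (h2.trans (h3.trans h1))
  have h6 : (Y ⊓ centralizer (A : Set G)).relIndex D' = 1 := by
    rw [← h5] at h41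
    exact Nat.eq_of_mul_eq_mul_right (Nat.pos_of_ne_zero h43) (by rw [h41, one_mul])
  have h7 : D' ≤ Y ⊓ centralizer (A : Set G) := relIndex_eq_one.1 h6
  obtain ⟨y, hy, hyT, hyE⟩ := fullOff hA hT hmin Y A hYH hYsq hYc hYn hYO hYE hYne hprop hAle hA2 hAc hAO
    (fun y hy h => (h7 ⟨hy, fun a ha => ⟨by
      have h8 : ⁅y, a⁆ = y * (a * y⁻¹ * a⁻¹) := by rw [commutatorElement_def]; group
      rw [h8]
      exact mul_mem hy ((mem_normalizer_iff.1 (hYn (hT.1 (hAle ha))) _).1 (inv_mem hy)), h a ha⟩⟩).2)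
    (le_antisymm (h1.trans h4) (h2.trans h3))
  apply hyE
  have hyz : y ∈ zc T := mem_zc.2 ⟨hYT hy, hYsq y hy, fun t ht => mem_centralizer_iff.1 hyT t ht⟩
  rw [mem_centralizer_iff]
  intro e he
  exact (mem_centralizer_iff.1 (hz (oddGen_le H he)) y hyz).symm

/-- The fixed point statement. -/
theorem fixPt (hA : FFBr.AStmt.{u}) (hT : Syl T H) (hmin : IsMinPar T H) : Dich.FixPt T H := by
  intro hJ hz
  refine fix_of hA hT hmin hJ hz (fun u hu => (mem_zc.1 hu).2.1) ?_ ?_ (zc_le _) ?_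
  · intro u hu
    rw [mem_centralizer_iff]
    exact fun v hv => (mem_zc.1 hu).2.2 v (mem_zc.1 hv).1
  · refine (le_normalizer_o2 H).trans ?_
    exact normalizer_le_of_cj (F := zc) (fun g B => LemmaK.Main.zc_cj g B) _
  · intro x hx
    rw [mem_centralizer_iff]
    exact fun u hu => ((mem_zc.1 hu).2.2 x hx).symm

end Cfsg.Agent.Omega.OM.FixPt
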