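import Cfsg.Agent.Omega.OM.Dich
import Cfsg.Agent.Omega.OM.FixPt
import Cfsg.Agent.Omega.OM.FBK
import Cfsg.Agent.Omega.OM.FBS
import Cfsg.Agent.Omega.OM.ROneSymT
import Cfsg.Agent.Omega.FFThm

/-!
# (O1+) of #14539: minimal parabolics which move `Ω₁(Z(T))` are generated by `T` and blocks

`FBlk S L V` : `L` is an FF-block (`Uni.FB`) over `B = bau S` with module `V`, and a block of Lemma K.

* `FBlk.conj` : `N_G(B)` permutes these blocks;
* `blkGen` : `Dich.BlkGen S (FBlk S) T H` for every minimal parabolic `H` of characteristic 2 over `T ≥ B`;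
* `gen` : **(O1+)** for the family of all FF-blocks over `B`: only `FFThm.Stmt` and `FFBr.AStmt` are used.
* `dich` : **(5)**.
-/

set_option autoImplicit false

namespace Cfsg.Agent.Omega.OM.BlkGen

open Subgroup Cfsg Cfsg.Agent.ZN.ChoiceBase Cfsg.Agent.ZN.ChoiceSit
open Cfsg.Agent.ZN (jj zj bau zc zl o2)
open Cfsg.Agent.MinSimple.MinParabolic (IsMinPar)
open Cfsg.Agent.MinSimple.VModule (oddGen)
open Cfsg.Agent.Omega.LemmaK (Block WeakNormal)
open Cfsg.Agent.Omega.LemmaK.Main (le_normalizer_bau)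
open Cfsg.Agent.Omega.FFThm (Off NoOver Concl NatK SymK)
open Cfsg.Agent.Omega.FrameFF (cv)
open Cfsg.Agent.Omega.OM.Uni (FB)
open Cfsg.Agent.Omega.OM.Dich (K0 Fam)
open scoped Pointwise commutatorElement

universe u

variable {G : Type u} [Group G]

/-! ### The family -/

/-- `L` is an FF-block over `bau S` with module `V`. -/
structure FBlk (S L V : Subgroup G) : Prop where
  fb : ∃ Z q, FB (bau S) L V Z q
  blk : Block 2 (bau S) L V

theorem block_conj {B L V : Subgroup G} (h : Block 2 B L V) (g : G) : Block 2 (cj g B) (cj g L) (cj g V) where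
  two := isPGroup_cj g h.two
  le := cj_mono g h.le
  nor := h.nor.conj g
  gen := by
    refine (cj_mono g h.gen).trans ?_
    have h1 : cj g (⨆ x : L, MulAut.conj (x : G) • B) = ⨆ x : L, cj g (MulAut.conj (x : G) • B) :=
      Subgroup.map_iSup _ _
    rw [h1]
    refine iSup_le fun x => ?_
    have hx : g * x * g⁻¹ ∈ cj g L := ⟨x, x.2, rfl⟩
    refine le_trans ?_ (le_iSup (fun y : (cj g L : Subgroup G) => MulAut.conj (y : G) • cj g B) ⟨g * x * g⁻¹, hx⟩)
    change cj g (cj (x : G) B) ≤ cj (g * x * g⁻¹) (cj g B)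
    rw [cj_cj, cj_cj]
    have : g * (x : G) * g⁻¹ * g = g * x := by group
    rw [this]
  inv := by
    intro y hy
    rw [← cj_normalizer, mem_cj]
    refine h.inv _ fun x hx => ?_
    have h1 := hy (g * x * g⁻¹) ⟨x, hx, rfl⟩
    change y ∈ normalizer (cj (g * x * g⁻¹) (cj g B) : Set G) at h1
    rw [cj_cj, inv_mul_cancel_right, ← cj_cj, ← cj_normalizer, mem_cj] at h1
    exact h1
  Vp := isPGroup_cj g h.Vp
  VL := cj_mono g h.VL
  LV := by
    rw [← cj_normalizer]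
    exact cj_mono g h.LV
  core := by
    intro W hW hWL hLW
    have h1 := h.core (cj g⁻¹ W) (isPGroup_cj _ hW) (by
      rw [cj_le_iff, inv_inv]; exact hWL) (by
      rw [← cj_normalizer, ← cj_le_iff]; exact hLW)
    rw [cj_le_iff, inv_inv, cj_centralizer] at h1
    exact h1
  irr := by
    intro U hU hLU
    rcases h.irr (cj g⁻¹ U) (by rw [cj_le_iff, inv_inv]; exact hU) (by
      rw [← cj_normalizer, ← cj_le_iff]; exact hLU) with h1 | h1
    · left
      rw [cj_le_iff, inv_inv, cj_centralizer] at h1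
      exact h1
    · right
      rw [← cj_le_iff] at h1
      exact h1
  perf := by
    have h1 := cj_mono g h.perf
    have h2 : cj g ⁅V, L⁆ = ⁅cj g V, cj g L⁆ := Subgroup.map_commutator _ _ _
    rwa [h2] at h1

theorem FBlk.conj {S L V : Subgroup G} (h : FBlk S L V) {n : G} (hn : n ∈ normalizer (bau S : Set G)) :
    FBlk S (cj n L) (cj n V) := by
  obtain ⟨⟨Z, q, h1⟩, h2⟩ := h
  have h3 := h1.conj n
  have h4 := block_conj h2 n
  rw [cj_eq_of_mem_normalizer hn] at h3 h4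
  exact ⟨⟨_, _, h3⟩, h4⟩

/-- The family of all FF-blocks over `bau S`: it remains to know `Z_J ≤ ∏ V_L`. -/
theorem fam [Finite G] {S : Sylow 2 G}
    (h : zj (S : Subgroup G) ≤ ⨆ i : {x : Subgroup G × Subgroup G // FBlk (S : Subgroup G) x.1 x.2}, i.1.2) :
    Fam S (FBlk (S : Subgroup G)) where
  blk := fun _ _ h => h.blk
  conj := fun _ hn _ _ h => h.conj hn
  zj_le := h

/-! ### Offenders -/

section

variable [Finite G] {T H : Subgroup G}

/-- `C_T(V_H) = O₂(H)` -/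
theorem inf_cent (hT : Syl T H) (hP : IsMinPar T H) (hZ : ¬ H ≤ centralizer (zc T : Set G)) :
    T ⊓ centralizer (zl T H : Set G) ≤ o2 H := by
  have hfact : Fact (Nat.Prime 2) := ⟨Nat.prime_two⟩
  rcases hP.sup_eq_or_inf_le (p := 2) hT.2.1 (syl_not_dvd hT) (N := H ⊓ centralizer (zl T H : Set G)) inf_le_left
      (MinSimple.VModule.le_normalizer_centralizer_zl T H) with h1 | h1
  · exfalso
    apply hZ
    rw [← h1]
    exact sup_le (inf_le_right.trans (centralizer_le (MinSimple.VModule.zc_le_zl T H)))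
      (MinSimple.VModule.le_centralizer_zc T)
  · refine le_trans ?_ h1
    exact fun x hx => ⟨hx.1, hT.1 hx.1, hx.2⟩

theorem zl_elem (hT : Syl T H) (hc : H ⊓ centralizer (o2 H : Set G) ≤ o2 H) :
    IsElementaryAbelian 2 (zl T H) := by
  have h1 := MinSimple.VModule.zl_le_zc hT.1 hT.2.1 (syl_not_dvd hT) hc
  refine ⟨⟨⟨fun a b => Subtype.ext ?_⟩⟩, fun a ha => (mem_zc.1 (h1 ha)).2.1⟩
  have ha := mem_zc.1 (h1 a.2)
  have hb := mem_zc.1 (h1 b.2)
  exact hb.2.2 _ ha.1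

/-- an offender in `A(T)` -/
theorem exists_off (hT : Syl T H) (hP : IsMinPar T H) (hc : H ⊓ centralizer (o2 H : Set G) ≤ o2 H)
    (hJ : ¬ jj T ≤ o2 H) (hZ : ¬ H ≤ centralizer (zc T : Set G)) : ∃ A ∈ AA T, Off (zl T H) A := by
  obtain ⟨A, hA, hAO⟩ : ∃ A ∈ AA T, ¬ A ≤ o2 H := by
    by_contra hcon
    push Not at hcon
    apply hJ
    rw [jj_eq]
    exact sSup_le hcon
  have hVT : zl T H ≤ T :=
    ((MinSimple.VModule.zl_le_zc hT.1 hT.2.1 (syl_not_dvd hT) hc).trans (zc_le _)).trans (o2_le_syl hT)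
  exact ⟨A, hA, FFThm.off_of_AA (zl_elem hT hc) hVT hA fun h => hAO fun a ha =>
    inf_cent hT hP hZ ⟨hA.2.1 ha, h ha⟩⟩

/-- **Minimal parabolics which move `Ω₁(Z(T))` are generated by `T` and an FF-block over `B`.** -/
theorem blkGen (hFF : FFThm.Stmt.{u}) (S : Sylow 2 G) (hT : Syl T H) (hB : bau (S : Subgroup G) ≤ T)
    (hP : IsMinPar T H) (hc : H ⊓ centralizer (o2 H : Set G) ≤ o2 H) :
    Dich.BlkGen (S : Subgroup G) (FBlk (S : Subgroup G)) T H := by
  intro hJ hZ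
  have hbau : bau T = bau (S : Subgroup G) := LemmaK.Main.bau_eq S hT.2.1 hB
  have hw : WeakNormal 2 (bau T) := by
    rw [hbau]
    exact fun R hR hBR => le_normalizer_bau S hR hBR
  obtain ⟨A, hA, hoff⟩ := exists_off hT hP hc hJ hZ
  obtain ⟨hno, hcon⟩ := hFF G T H hT hP hc ⟨A, hA.2.1.trans hT.1, hoff⟩
  have hm := SQ1.FFOne.minH_of hT hP hc
  rcases hcon with ⟨F, _, _, _, k, hk, ⟨M⟩⟩ | ⟨k, m, hk, hm2, ⟨M⟩⟩
  · have : Nonempty (Fin k) := ⟨⟨0, hk⟩⟩
    set N := (SQ1.FFOne.natKB_of hT hc hJ hk M).toFFK hm with hN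
    obtain ⟨E, hE⟩ := N.toInK hm
    obtain ⟨L, hL⟩ := hE.exists_blk ⟨0, hk⟩
    have hpb := FBK.pb hm N hE hw hL
    have hF : FBlk (S : Subgroup G) L ⁅N.N ⟨0, hk⟩, L⁆ := by
      exact ⟨⟨_, _, by rw [← hbau]; exact hpb.fb⟩, by rw [← hbau]; exact hpb.block hw⟩
    exact hL.sup_T hE le_sup_right (le_sup_of_le_left (Dich.blk_le_K0 hF))
  · have h := syT_of hm hJ M hk (by omega) SQ1.FFOf.cv_le SQ1.FFOf.cv_norm
    obtain ⟨ι, J, X, Y, t, r, c⟩ := h.exists_ch
    have hin := c.main h Cfsg.Agent.Omega.SQ1.SymCyc.exists_pow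
    obtain ⟨j, x, y, hTr⟩ := h.exists_tr
    obtain ⟨i, -⟩ := c.ex j x y hTr
    obtain ⟨L, hL⟩ := hin.exists_blk i
    have hpb := FBS.pb hin hw hL
    have hF : FBlk (S : Subgroup G) L ⁅h.NN (J i) 0 (X i) (Y i), L⁆ := by
      exact ⟨⟨_, _, by rw [← hbau]; exact hpb.fb⟩, by rw [← hbau]; exact hpb.block hw⟩
    exact hL.sup_T hin le_sup_right (le_sup_of_le_left (Dich.blk_le_K0 hF))

/-- **(O1+)** for the family of all FF-blocks over `B`. -/
theorem gen (hFF : FFThm.Stmt.{u}) (hA : FFBr.AStmt.{u}) {S : Sylow 2 G} {M : Subgroup G}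
    (hK : K0 (S : Subgroup G) (FBlk (S : Subgroup G)) ≤ M) (hN : normalizer (bau (S : Subgroup G) : Set G) ≤ M)
    (hT : Syl T H) (hB : bau (S : Subgroup G) ≤ T) (hc : H ⊓ centralizer (o2 H : Set G) ≤ o2 H) :
    H ≤ (H ⊓ M) ⊔ ⨆ Y : {Y : Subgroup G // IsMinPar T Y ∧ Y ≤ H ∧ ¬ jj T ≤ o2 Y ∧
      Y ≤ centralizer (zc T : Set G) ∧ ¬ o2 Y ≤ bau (S : Subgroup G)}, (Y : Subgroup G) := by
  have hsyl : ∀ Y : Subgroup G, IsMinPar T Y → Y ≤ H → Syl T Y := fun Y hY hYH =>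
    ⟨hY.le, hT.2.1, fun Q hQ h2 hTQ => hT.2.2 Q (hQ.trans hYH) h2 hTQ⟩
  have hcY : ∀ Y : Subgroup G, IsMinPar T Y → Y ≤ H → Y ⊓ centralizer (o2 Y : Set G) ≤ o2 Y := by
    intro Y hY hYH
    have h4 : o2 H ≤ o2 Y :=
      le_o2 (isPGroup_o2 H) ((o2_le_syl hT).trans hY.le) (hYH.trans (le_normalizer_o2 H))
    rintro x ⟨hx, hxc⟩
    exact h4 (hc ⟨hYH hx, centralizer_le (by exact_mod_cast h4) hxc⟩)
  exact Dich.gen hK hN hT hB hc (fun Y hY hYH => FixPt.fixPt hA (hsyl Y hY hYH) hY)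
    fun Y hY hYH => blkGen hFF S (hsyl Y hY hYH) hB hY (hcY Y hY hYH)

end

end Cfsg.Agent.Omega.OM.BlkGen
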