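import Cfsg.Agent.Omega.OM.NX
import Cfsg.Agent.Omega.OM.FBBlock
import Cfsg.Agent.Omega.OM.ROneNat

/-!
# The frame `Fr` for a minimal parabolic with natural modules

`H` a minimal parabolic over `T`, `J(T) ≰ O₂(H)`, `V = zl T H` a sum of `k` natural `SL₂(F)`-modules, `cv T H = 1`:
`natFr : ∃ L, (∀ i, L i ≤ H) ∧ Fr (bau T) (o2 H) (zl T H) (zj T) L (Wn M) (Zn M) (Cn M) A |F| (mm T)`.
-/

set_option autoImplicit false

namespace Cfsg.Agent.Omega.OM.Uni

open Subgroup Cfsg Cfsg.Agent.PLocal.ThompsonJ Cfsg.Agent.ZN Cfsg.Agent.ZN.ChoiceBase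
open Cfsg.Agent.ZN.ChoiceSit
open Cfsg.Agent.Omega.NatPair Cfsg.Agent.Lib.SL2Mat
open Cfsg.Agent.Omega.SQ1.FFOne
open Cfsg.Agent.Omega.FFThm (NatK ActsSL)
open Cfsg.Agent.Omega.FrameFF (cv)
open Cfsg.Agent.MinSimple.MinParabolic (IsMinPar)
open Cfsg.Agent.PLocal.ElemAbSup
open Cfsg.Agent.Omega.OM.BlockUniq (Mx)
open scoped Pointwise commutatorElement

universe u

variable {G : Type u} [Group G]

/-- 2-subgroups of `H` over `bau T`, `T` Sylow in `H`. -/
theorem bau_eq_of_le [Finite G] {H T R : Subgroup G} (hT : Syl T H) (hR : R ≤ H) (h2 : IsPGroup 2 R)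
    (hB : bau T ≤ R) : bau R = bau T ∧ zj R = zj T := by
  obtain ⟨S', hS', hle⟩ := exists_syl h2 hR
  obtain ⟨x, -, hx⟩ := syl_conj hS' hT
  have h1 : key R ≤ key T := by
    refine (key_mono hle).trans ?_
    rw [← hx, key_cj]
  obtain ⟨-, h2, h3, -⟩ := of_key_le hB h1
  exact ⟨h3, zj_congr h2⟩

section

variable {F : Type} [Field F] {T H V D : Subgroup G} {k : ℕ} (M : NatKB F T H V D k)

theorem nat_inj (hD : D = ⊥) {v w : G} (hv : v ∈ V) (hw : w ∈ V) (h : M.nat.e v = M.nat.e w) : v = w := by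
  have h1 : v * w⁻¹ ∈ D := by
    rw [← M.nat.ker _ (mul_mem hv (inv_mem hw)), M.map_div hv hw, h, sub_self]
  rw [hD, mem_bot] at h1
  exact mul_inv_eq_one.1 h1

/-- the `i`-th summand -/
def Wn (i : Fin k) : Subgroup G where
  carrier := {v | v ∈ V ∧ ∀ j, j ≠ i → M.nat.e v j = 0}
  mul_mem' := by
    rintro a b ⟨ha, ha'⟩ ⟨hb, hb'⟩
    exact ⟨mul_mem ha hb, fun j hj => by rw [M.nat.mul a ha b hb, Pi.add_apply, ha' j hj, hb' j hj, add_zero]⟩
  one_mem' := ⟨one_mem _, fun j _ => by rw [M.map_one]; rfl⟩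
  inv_mem' := by
    rintro a ⟨ha, ha'⟩
    exact ⟨inv_mem ha, fun j hj => by rw [M.map_inv ha, Pi.neg_apply, ha' j hj, neg_zero]⟩

/-- the complement of the `i`-th summand -/
def Cn (i : Fin k) : Subgroup G where
  carrier := {v | v ∈ V ∧ M.nat.e v i = 0}
  mul_mem' := by
    rintro a b ⟨ha, ha'⟩ ⟨hb, hb'⟩
    exact ⟨mul_mem ha hb, by rw [M.nat.mul a ha b hb, Pi.add_apply, ha', hb', add_zero]⟩
  one_mem' := ⟨one_mem _, by rw [M.map_one]; rfl⟩
  inv_mem' := by
    rintro a ⟨ha, ha'⟩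
    exact ⟨inv_mem ha, by rw [M.map_inv ha, Pi.neg_apply, ha', neg_zero]⟩

theorem mem_Wn {i : Fin k} {v : G} : v ∈ Wn M i ↔ v ∈ V ∧ ∀ j, j ≠ i → M.nat.e v j = 0 := Iff.rfl

theorem mem_Cn {i : Fin k} {v : G} : v ∈ Cn M i ↔ v ∈ V ∧ M.nat.e v i = 0 := Iff.rfl

/-- the elements of `H` acting as `SL₂` on the `i`-th summand and as upper unitriangular matrices on the others -/
def Xn (i : Fin k) : Subgroup G where
  carrier := {h | h ∈ H ∧ ∃ A, M.Acts h A ∧ ∀ j, j ≠ i → ∃ c, A j = up c}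
  mul_mem' := by
    rintro a b ⟨ha, A, hA, hA'⟩ ⟨hb, B, hB, hB'⟩
    refine ⟨mul_mem ha hb, A * B, NatKB.acts_mul hb hA hB, fun j hj => ?_⟩
    obtain ⟨c, hc⟩ := hA' j hj
    obtain ⟨d, hd⟩ := hB' j hj
    exact ⟨c + d, by rw [Pi.mul_apply, hc, hd, up_mul]⟩
  one_mem' := ⟨one_mem _, 1, NatKB.acts_one, fun j _ => ⟨0, by rw [up_zero]; rfl⟩⟩
  inv_mem' := by
    rintro a ⟨ha, A, hA, hA'⟩
    refine ⟨inv_mem ha, A⁻¹, NatKB.acts_inv ha hA, fun j hj => ?_⟩
    obtain ⟨c, hc⟩ := hA' j hj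
    exact ⟨-c, by rw [Pi.inv_apply, hc, up_inv]⟩

theorem mem_Xn {i : Fin k} {h : G} : h ∈ Xn M i ↔ h ∈ H ∧ ∃ A, M.Acts h A ∧ ∀ j, j ≠ i → ∃ c, A j = up c := Iff.rfl

end

section

variable {F : Type} [Field F] {T H D : Subgroup G} {k : ℕ}

/-- The natural pre-block. -/
noncomputable def natNX [Finite G] [CharP F 2] (hT : Syl T H) (hD : D = ⊥) (M : NatKB F T H (zl T H) D k)
    (hM : ∀ (v : G), v ∈ zj T ↔ v ∈ zl T H ∧ ∀ i, M.nat.e v i 1 = 0)
    (hup : ∀ b ∈ bau T, ∃ c : Fin k → F, M.Acts b fun i => up (c i))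
    (hupc : ∀ c : Fin k → F, ∃ b ∈ bau T, M.Acts b fun i => up (c i))
    (hQ : o2 H ≤ bau T) (i : Fin k) : NX F (bau T) (Xn M i) (Wn M i) := by
  classical
  exact
  { π := fun g => M.nat.e g i
    mul := fun v hv w hw => by rw [M.nat.mul v hv.1 w hw.1]; rfl
    inj := fun v hv h => by
      refine nat_inj M hD hv.1 (one_mem _) ?_
      rw [M.map_one]
      funext j
      by_cases hj : j = i
      · rw [hj]; exact h
      · exact hv.2 j hj
    surj := fun x => by
      obtain ⟨v, hv, e⟩ := M.nat.surj (Function.update 0 i x)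
      exact ⟨v, ⟨hv, fun j hj => by rw [e, Function.update_of_ne hj]; rfl⟩, by rw [e, Function.update_self]⟩
    el := isElementaryAbelian_iff.2 ⟨fun v hv w hw => M.Vcomm hv.1 hw.1, fun v hv => M.Vsq v hv.1⟩
    WB := fun v hv => hQ (M.VQ hv.1)
    B2 := hT.2.1.to_le (ChoiceBase.bau_le T)
    BX := fun b hb => by
      obtain ⟨c, hc⟩ := hup b hb
      exact ⟨hT.1 (ChoiceBase.bau_le T hb), _, hc, fun j _ => ⟨c j, rfl⟩⟩
    nW := fun l hl v hv => by
      obtain ⟨hlH, A, hA, -⟩ := hl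
      refine ⟨M.Vn l hlH v hv.1, fun j hj => ?_⟩
      rw [hA v hv.1 j, hv.2 j hj]
      exact ext2 (by rw [ap_zero']; simp) (by rw [ap_one']; simp)
    acts := fun l hl => by
      obtain ⟨hlH, A, hA, -⟩ := hl
      exact ⟨A i, fun v hv => hA v hv.1 i⟩
    cov := fun A => by
      obtain ⟨l, hl, hA⟩ := M.nat.lift (Function.update 1 i A)
      refine ⟨l, ⟨hl, _, hA.1, fun j hj => ⟨0, by rw [Function.update_of_ne hj, up_zero]; rfl⟩⟩, fun v hv => ?_⟩
      have := hA.1 v hv.1 i
      rwa [Function.update_self] at this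
    up := fun b hb => by
      obtain ⟨c, hc⟩ := hup b hb
      exact ⟨c i, fun v hv => hc v hv.1 i⟩
    upc := fun c => by
      obtain ⟨b, hb, hc⟩ := hupc fun _ => c
      exact ⟨b, hb, fun v hv => hc v hv.1 i⟩
    syl := fun R hR hRX h2 => by
      have hRH : R ≤ H := fun r hr => (hRX hr).1
      obtain ⟨h3, h4⟩ := bau_eq_of_le hT hRH h2 hR
      refine le_antisymm (fun r hr => ?_) hR
      obtain ⟨hrH, A, hA, hA'⟩ := hRX hr
      -- `r` normalises `zj T`
      have hrn : ∀ z ∈ zj T, r * z * r⁻¹ ∈ zj T := by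
        intro z hz
        rw [← h4] at hz ⊢
        have h5 := normalizer_le_of_cj (F := zj) zj_cj R (Subgroup.le_normalizer hr)
        exact (mem_normalizer_iff.1 h5 z).1 hz
      -- so `A i` is upper triangular
      have h10 : ent (A i) 1 0 = 0 := by
        obtain ⟨z, hz, e⟩ := M.nat.surj (Function.update 0 i ![1, 0])
        have hzJ : z ∈ zj T := by
          refine (hM z).2 ⟨hz, fun j => ?_⟩
          rw [e]
          by_cases hj : j = i
          · subst hj; rw [Function.update_self]; rfl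
          · rw [Function.update_of_ne hj]; rfl
        have h5 := ((hM _).1 (hrn z hzJ)).2 i
        rw [hA z hz i, e, Function.update_self, ap_one'] at h5
        simpa using h5
      -- a power of two of `A i` is the identity
      have h00 : ent (A i) 0 0 = 1 := by
        obtain ⟨n, hn⟩ := h2 ⟨r, hr⟩
        have hn' : r ^ 2 ^ n = 1 := by simpa using congrArg Subtype.val hn
        have hpow : ∀ m : ℕ, M.Acts (r ^ m) (A ^ m) := by
          intro m
          induction m with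
          | zero => rw [pow_zero, pow_zero]; exact NatKB.acts_one
          | succ m ih => rw [pow_succ, pow_succ]; exact NatKB.acts_mul hrH ih hA
        have h5 := hpow (2 ^ n)
        rw [hn'] at h5
        have h6 : (A i) ^ 2 ^ n = 1 := by
          have := congrFun (NatKB.acts_unique h5 NatKB.acts_one) i
          rwa [Pi.pow_apply, Pi.one_apply] at this
        have h7 : ∀ m : ℕ, ent ((A i) ^ m) 1 0 = 0 ∧ ent ((A i) ^ m) 0 0 = ent (A i) 0 0 ^ m := by
          intro m
          induction m with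
          | zero => rw [pow_zero, pow_zero]; exact ⟨rfl, rfl⟩
          | succ m ih =>
            rw [pow_succ, ent_mul, ent_mul, h10, ih.1, ih.2, pow_succ]
            simp
        have h8 := (h7 (2 ^ n)).2
        rw [h6, ent_one_00] at h8
        have h9 : (ent (A i) 0 0 - 1) ^ 2 ^ n = 0 := by
          have := sub_pow_char_pow (p := 2) (n := n) (ent (A i) 0 0) (1 : F)
          rw [this, ← h8, one_pow, sub_self]
        have h11 := pow_eq_zero_iff (pow_ne_zero n two_ne_zero) |>.1 h9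
        exact sub_eq_zero.1 h11
      have hAi : A i = Lib.SL2Mat.up (ent (A i) 0 1) := by
        have h11 := det_eq (A i)
        rw [h10, h00, mul_zero, sub_zero, one_mul] at h11
        exact ext_ent (by rw [up_00, h00]) (by rw [up_01]) (by rw [up_10, h10]) (by rw [up_11, h11])
      rw [← h3]
      refine mem_bau.2 ⟨hr, fun z hz => ?_⟩
      rw [h4] at hz
      obtain ⟨hz1, hz2⟩ := (hM z).1 hz
      have h12 : r * z * r⁻¹ = z := by
        refine nat_inj M hD (M.Vn r hrH z hz1) hz1 ?_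
        funext j
        rw [hA z hz1 j]
        obtain ⟨c, hc⟩ : ∃ c, A j = Lib.SL2Mat.up c := by
          by_cases hj : j = i
          · subst hj; exact ⟨_, hAi⟩
          · exact hA' j hj
        rw [hc]
        apply ext2
        · rw [ap_zero', hz2 j]; simp
        · rw [ap_one', hz2 j]; simp
      exact (mul_inv_eq_iff_eq_mul.1 h12).symm
    act := fun l hl z hz => by
      rw [ChoiceBase.zc_bau] at hz
      obtain ⟨hz1, hz2⟩ := (hM z).1 hz
      obtain ⟨hlH, A, hA, hA'⟩ := hl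
      refine ⟨mul_mem (M.Vn l hlH z hz1) (inv_mem hz1), fun j hj => ?_⟩
      obtain ⟨c, hc⟩ := hA' j hj
      rw [M.map_div (M.Vn l hlH z hz1) hz1, Pi.sub_apply, hA z hz1 j, hc, sub_eq_zero]
      apply ext2
      · rw [ap_zero', hz2 j]; simp
      · rw [ap_one', hz2 j]; simp }

/-- The frame, from the data of `NatOut`. -/
theorem natFr' [Finite G] [Finite F] [CharP F 2] (hT : Syl T H) (hD : D = ⊥) (M : NatKB F T H (zl T H) D k)
    (hM : ∀ (v : G), v ∈ zj T ↔ v ∈ zl T H ∧ ∀ i, M.nat.e v i 1 = 0)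
    (hup : ∀ b ∈ bau T, ∃ c : Fin k → F, M.Acts b fun i => up (c i))
    (hupc : ∀ c : Fin k → F, ∃ b ∈ bau T, M.Acts b fun i => up (c i))
    (hAA : ∀ i, ∃ A ∈ AA T, (∀ a ∈ A, ∃ c : F, M.Acts a (Function.update 1 i (up c))) ∧
      ∀ c : F, ∃ a ∈ A, M.Acts a (Function.update 1 i (up c)))
    (hQ : o2 H ≤ bau T) (mem_o2 : ∀ x, x ∈ o2 H ↔ x ∈ T ∧ ∀ v ∈ zl T H, x * v = v * x)
    (zc_eq : zc (o2 H) = zl T H) (hmx : Mx G (mm T)) :
    ∃ L Z A : Fin k → Subgroup G, (∀ i, L i ≤ Xn M i) ∧ (∀ i, A i ∈ AA T) ∧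
      (∀ i A, ∃ l ∈ L i, ∃ A', M.Acts l A' ∧ A' i = A) ∧
      (∀ i v, v ∈ Z i ↔ v ∈ Wn M i ∧ M.nat.e v i 1 = 0) ∧
      Fr (bau T) (o2 H) (zl T H) (zj T) L (Wn M) Z (Cn M) A (Nat.card F) (mm T) := by
  classical
  choose A hA hA1 hA2 using hAA
  set X : ∀ i, NX F (bau T) (Xn M i) (Wn M i) := fun i => natNX hT hD M hM hup hupc hQ i with hX
  choose L hL1 hL2 hL3 hL4 hL5 using fun i => (X i).exists_block
  have hLH : ∀ i, L i ≤ H := fun i l hl => (hL2 i hl).1
  have hzero : ∀ (A : Matrix.SpecialLinearGroup (Fin 2) F), ap A 0 = 0 := fun A =>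
    ext2 (by rw [ap_zero']; simp) (by rw [ap_one']; simp)
  refine ⟨L, fun i => (X i).Zs, A, hL2, hA, ?_, fun i v => Iff.rfl, ?_⟩
  · intro i B
    obtain ⟨l, hl, h⟩ := hL4 i B
    obtain ⟨hlH, A', hA', -⟩ := hL2 i hl
    refine ⟨l, hl, A', hA', ?_⟩
    apply ap_inj
    intro x
    obtain ⟨v, hv, e⟩ := (X i).surj x
    have h1 := h v hv
    have h2 := hA' v hv.1 i
    have e' : M.nat.e v i = x := e
    rw [e'] at h2
    rw [← h2, ← e]
    exact h1
  · exact
      { max := hmx
        blk := hL3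
        cardZ := fun i => (X i).card_Zs
        QB := hQ
        VQ := M.VQ
        el := isElementaryAbelian_iff.2 ⟨fun v hv w hw => M.Vcomm hv hw, M.Vsq⟩
        mem_Q := fun x hx => by
          rw [mem_o2]
          exact ⟨fun h => h.2, fun h => ⟨ChoiceBase.bau_le T hx, h⟩⟩
        zcQ := fun x hx h2 hxc => by
          rw [← zc_eq]
          exact ChoiceBase.mem_zc.2 ⟨hx, h2, fun y hy => (hxc y hy).symm⟩
        mem_ZJ := by
          intro v
          constructor
          · intro hv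
            exact ⟨((hM v).1 hv).1, fun b hb => ((mem_bau.1 hb).2 v hv).symm⟩
          · rintro ⟨hv, hvc⟩
            rw [← ChoiceBase.zc_bau]
            exact ChoiceBase.mem_zc.2 ⟨hQ (M.VQ hv), M.Vsq v hv, hvc⟩
        LV := fun i l hl v hv => M.Vn l (hLH i hl) v hv
        LQ := fun i l hl x hx => (mem_normalizer_iff.1 (ChoiceSit.le_normalizer_o2 H (hLH i hl)) x).1 hx
        WV := fun i v hv => hv.1
        CV := fun i v hv => hv.1
        WC := by
          intro i v hv
          obtain ⟨w, hw, e⟩ := M.nat.surj (Function.update 0 i (M.nat.e v i))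
          refine ⟨w, ⟨hw, fun j hj => by rw [e, Function.update_of_ne hj]; rfl⟩, w⁻¹ * v,
            ⟨mul_mem (inv_mem hw) hv, ?_⟩, by group⟩
          rw [M.nat.mul _ (inv_mem hw) v hv, M.map_inv hw, Pi.add_apply, Pi.neg_apply, e, Function.update_self,
            neg_add_cancel]
        dir := by
          intro i
          rw [eq_bot_iff]
          rintro v ⟨hv1, hv2⟩
          rw [mem_bot]
          refine nat_inj M hD hv1.1 (one_mem _) ?_
          rw [M.map_one]
          funext j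
          by_cases hj : j = i
          · rw [hj]; exact hv2.2
          · exact hv1.2 j hj
        C0 := by
          intro v hv h
          refine nat_inj M hD hv (one_mem _) ?_
          rw [M.map_one]
          funext j
          exact (h j).2
        WjC := fun i j hij v hv => ⟨hv.1, hv.2 i hij⟩
        BC := by
          intro i b hb c hc
          obtain ⟨x, hx⟩ := hup b hb
          refine ⟨M.Vn b (hT.1 (ChoiceBase.bau_le T hb)) c hc.1, ?_⟩
          rw [hx c hc.1 i, hc.2, hzero]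
        LC := by
          intro i l hl z hz hzC
          obtain ⟨hlH, A', hA', hA''⟩ := hL2 i hl
          obtain ⟨hz1, hz2⟩ := (hM z).1 hz
          refine mul_inv_eq_iff_eq_mul.1 (nat_inj M hD (M.Vn l hlH z hz1) hz1 ?_)
          funext j
          rw [hA' z hz1 j]
          by_cases hj : j = i
          · rw [hj, hzC.2, hzero]
          · obtain ⟨c, hc⟩ := hA'' j hj
            rw [hc]
            apply ext2
            · rw [ap_zero', hz2 j]; simp
            · rw [ap_one', hz2 j]; simp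
        AB := fun i => (le_jj (hA i)).trans (ChoiceBase.jj_le_bau T)
        Ael := fun i => (hA i).1
        Am := fun i => (mm_eq (hA i)).symm
        Ane := by
          intro i h
          obtain ⟨a, ha, hac⟩ := hA2 i 1
          obtain ⟨v, hv, e⟩ := M.nat.surj (Function.update 0 i ![0, 1])
          have h1 := h a ha v ⟨hv, fun j hj => by rw [e, Function.update_of_ne hj]; rfl⟩
          have h2 := hac v hv i
          rw [h1, mul_inv_cancel_right, Function.update_self, e, Function.update_self] at h2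
          have h3 := congrFun h2 0
          rw [ap_zero'] at h3
          simp at h3
        AC := by
          intro i a ha c hc
          obtain ⟨x, hx⟩ := hA1 i a ha
          have haH : a ∈ H := hT.1 ((hA i).2.1 ha)
          refine mul_inv_eq_iff_eq_mul.1 (nat_inj M hD (M.Vn a haH c hc.1) hc.1 ?_)
          funext j
          rw [hx c hc.1 j]
          by_cases hj : j = i
          · rw [hj, hc.2, hzero]
          · rw [Function.update_of_ne hj, Pi.one_apply, ap_one] }

/-- **The frame of a minimal parabolic with natural modules.** -/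
theorem natFr [Finite G] [Finite F] [CharP F 2] (hT : Syl T H) (hP : IsMinPar T H)
    (hc : H ⊓ centralizer (o2 H : Set G) ≤ o2 H) (hJ : ¬ jj T ≤ o2 H) (hk : 0 < k)
    (N : NatK F T H (zl T H) (cv T H) k) (hcv : cv T H = ⊥) (hmx : Mx G (mm T)) :
    ∃ L Z A : Fin k → Subgroup G, (∀ i, L i ≤ Xn (natKB_of hT hc hJ hk N) i) ∧ (∀ i, A i ∈ AA T) ∧
      (∀ i A, ∃ l ∈ L i, ∃ A', (natKB_of hT hc hJ hk N).Acts l A' ∧ A' i = A) ∧
      (∀ i v, v ∈ Z i ↔ v ∈ Wn (natKB_of hT hc hJ hk N) i ∧ N.e v i 1 = 0) ∧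
      Fr (bau T) (o2 H) (zl T H) (zj T) L (Wn (natKB_of hT hc hJ hk N)) Z (Cn (natKB_of hT hc hJ hk N)) A
        (Nat.card F) (mm T) := by
  have hout := natOut hT hP hc hJ hk N hcv
  refine natFr' hT hcv (natKB_of hT hc hJ hk N) hout.mem_zj (fun b hb => ?_) (fun c => ?_) (fun i => ?_)
    hout.o2_le hout.mem_o2 hout.zc_eq hmx
  · obtain ⟨c, hc⟩ := hout.bau_up b hb
    exact ⟨c, hc.1⟩
  · obtain ⟨j, hj, hc⟩ := hout.jj_up c
    exact ⟨j, ChoiceBase.jj_le_bau T hj, hc.1⟩
  · obtain ⟨A, hA, h1, h2⟩ := hout.AA_up i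
    refine ⟨A, hA, fun a ha => ?_, fun c => ?_⟩
    · obtain ⟨c, hc⟩ := h1 a ha
      exact ⟨c, hc.1⟩
    · obtain ⟨a, ha, hc⟩ := h2 c
      exact ⟨a, ha, hc.1⟩

end

end Cfsg.Agent.Omega.OM.Uni
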