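import Cfsg.Agent.Omega.OM.FBBlock
import Cfsg.Agent.Omega.OM.ROneSym
import Cfsg.Agent.Omega.LemmaK.Endo
import Cfsg.Agent.Omega.SQ1.BauSMin

/-!
# The frame `Fr` for the symmetric blocks (`q = 2`: `S₃ ≀`, `S_{2^m+1} ≀`)

* `fb` : a minimal block `k : SQ1.BauS.Blk H T V d r i L` is an FF-block `FB (bau T) L (N i) ⟨d i⟩ 2`; `block`,
  `mainBlk` : it is a block in the sense of LEMMA K (both forms).  Only `h : SQ1.BauS.In H T Q V N d t r` is used.
* `exists_A` : there is `A ∈ A(T)` which acts on `V` only on `N i`.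
* `dir`, `C0` : `N i ∩ C i = 1`, `⋂ C i = 1` for `C i = ⨆ j ≠ i, N j`.
* `frame` : `Fr (bau T) Q V (zj T) L N ⟨d i⟩ (C i) A 2 (mm T)` if `zj T ≤ V`, `Ω₁Z(Q) ≤ V`, `V ≤ ⨆ N i`, `|E| ≤ mm T` for
  every elementary abelian 2-subgroup `E`.
* `symFr` : the same from `SymOut` (ROneSym.lean).
-/

set_option autoImplicit false

namespace Cfsg.Agent.Omega.OM.FrSym

open Subgroup Cfsg Cfsg.Agent.PLocal.ThompsonJ Cfsg.Agent.ZN Cfsg.Agent.ZN.ChoiceBase
open Cfsg.Agent.PLocal.ElemAbSup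
open Cfsg.Agent.Omega.SQ1.Bau (mem_AA_of_comm zj_le_AA elem_comm elem_sq mem_sup_comm card_sup_comm)
open Cfsg.Agent.Omega.SQ1.BauS
open Cfsg.Agent.Omega.OM.BlockUniq
open Cfsg.Agent.Omega.OM.Uni
open scoped Pointwise commutatorElement

universe u w

variable {G : Type u} [Group G] {H T Q V : Subgroup G} {ι : Type w} {N : ι → Subgroup G} {d t r : ι → G}

/-- the complement of `N i` -/
def CC (N : ι → Subgroup G) (i : ι) : Subgroup G := ⨆ j, ⨆ (_ : j ≠ i), N j

theorem N_le_CC {i j : ι} (hij : j ≠ i) : N j ≤ CC N i := le_iSup₂_of_le j hij le_rfl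

theorem CC_le {i : ι} {X : Subgroup G} (hX : ∀ j, j ≠ i → N j ≤ X) : CC N i ≤ X := iSup₂_le hX

theorem mem_zp (h : In H T Q V N d t r) {i : ι} {x : G} (hx : x ∈ zpowers (d i)) : x = 1 ∨ x = d i :=
  Blk.mem_zp h hx

theorem d_sq (h : In H T Q V N d t r) (i : ι) : d i * d i = 1 := h.mulself (h.dV i)

theorem card_zp (h : In H T Q V N d t r) (i : ι) : Nat.card (zpowers (d i)) = 2 := by
  rw [Nat.card_zpowers]
  exact orderOf_eq_prime (by rw [pow_two]; exact d_sq h i) (h.d1 i)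

/-! ### Fixed points -/

/-- If `g` fixes `N j` elementwise it fixes `x ∈ ⨆ N j`. -/
theorem fix_of {X : Subgroup G} {g : G} (hX : ∀ x ∈ X, g * x * g⁻¹ = x) : X ≤ centralizer ({g} : Set G) := by
  intro x hx
  rw [mem_centralizer_iff]
  intro y hy
  rw [show y = g from hy]
  calc g * x = (g * x * g⁻¹) * g := by group
    _ = x * g := by rw [hX x hx]

theorem fix_iff {g x : G} : g * x * g⁻¹ = x ↔ g * x = x * g := by
  constructor
  · intro h
    calc g * x = (g * x * g⁻¹) * g := by group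
      _ = x * g := by rw [h]
  · intro h
    rw [h]; group

theorem mem_cent {g x : G} : x ∈ centralizer ({g} : Set G) ↔ g * x = x * g := by
  rw [mem_centralizer_iff]
  exact ⟨fun h => h g rfl, fun h y hy => by rw [show y = g from hy]; exact h⟩

/-- `t i` centralises `C i`. -/
theorem t_CC (h : In H T Q V N d t r) {i : ι} {c : G} (hc : c ∈ CC N i) : t i * c = c * t i := by
  have h1 : CC N i ≤ centralizer ({t i} : Set G) := CC_le fun j hj =>
    fix_of fun x hx => h.t_N' hj hx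
  exact mem_cent.1 (h1 hc)

theorem CC_le_V (h : In H T Q V N d t r) (i : ι) : CC N i ≤ V := CC_le fun j _ => h.NV j

theorem split_CC (h : In H T Q V N d t r) (hN : V ≤ ⨆ i, N i) (i : ι) {v : G} (hv : v ∈ V) :
    ∃ n ∈ N i, ∃ c ∈ CC N i, v = n * c := by
  have h1 : V ≤ N i ⊔ CC N i := by
    refine hN.trans (iSup_le fun j => ?_)
    by_cases hj : j = i
    · subst hj; exact le_sup_left
    · exact (N_le_CC hj).trans le_sup_right
  exact mem_sup_comm (fun a ha b hb => h.Vcomm a (h.NV i ha) b (CC_le_V h i hb)) (h1 hv)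

/-- An element of `⨆ N j` fixed by all `t j` is a product of elements `d j`. -/
theorem mem_D (h : In H T Q V N d t r) [Finite G] (s : Set ι) {v : G} (hv : v ∈ ⨆ j ∈ s, N j)
    (hfix : ∀ j, t j * v * (t j)⁻¹ = v) : v ∈ Subgroup.closure (d '' s) := by
  classical
  have := h.finite_index
  have := Fintype.ofFinite ι
  -- remove the moved coordinates one by one
  have key : ∀ F : Finset ι, ∀ v, v ∈ ⨆ j ∈ F, N j → (∀ j, t j * v * (t j)⁻¹ = v) →
      v ∈ Subgroup.closure (d '' (F : Set ι)) := by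
    intro F
    induction F using Finset.induction_on with
    | empty =>
      intro v hv _
      have : v = 1 := by simpa using hv
      rw [this]; exact one_mem _
    | insert i F hi ih =>
      intro v hv hf
      rw [Finset.iSup_insert] at hv
      have hFV : (⨆ j ∈ F, N j) ≤ V := iSup₂_le fun j _ => h.NV j
      obtain ⟨n, hn, c, hc, rfl⟩ := mem_sup_comm (fun a ha b hb => h.Vcomm a (h.NV i ha) b (hFV hb)) hv
      have hcC : c ∈ CC N i := by
        have : (⨆ j ∈ F, N j) ≤ CC N i := iSup₂_le fun j hj => N_le_CC fun e => hi (e ▸ hj)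
        exact this hc
      have h1 : t i * n * (t i)⁻¹ = n := by
        have h2 := hf i
        have e : t i * (n * c) * (t i)⁻¹ = (t i * n * (t i)⁻¹) * (t i * c * (t i)⁻¹) := by group
        rw [e, fix_iff.2 (t_CC h hcC)] at h2
        exact mul_right_cancel h2
      have hnd := h.t_ne i hn h1
      have hnfix : ∀ j, t j * n * (t j)⁻¹ = n := by
        intro j
        rcases hnd with h2 | h2
        · rw [h2]; group
        · rw [h2]; exact h.t_d' i j
      have hcfix : ∀ j, t j * c * (t j)⁻¹ = c := by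
        intro j
        have h2 := hf j
        have e : t j * (n * c) * (t j)⁻¹ = (t j * n * (t j)⁻¹) * (t j * c * (t j)⁻¹) := by group
        rw [e, hnfix j] at h2
        exact mul_left_cancel h2
      have h3 := ih c hc hcfix
      refine mul_mem ?_ ?_
      · rcases hnd with h2 | h2
        · rw [h2]; exact one_mem _
        · rw [h2]; exact subset_closure ⟨i, by simp, rfl⟩
      · refine closure_mono (Set.image_mono ?_) h3
        intro x hx; simp only [Finset.coe_insert]; exact Or.inr hx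
  have h1 := key (Set.toFinset s) v (by simpa using hv) hfix
  simpa using h1

theorem CC_eq (i : ι) : CC N i = ⨆ j ∈ ({i}ᶜ : Set ι), N j := rfl

/-- `r i` fixes the elements of `C i ∩ Z_J`. -/
theorem r_CC (h : In H T Q V N d t r) [Finite G] {i : ι} {c : G} (hc : c ∈ CC N i)
    (hfix : ∀ j, t j * c * (t j)⁻¹ = c) : r i * c = c * r i := by
  rw [CC_eq] at hc
  have h1 := mem_D h _ hc hfix
  have h2 : Subgroup.closure (d '' ({i}ᶜ : Set ι)) ≤ centralizer ({r i} : Set G) := by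
    rw [closure_le]
    rintro _ ⟨j, hj, rfl⟩
    exact mem_cent.2 (fix_iff.1 (h.r_d' (fun e => hj (e ▸ rfl))))
  exact mem_cent.1 (h2 h1)

theorem dir (h : In H T Q V N d t r) [Finite G] (i : ι) : N i ⊓ CC N i = ⊥ := by
  rw [eq_bot_iff]
  rintro x ⟨hx, hc⟩
  rw [mem_bot]
  rcases h.t_ne i hx (fix_iff.2 (t_CC h hc)) with h1 | h1
  · exact h1
  · exfalso
    have h2 : ∀ j, t j * x * (t j)⁻¹ = x := fun j => by rw [h1]; exact h.t_d' i j
    have h3 := r_CC h hc h2
    rw [h1] at h3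
    exact h.r_d_ne i (fix_iff.2 h3)

theorem C0 (h : In H T Q V N d t r) [Finite G] (hN : V ≤ ⨆ i, N i) {x : G} (hx : x ∈ V)
    (hc : ∀ i, x ∈ CC N i) : x = 1 := by
  classical
  have hfix : ∀ j, t j * x * (t j)⁻¹ = x := fun j => fix_iff.2 (t_CC h (hc j))
  have hr : ∀ i, r i * x = x * r i := fun i => r_CC h (hc i) hfix
  have := h.finite_index
  have := Fintype.ofFinite ι
  -- `x` is a product of `d j`, fixed by all `r i`
  have key : ∀ F : Finset ι, ∀ v, v ∈ ⨆ j ∈ F, N j → (∀ j, t j * v * (t j)⁻¹ = v) →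
      (∀ i, r i * v = v * r i) → v = 1 := by
    intro F
    induction F using Finset.induction_on with
    | empty =>
      intro v hv _ _
      simpa using hv
    | insert i F hi ih =>
      intro v hv hf hrv
      rw [Finset.iSup_insert] at hv
      have hFV : (⨆ j ∈ F, N j) ≤ V := iSup₂_le fun j _ => h.NV j
      obtain ⟨n, hn, c, hc, rfl⟩ := mem_sup_comm (fun a ha b hb => h.Vcomm a (h.NV i ha) b (hFV hb)) hv
      have hcC : c ∈ CC N i := by
        have : (⨆ j ∈ F, N j) ≤ CC N i := iSup₂_le fun j hj => N_le_CC fun e => hi (e ▸ hj)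
        exact this hc
      have h1 : t i * n * (t i)⁻¹ = n := by
        have h2 := hf i
        have e : t i * (n * c) * (t i)⁻¹ = (t i * n * (t i)⁻¹) * (t i * c * (t i)⁻¹) := by group
        rw [e, fix_iff.2 (t_CC h hcC)] at h2
        exact mul_right_cancel h2
      have hnd := h.t_ne i hn h1
      have hnfix : ∀ j, t j * n * (t j)⁻¹ = n := by
        intro j
        rcases hnd with h2 | h2
        · rw [h2]; group
        · rw [h2]; exact h.t_d' i j
      have hcfix : ∀ j, t j * c * (t j)⁻¹ = c := by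
        intro j
        have h2 := hf j
        have e : t j * (n * c) * (t j)⁻¹ = (t j * n * (t j)⁻¹) * (t j * c * (t j)⁻¹) := by group
        rw [e, hnfix j] at h2
        exact mul_left_cancel h2
      have hrc := r_CC h hcC hcfix
      have hn1 : n = 1 := by
        rcases hnd with h2 | h2
        · exact h2
        · exfalso
          have h3 := hrv i
          have h4 : r i * n = n * r i := by
            have h5 : r i * n * c = n * r i * c := by
              rw [mul_assoc, h3, mul_assoc, ← hrc]; group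
            exact mul_right_cancel h5
          rw [h2] at h4
          exact h.r_d_ne i (fix_iff.2 h4)
      subst hn1
      rw [one_mul] at hf hrv ⊢
      exact ih c hc hf hrv
  exact key Finset.univ x (by simpa using hN hx) hfix hr

/-! ### The group `A i` -/

/-- `A` centralises `N j` or acts on it as `⟨t j⟩`. -/
theorem A_N (h : In H T Q V N d t r) [Finite G] {A : Subgroup G} (hA : A ∈ AA T) {a : G} (ha : a ∈ A) (j : ι) :
    (∀ v ∈ N j, a * v = v * a) ∨ ∀ v ∈ N j, a * v * a⁻¹ = t j * v * (t j)⁻¹ := by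
  rcases (h.EE_good (h.Jt (le_jj hA ha))).actN j with h1 | h1
  · exact Or.inl fun v hv => fix_iff.1 (h1 v hv)
  · exact Or.inr h1

/-- a subgroup of index two -/
theorem card_two_mul [Finite G] {A A₁ : Subgroup G} (hA₁ : A₁ ≤ A) (hne : ∃ a ∈ A, a ∉ A₁)
    (h2 : ∀ a ∈ A, ∀ b ∈ A, a ∉ A₁ → b ∉ A₁ → a * b ∈ A₁) : Nat.card A = 2 * Nat.card A₁ := by
  have h1 : A₁.relIndex A = 2 := by
    rw [Subgroup.relIndex, Subgroup.index_eq_two_iff]
    obtain ⟨a, ha, ha1⟩ := hne
    refine ⟨⟨a, ha⟩, ?_⟩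
    rintro ⟨b, hb⟩
    simp only [mem_subgroupOf, Subgroup.coe_mul]
    by_cases hb1 : b ∈ A₁
    · refine Or.inr ⟨hb1, fun h3 => ha1 ?_⟩
      have := mul_mem (inv_mem hb1) h3
      rwa [inv_mul_cancel_left] at this
    · exact Or.inl ⟨h2 b hb a ha hb1 ha1, hb1⟩
  have h3 := (A₁.subgroupOf A).card_mul_index
  rw [Nat.card_congr (Subgroup.subgroupOfEquivOfLe hA₁).toEquiv] at h3
  rw [Subgroup.relIndex] at h1
  rw [h1] at h3
  omega

/-- `A` moves `N j`: the kernel has index two. -/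
theorem card_A₁ (h : In H T Q V N d t r) [Finite G] {A : Subgroup G} (hA : A ∈ AA T) {j : ι}
    (hj : ¬ ∀ a ∈ A, ∀ v ∈ N j, a * v = v * a) :
    Nat.card A = 2 * Nat.card ↥(A ⊓ centralizer (N j : Set G)) := by
  have hmem : ∀ a ∈ A, (a ∈ A ⊓ centralizer (N j : Set G) ↔ ∀ v ∈ N j, a * v = v * a) := fun a ha => by
    rw [mem_inf, mem_centralizer_iff]
    exact ⟨fun h1 v hv => (h1.2 v hv).symm, fun h1 => ⟨ha, fun v hv => (h1 v hv).symm⟩⟩
  refine card_two_mul inf_le_left ?_ ?_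
  · push Not at hj
    obtain ⟨a, ha, v, hv, hne⟩ := hj
    exact ⟨a, ha, fun h1 => hne ((hmem a ha).1 h1 v hv)⟩
  · intro a ha b hb ha1 hb1
    rw [hmem _ (mul_mem ha hb)]
    have h1 : ∀ v ∈ N j, a * v * a⁻¹ = t j * v * (t j)⁻¹ :=
      (A_N h hA ha j).resolve_left fun h2 => ha1 ((hmem a ha).2 h2)
    have h2 : ∀ v ∈ N j, b * v * b⁻¹ = t j * v * (t j)⁻¹ :=
      (A_N h hA hb j).resolve_left fun h2 => hb1 ((hmem b hb).2 h2)
    intro v hv
    rw [← fix_iff]
    have e : a * b * v * (a * b)⁻¹ = a * (b * v * b⁻¹) * a⁻¹ := by group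
    rw [e, h2 v hv, h1 _ (h.t_N j hv)]
    have e2 : t j * (t j * v * (t j)⁻¹) * (t j)⁻¹ = t j * t j * v * (t j * t j)⁻¹ := by group
    rw [e2, h.tsq j v (h.NV j hv)]; group

/-- **There is `A ∈ A(T)` acting only on `N i`.** -/
theorem exists_A (h : In H T Q V N d t r) [Finite G] (i : ι) :
    ∃ A ∈ AA T, (¬ ∀ a ∈ A, ∀ v ∈ N i, a * v = v * a) ∧ ∀ a ∈ A, ∀ c ∈ CC N i, a * c = c * a := by
  classical
  -- some member of `A(T)` moves `N i`
  have hne : ∃ A ∈ AA T, ¬ ∀ a ∈ A, ∀ v ∈ N i, a * v = v * a := by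
    by_contra hcon
    push Not at hcon
    have h1 : jj T ≤ centralizer (N i : Set G) := by
      rw [jj_eq]
      refine sSup_le fun A hA a ha => mem_centralizer_iff.2 fun v hv => (hcon A hA a ha v hv).symm
    exact h.t_not_QQ i ⟨h.t_bau i, h1 (h.tJ i)⟩
  obtain ⟨A, hA, hmax⟩ := (Set.toFinite {A : Subgroup G | A ∈ AA T ∧ ¬ ∀ a ∈ A, ∀ v ∈ N i, a * v = v * a}).exists_maximalFor
    (fun A => Nat.card ↥(A ⊓ Q)) _ hne
  obtain ⟨hAT, hAi⟩ := hA
  refine ⟨A, hAT, hAi, ?_⟩
  suffices hj : ∀ j, j ≠ i → ∀ a ∈ A, ∀ v ∈ N j, a * v = v * a by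
    intro a ha c hc
    have h1 : CC N i ≤ centralizer ({a} : Set G) := CC_le fun j hji v hv => mem_cent.2 (hj j hji a ha v hv)
    exact mem_cent.1 (h1 hc)
  intro j hji
  by_contra hAj
  set A₁ := A ⊓ centralizer (N j : Set G) with hA₁
  have hcA := card_A₁ h hAT hAj
  rw [← hA₁] at hcA
  have hA₁c : ∀ a ∈ A₁, ∀ v ∈ N j, a * v = v * a := fun a ha v hv => (mem_centralizer_iff.1 ha.2 v hv).symm
  have hNel : ∀ j, IsElementaryAbelian 2 (N j) := fun j => isElementaryAbelian_mono h.Velem (h.NV j)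
  have hNT : ∀ j, N j ≤ T := fun j => (h.NV j).trans (h.VQ.trans h.QT)
  have hA₁el : IsElementaryAbelian 2 A₁ := isElementaryAbelian_mono hAT.1 inf_le_left
  by_cases hc : ∀ a ∈ A₁, ∀ v ∈ N i, a * v = v * a
  · -- `A₁ N i N j` is too big
    obtain ⟨a, ha, hai⟩ : ∃ a ∈ A, ¬ ∀ v ∈ N i, a * v = v * a := by
      by_contra hcon
      push Not at hcon
      exact hAi hcon
    have ha1 : a ∉ A₁ := fun h1 => hai (hc a h1)
    have haj : ¬ ∀ v ∈ N j, a * v = v * a := fun h1 => ha1 ⟨ha, mem_centralizer_iff.2 fun v hv => (h1 v hv).symm⟩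
    have hai' := (A_N h hAT ha i).resolve_left hai
    have haj' := (A_N h hAT ha j).resolve_left haj
    have hNN : ∀ x ∈ N i, ∀ y ∈ N j, x * y = y * x := fun x hx y hy => h.Vcomm x (h.NV i hx) y (h.NV j hy)
    have hNij : N i ⊓ N j = ⊥ := by
      rw [eq_bot_iff, ← dir h i]
      exact inf_le_inf_left _ (N_le_CC hji)
    have h16 := card_sup_comm hNN
    rw [hNij, h.cardN, h.cardN, Subgroup.card_bot, mul_one] at h16
    set M := N i ⊔ N j with hM
    have hMV : M ≤ V := sup_le (h.NV i) (h.NV j)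
    have hMel : IsElementaryAbelian 2 M := isElementaryAbelian_mono h.Velem hMV
    have hA₁M : ∀ x ∈ A₁, ∀ y ∈ M, x * y = y * x := by
      intro x hx y hy
      obtain ⟨n, hn, m, hm, rfl⟩ := mem_sup_comm hNN hy
      have c1 : Commute x n := hc x hx n hn
      have c2 : Commute x m := hA₁c x hx m hm
      exact (c1.mul_right c2).eq
    have hinf : A₁ ⊓ M ≤ zpowers (d i) ⊔ zpowers (d j) := by
      rintro x ⟨hx, hxM⟩
      obtain ⟨n, hn, m, hm, rfl⟩ := mem_sup_comm hNN hxM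
      have h1 : a * (n * m) = n * m * a := elem_comm hAT.1 a ha _ hx.1
      have h2 : (a * n * a⁻¹) * (a * m * a⁻¹) = n * m := by
        calc (a * n * a⁻¹) * (a * m * a⁻¹) = a * (n * m) * a⁻¹ := by group
          _ = n * m := by rw [h1]; group
      rw [hai' n hn, haj' m hm] at h2
      have h3 : n⁻¹ * (t i * n * (t i)⁻¹) = m * (t j * m * (t j)⁻¹)⁻¹ := by
        calc n⁻¹ * (t i * n * (t i)⁻¹) = n⁻¹ * ((t i * n * (t i)⁻¹) * (t j * m * (t j)⁻¹)) * (t j * m * (t j)⁻¹)⁻¹ := by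
              group
          _ = n⁻¹ * (n * m) * (t j * m * (t j)⁻¹)⁻¹ := by rw [h2]
          _ = _ := by group
      have h4 : n⁻¹ * (t i * n * (t i)⁻¹) ∈ N i ⊓ N j := by
        refine mem_inf.2 ⟨mul_mem (inv_mem hn) (h.t_N i hn), ?_⟩
        rw [h3]
        exact mul_mem hm (inv_mem (h.t_N j hm))
      rw [hNij, mem_bot] at h4
      rw [h4] at h3
      have h5 : t i * n * (t i)⁻¹ = n := (inv_mul_eq_one.1 h4).symm
      have h6 : t j * m * (t j)⁻¹ = m := (mul_inv_eq_one.1 h3.symm).symm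
      refine mul_mem (mem_sup_left ?_) (mem_sup_right ?_)
      · rcases h.t_ne i hn h5 with h7 | h7
        · rw [h7]; exact one_mem _
        · rw [h7]; exact mem_zpowers _
      · rcases h.t_ne j hm h6 with h7 | h7
        · rw [h7]; exact one_mem _
        · rw [h7]; exact mem_zpowers _
    have h4 : Nat.card ↥(A₁ ⊓ M) ≤ 4 := by
      refine (Subgroup.card_le_of_le hinf).trans ?_
      have h5 := card_sup_comm (A := zpowers (d i)) (B := zpowers (d j)) fun x hx y hy =>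
        h.Vcomm x ((zpowers_le).2 (h.dV i) hx) y ((zpowers_le).2 (h.dV j) hy)
      rw [card_zp h, card_zp h] at h5
      have h6 : 0 < Nat.card ↥(zpowers (d i) ⊓ zpowers (d j)) := Nat.card_pos
      nlinarith
    have h5 := card_sup_comm hA₁M
    have h6 := hAT.2.2 _ (isElementaryAbelian_sup hA₁el hMel (elem_le_centralizer hA₁M))
      (sup_le (inf_le_left.trans hAT.2.1) (hMV.trans (h.VQ.trans h.QT)))
    have h7 : 0 < Nat.card A₁ := Nat.card_pos
    have h8 : Nat.card ↥(A₁ ⊔ M) * Nat.card ↥(A₁ ⊓ M) ≤ Nat.card A * 4 := Nat.mul_le_mul h6 h4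
    rw [h5, h16, hcA] at h8
    omega
  · -- `A₁ N j` is a better choice
    have hA₁N := card_sup_comm hA₁c
    have hinf : A₁ ⊓ N j ≤ zpowers (d j) := by
      rintro x ⟨hx, hxN⟩
      obtain ⟨a, ha, haj⟩ : ∃ a ∈ A, ¬ ∀ v ∈ N j, a * v = v * a := by
        by_contra hcon
        push Not at hcon
        exact hAj hcon
      have haj' := (A_N h hAT ha j).resolve_left haj
      have h1 : a * x * a⁻¹ = x := fix_iff.2 (elem_comm hAT.1 a ha _ hx.1)
      rw [haj' x hxN] at h1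
      rcases h.t_ne j hxN h1 with h7 | h7
      · rw [h7]; exact one_mem _
      · rw [h7]; exact mem_zpowers _
    have h2 := Subgroup.card_le_of_le hinf
    rw [card_zp h] at h2
    have hel := isElementaryAbelian_sup hA₁el (hNel j) (elem_le_centralizer hA₁c)
    have hleT : A₁ ⊔ N j ≤ T := sup_le (inf_le_left.trans hAT.2.1) (hNT j)
    have hmem : A₁ ⊔ N j ∈ AA T := by
      rw [mem_AA_iff]
      refine ⟨hel, hleT, ?_⟩
      rw [mm_eq hAT]
      rw [h.cardN] at hA₁N
      have h3 : Nat.card ↥(A₁ ⊔ N j) * Nat.card ↥(A₁ ⊓ N j) ≤ Nat.card ↥(A₁ ⊔ N j) * 2 :=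
        Nat.mul_le_mul_left _ h2
      rw [hA₁N] at h3
      omega
    have hne' : ¬ ∀ a ∈ A₁ ⊔ N j, ∀ v ∈ N i, a * v = v * a := fun h1 => hc fun a ha => h1 a (mem_sup_left ha)
    have hle : A ⊓ Q ≤ (A₁ ⊔ N j) ⊓ Q := by
      rintro x ⟨hx, hxQ⟩
      exact ⟨mem_sup_left ⟨hx, mem_centralizer_iff.2 fun v hv => (h.VcQ x hxQ v (h.NV j hv)).symm⟩, hxQ⟩
    have h3 := hmax ⟨hmem, hne'⟩ (Subgroup.card_le_of_le hle)
    have h4 : A ⊓ Q = (A₁ ⊔ N j) ⊓ Q := Subgroup.eq_of_le_of_card_ge hle h3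
    apply hAj
    intro a ha v hv
    have h5 : v ∈ A ⊓ Q := by
      rw [h4]; exact ⟨mem_sup_right hv, h.VQ (h.NV j hv)⟩
    exact elem_comm hAT.1 a ha v h5.1

/-! ### The blocks -/

variable {i : ι} {L : Subgroup G}

theorem B_fix (h : In H T Q V N d t r) [Finite G] {b : G} (hb : b ∈ bau T) (i : ι) : b * d i = d i * b :=
  fix_iff.1 ((h.EE_good (h.bau_EE hb)).fixd i)

theorem mem_QQ {b : G} (hb : b ∈ bau T) : b ∈ QQ T N i ↔ ∀ v ∈ N i, b * v = v * b := by
  rw [QQ, mem_inf, mem_centralizer_iff]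
  exact ⟨fun h1 v hv => (h1.2 v hv).symm, fun h1 => ⟨hb, fun v hv => (h1 v hv).symm⟩⟩

theorem B_comm (h : In H T Q V N d t r) [Finite G] {b v : G} (hb : b ∈ bau T) (hv : v ∈ N i) :
    b * v * b⁻¹ * v⁻¹ ∈ zpowers (d i) := by
  rcases (h.EE_good (h.bau_EE hb)).actN i with h1 | h1
  · rw [h1 v hv, mul_inv_cancel]; exact one_mem _
  · rw [h1 v hv]
    rcases h.t_comm i v (h.NV i hv) with h2 | h2
    · rw [h2, mul_inv_cancel]; exact one_mem _
    · rw [h2, mul_inv_cancel_right]; exact mem_zpowers _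

theorem NB (h : In H T Q V N d t r) [Finite G] (i : ι) : N i ≤ bau T := le_sup_right.trans (Blk.VV_le_B h)

theorem md (h : In H T Q V N d t r) [Finite G] (i : ι) : Md (bau T) (N i) (zpowers (d i)) 2 where
  VB := NB h i
  el := isElementaryAbelian_mono h.Velem (h.NV i)
  ZV := (zpowers_le).2 (h.dN i)
  cZ := fun b hb z hz => by
    rcases mem_zp h hz with h1 | h1
    · rw [h1, mul_one, one_mul]
    · rw [h1]; exact B_fix h hb i
  com := fun b hb v hv => B_comm h hb hv
  free := fun b hb v hv hvZ hc => by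
    by_contra hcon
    have h1 : b ∉ QQ T N i := fun h2 => hcon ((mem_QQ hb).1 h2)
    rcases h.B_ne hb h1 hv (fix_iff.2 hc) with h2 | h2
    · exact hvZ (by rw [h2]; exact one_mem _)
    · exact hvZ (by rw [h2]; exact mem_zpowers _)
  ne := by
    refine ⟨t i, h.t_bau i, ?_⟩
    by_contra hcon
    push Not at hcon
    exact h.t_not_QQ i ((mem_QQ (h.t_bau i)).2 hcon)
  card := by rw [h.cardN, card_zp h]
  cardB := by
    have h1 := Blk.relIndex_QQ (i := i) h
    rw [Subgroup.relIndex] at h1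
    have h3 := ((QQ T N i).subgroupOf (bau T)).card_mul_index
    rw [Nat.card_congr (Subgroup.subgroupOfEquivOfLe (show QQ T N i ≤ bau T from inf_le_left)).toEquiv, h1] at h3
    rw [← h3, mul_comm]
    exact le_rfl
  one := one_lt_two

/-- A 2-group acting on a nontrivial elementary abelian 2-group has a nontrivial fixed point. -/
theorem exists_fix [Finite G] {P M : Subgroup G} (hP : IsPGroup 2 P) (hM : IsElementaryAbelian 2 M) (hM1 : M ≠ ⊥)
    (hn : ∀ x ∈ P, ∀ v ∈ M, x * v * x⁻¹ ∈ M) : ∃ v ∈ M, v ≠ 1 ∧ ∀ x ∈ P, x * v * x⁻¹ = v := by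
  have : Fact (Nat.Prime 2) := ⟨Nat.prime_two⟩
  let act : MulAction P M :=
    { smul := fun x v => ⟨(x : G) * v * (x : G)⁻¹, hn x x.2 v v.2⟩
      one_smul := fun v => Subtype.ext (by show (1 : G) * v * (1 : G)⁻¹ = v; group)
      mul_smul := fun x y v => Subtype.ext (by
        show ((x : G) * y) * v * ((x : G) * y)⁻¹ = x * (y * v * (y : G)⁻¹) * (x : G)⁻¹; group) }
  have hMp : IsPGroup 2 M := fun x => ⟨1, by
    rw [pow_one]; exact Subtype.ext (elem_sq hM x x.2)⟩
  have h2 : 2 ∣ Nat.card M := by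
    obtain ⟨n, hn⟩ := IsPGroup.iff_card.1 hMp
    rcases Nat.eq_zero_or_pos n with h0 | h0
    · rw [h0, pow_zero] at hn
      exact absurd (Subgroup.card_eq_one.1 hn) hM1
    · rw [hn]; exact dvd_pow_self 2 h0.ne'
  obtain ⟨v, hv, hv1⟩ := hP.exists_fixed_point_of_prime_dvd_card_of_fixed_point M h2 (a := (1 : M))
    (fun x => Subtype.ext (by show (x : G) * 1 * (x : G)⁻¹ = 1; group))
  exact ⟨v, v.2, fun h => hv1 (Subtype.ext h.symm), fun x hx => congrArg Subtype.val (hv ⟨x, hx⟩)⟩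

/-- A 2-subgroup of `L` containing `B` is `B`. -/
theorem blk_syl (k : Blk H T V d r i L) (h : In H T Q V N d t r) [Finite G] {P : Subgroup G}
    (hBP : bau T ≤ P) (hPL : P ≤ L) (hP : IsPGroup 2 P) : P = bau T := by
  refine le_antisymm ?_ hBP
  have hN1 : N i ≠ ⊥ := fun h0 => h.d1 i (by
    have := h.dN i
    rwa [h0, mem_bot] at this)
  obtain ⟨v, hv, hv1, hvf⟩ := exists_fix hP (isElementaryAbelian_mono h.Velem (h.NV i)) hN1
    fun x hx v hv => k.L_N h (hPL hx) hv
  have hvd : v = d i := (h.t_ne i hv (hvf _ (hBP (h.t_bau i)))).resolve_left hv1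
  intro x hx
  obtain ⟨b, hb, hs⟩ := h.PP_fix (k.LP (hPL hx)) (by rw [← hvd]; exact hvf x hx)
  have hcP : b⁻¹ * x ∈ P := mul_mem (inv_mem (hBP hb)) hx
  have hcH : b⁻¹ * x ∈ H := mul_mem (inv_mem (h.bau_H hb)) (k.LH h (hPL hx))
  have hcV : ∀ v ∈ V, b⁻¹ * x * v = v * (b⁻¹ * x) := by
    refine In.sim_one_iff.1 ?_
    have := hs.mul_left b⁻¹
    rwa [inv_mul_cancel] at this
  obtain ⟨n, hn⟩ := hP ⟨_, hcP⟩
  have h1 : b⁻¹ * x ∈ Q := h.two _ hcH hcV ⟨n, by simpa using congrArg Subtype.val hn⟩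
  have h2 := mul_mem hb (k.inf_Q h (mul_mem (inv_mem (k.BL hb)) (hPL hx)) h1)
  rwa [mul_inv_cancel_left] at h2

theorem blk_gen (k : Blk H T V d r i L) (h : In H T Q V N d t r) [Finite G] :
    L ≤ ⨆ x : L, cj (x : G) (bau T) := by
  obtain ⟨l, hl, hm⟩ := k.mv
  refine k.gen h hl hm ?_ ?_
  · have h1 : cj ((1 : L) : G) (bau T) ≤ ⨆ x : L, cj (x : G) (bau T) :=
      le_iSup (fun x : L => cj (x : G) (bau T)) 1
    intro b hb
    exact h1 ⟨b, hb, by simp⟩
  · intro b hb
    exact (le_iSup (fun x : L => cj (x : G) (bau T)) ⟨l, hl⟩) ⟨b, hb, rfl⟩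

/-- `[Ω₁Z(J(T)), L] ≤ N i`. -/
theorem zj_act (k : Blk H T V d r i L) (h : In H T Q V N d t r) [Finite G] {l z : G} (hl : l ∈ L)
    (hz : z ∈ zj T) : l * z * l⁻¹ * z⁻¹ ∈ N i := by
  obtain ⟨l₀, hl₀, hm⟩ := k.mv
  rcases k.Z_split h hl₀ hm hz with h1 | h1
  · have h2 := k.cent_of h hl₀ hm hz h1 l hl
    rw [h2, mul_inv_cancel_right, mul_inv_cancel]
    exact one_mem _
  · have h2 := k.cent_of h hl₀ hm (mul_mem (h.d_mem_Z i) hz) h1 l hl
    have e : l * z * l⁻¹ * z⁻¹ = (l * d i * l⁻¹)⁻¹ * (l * (d i * z) * l⁻¹) * (d i * z)⁻¹ * d i := by group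
    rw [e, h2]
    have e2 : (l * d i * l⁻¹)⁻¹ * (d i * z * l * l⁻¹) * (d i * z)⁻¹ * d i = (l * d i * l⁻¹)⁻¹ * d i := by group
    rw [e2]
    exact mul_mem (inv_mem (k.L_N h hl (h.dN i))) (h.dN i)

theorem comm_zp {g : G} (i : ι) (hg : g * d i * g⁻¹ = d i) : cj g (zpowers (d i)) = zpowers (d i) := by
  rw [cj, MonoidHom.map_zpowers]
  change zpowers (g * d i * g⁻¹) = _
  rw [hg]

/-- `d i ∈ [N i, B]`. -/
theorem d_mem_comm (h : In H T Q V N d t r) (i : ι) : d i ∈ ⁅N i, bau T⁆ := by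
  have h1 := commutator_mem_commutator (h.r_N i (h.dN i)) (h.t_bau i)
  have e : (⁅r i * d i * (r i)⁻¹, t i⁆)⁻¹ = d i := by
    rw [commutatorElement_def]
    calc (r i * d i * (r i)⁻¹ * t i * (r i * d i * (r i)⁻¹)⁻¹ * (t i)⁻¹)⁻¹
        = (t i * (r i * d i * (r i)⁻¹) * (t i)⁻¹) * (r i * d i * (r i)⁻¹)⁻¹ := by group
      _ = d i := by rw [h.t_m i]; group
  rw [← e]
  exact inv_mem h1

/-- `N i = ⟨d, d'⟩` for `d' ∈ N i` different from `1`, `d`. -/
theorem N_le_of (h : In H T Q V N d t r) [Finite G] (i : ι) {X : Subgroup G} (hd : d i ∈ X) {x : G} (hx : x ∈ X)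
    (hxN : x ∈ N i) (hx1 : x ≠ 1) (hxd : x ≠ d i) : N i ≤ X := by
  set m := r i * d i * (r i)⁻¹ with hm
  have hmX : m ∈ X := by
    rcases h.mem_N i hxN with h1 | h1 | h1 | h1
    · exact absurd h1 hx1
    · exact absurd h1 hxd
    · rwa [h1] at hx
    · rw [h1, ← hm] at hx
      have h2 := mul_mem (inv_mem hd) hx
      rwa [inv_mul_cancel_left] at h2
  intro v hv
  rcases h.mem_N i hv with h1 | h1 | h1 | h1
  · rw [h1]; exact one_mem _
  · rw [h1]; exact hd
  · rw [h1]; exact hmX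
  · rw [h1]; exact mul_mem hd hmX

theorem cj_d_ne_one (h : In H T Q V N d t r) (l : G) (i : ι) : l * d i * l⁻¹ ≠ 1 := fun e => h.d1 i (by
  calc d i = l⁻¹ * (l * d i * l⁻¹) * l := by group
    _ = 1 := by rw [e]; group)

/-- **The FF-block.** -/
theorem fb (k : Blk H T V d r i L) (h : In H T Q V N d t r) [Finite G] :
    FB (bau T) L (N i) (zpowers (d i)) 2 where
  toMd := md h i
  BL := k.BL
  nV := fun l hl v hv => k.L_N h hl hv
  gen := blk_gen k h
  syl := fun P h1 h2 h3 => blk_syl k h h1 h2 h3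
  cor := fun l hl x hx hc => (k.L_QQ h hl ((mem_QQ hx).2 hc)).1
  act := fun l hl z hz => zj_act k h hl (by rwa [ChoiceBase.zc_bau] at hz)
  sup := by
    obtain ⟨l, hl, hm⟩ := k.mv
    refine ⟨l, hl, N_le_of h i (mem_sup_left (d_mem_comm h i)) (x := l * d i * l⁻¹)
      (mem_sup_right ⟨d i, d_mem_comm h i, rfl⟩) (k.L_N h hl (h.dN i)) (cj_d_ne_one h l i) hm⟩
  tri := fun l hl => by
    by_cases hm : l * d i * l⁻¹ = d i
    · left; exact comm_zp i hm
    · right
      intro x hx0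
      obtain ⟨hx1, hx2⟩ := mem_inf.1 hx0
      rw [mem_cj] at hx1
      have h1 : x = 1 := by
        rcases mem_zp h hx2 with h2 | h2
        · exact h2
        · exfalso
          rw [h2] at hx1
          rcases mem_zp h hx1 with h3 | h3
          · apply h.d1 i
            calc d i = l * (l⁻¹ * d i * l) * l⁻¹ := by group
              _ = 1 := by rw [h3]; group
          · apply hm
            calc l * d i * l⁻¹ = l * (l⁻¹ * d i * l) * l⁻¹ := by rw [h3]
              _ = d i := by group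
      rw [h1]; exact one_mem _
  tor := fun z hz hzc z' hz' hzc' => by
    have h1 : z = d i := (mem_zp h hz).resolve_left fun e => hzc (by rw [e]; exact one_mem _)
    have h2 : z' = d i := (mem_zp h hz').resolve_left fun e => hzc' (by rw [e]; exact one_mem _)
    refine ⟨1, one_mem _, one_mem _, ?_⟩
    rw [h1, h2]
    have e : (1 : G) * d i * 1⁻¹ * (d i)⁻¹ = 1 := by group
    rw [e]; exact one_mem _

/-! ### The frame -/

theorem mem_zj_iff (h : In H T Q V N d t r) [Finite G] {v : G} (hv : v ∈ V) :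
    v ∈ zj T ↔ ∀ j ∈ jj T, j * v = v * j :=
  ⟨fun h1 => (ChoiceBase.mem_zj.1 h1).2.2, fun h1 => ChoiceBase.mem_zj.2 ⟨mem_jj_of_comm (h.QT (h.VQ hv)) (h.Vsq v hv) h1, h.Vsq v hv, h1⟩⟩

theorem fix_t (h : In H T Q V N d t r) {v : G} (hv : v ∈ zj T) (j : ι) : t j * v * (t j)⁻¹ = v :=
  fix_iff.2 ((ChoiceBase.mem_zj.1 hv).2.2 _ (h.tJ j))

/-- `L i` centralises `C i ∩ Z_J`. -/
theorem LC (k : Blk H T V d r i L) (h : In H T Q V N d t r) [Finite G] {l z : G} (hl : l ∈ L) (hz : z ∈ zj T)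
    (hc : z ∈ CC N i) : l * z = z * l := by
  have h1 : PP H T V (r i) ≤ centralizer ({z} : Set G) := by
    have key : ∀ y : G, z * y = y * z → y ∈ centralizer ({z} : Set G) := fun y hy => mem_cent.2 hy
    refine sup_le (sup_le (fun b hb => key b ((ChoiceBase.mem_bau.1 hb).2 z hz)) ?_) ?_
    · rw [zpowers_le]
      exact key _ (r_CC h hc (fix_t h hz)).symm
    · rintro c ⟨-, hc'⟩
      exact key c (mem_centralizer_iff.1 hc' z (CC_le_V h i hc))
  exact (mem_cent.1 (h1 (k.LP hl))).symm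

/-- **The frame of the symmetric blocks.** -/
theorem frame [Finite G] (h : In H T Q V N d t r) (hm : Mx G (mm T)) (hzV : zj T ≤ V)
    (hzQ : ∀ x ∈ Q, x ^ 2 = 1 → (∀ y ∈ Q, x * y = y * x) → x ∈ V) (hN : V ≤ ⨆ i, N i) {L : ι → Subgroup G}
    (hL : ∀ i, Blk H T V d r i (L i)) :
    ∃ A : ι → Subgroup G, (∀ i, A i ∈ AA T) ∧
      Fr (bau T) Q V (zj T) L N (fun i => zpowers (d i)) (fun i => CC N i) A 2 (mm T) := by
  have hQB : Q ≤ bau T := fun x hx => ChoiceBase.mem_bau.2 ⟨h.QT hx, fun z hz => (h.VcQ x hx z (hzV hz)).symm⟩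
  choose A hA hA1 hA2 using fun i => exists_A h i
  refine ⟨A, hA, ?_⟩
  exact
    { max := hm
      blk := fun i => fb (hL i) h
      cardZ := fun i => card_zp h i
      QB := hQB
      VQ := h.VQ
      el := h.Velem
      mem_Q := fun x hx => ⟨fun hxQ v hv => h.VcQ x hxQ v hv, fun hc => h.cT (ChoiceBase.bau_le T hx) hc⟩
      zcQ := hzQ
      mem_ZJ := fun v => by
        constructor
        · intro hv
          exact ⟨hzV hv, fun b hb => ((ChoiceBase.mem_bau.1 hb).2 v hv).symm⟩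
        · rintro ⟨hv, hc⟩
          exact (mem_zj_iff h hv).2 fun j hj => hc j (ChoiceBase.jj_le_bau T hj)
      LV := fun i l hl v hv => h.Vn l ((hL i).LH h hl) v hv
      LQ := fun i l hl x hx => h.Qn l ((hL i).LH h hl) x hx
      WV := fun i => h.NV i
      CV := fun i => CC_le_V h i
      WC := fun i v hv => split_CC h hN i hv
      dir := fun i => dir h i
      C0 := fun x hx hc => C0 h hN hx hc
      WjC := fun i j hij => N_le_CC (Ne.symm hij)
      BC := fun i b hb c hc => by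
        have h1 : CC N i ≤ (CC N i).comap (MulAut.conj b).toMonoidHom := by
          refine CC_le fun j hj => ?_
          intro x hx
          rw [mem_comap]
          exact N_le_CC hj (h.B_N hb hx)
        exact h1 hc
      LC := fun i l hl z hz hc => LC (hL i) h hl hz hc
      AB := fun i => (le_jj (hA i)).trans (ChoiceBase.jj_le_bau T)
      Ael := fun i => (hA i).1
      Am := fun i => (mm_eq (hA i)).symm
      Ane := fun i => hA1 i
      AC := fun i a ha c hc => hA2 i a ha c hc }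

/-! ### The blocks of LEMMA K -/

theorem irr (k : Blk H T V d r i L) (h : In H T Q V N d t r) [Finite G] {U : Subgroup G} (hU : U ≤ N i)
    (hn : L ≤ normalizer (U : Set G)) (hne : U ≠ ⊥) : N i ≤ U := by
  obtain ⟨l, hl, hm⟩ := k.mv
  obtain ⟨u, hu, hu1⟩ := (Subgroup.bot_or_exists_ne_one U).resolve_left hne
  have hd : d i ∈ U := by
    by_cases hud : u = d i
    · rwa [← hud]
    · have h1 : t i * u * (t i)⁻¹ * u⁻¹ ∈ U :=
        mul_mem ((mem_normalizer_iff.1 (hn (k.BL (h.t_bau i))) u).1 hu) (inv_mem hu)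
      rcases h.t_comm i u (h.NV i (hU hu)) with h2 | h2
      · exfalso
        rcases h.t_ne i (hU hu) h2 with h3 | h3
        · exact hu1 h3
        · exact hud h3
      · rwa [h2, mul_inv_cancel_right] at h1
  exact N_le_of h i hd (x := l * d i * l⁻¹) ((mem_normalizer_iff.1 (hn hl) _).1 hd) (k.L_N h hl (h.dN i))
    (cj_d_ne_one h l i) hm

/-- **The block of LEMMA K.** -/
theorem block (k : Blk H T V d r i L) (h : In H T Q V N d t r) [Finite G] (hW : LemmaK.WeakNormal 2 (bau T)) :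
    LemmaK.Block 2 (bau T) L (N i) :=
  (fb k h).toBlock (card_zp h i) (h.Tp.to_le (ChoiceBase.bau_le T)) hW

/-- **The block of `LemmaK.Main`.** -/
theorem mainBlk (k : Blk H T V d r i L) (h : In H T Q V N d t r) [Finite G] : LemmaK.Main.Blk (bau T) L (N i) := by
  have hb := fb k h
  refine LemmaK.Main.Blk.of_irr hb.BL hb.gen (hb.VB.trans hb.BL) ?_ ?_ (isPGroup_of_el hb.el) (elem_comm hb.el) hb.perf ?_
  · intro w h1 h2
    have e : N i = vl (bau T) L := hb.V_eq
    rw [e]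
    exact LemmaK.Endo.norm_vl h1 h2
  · exact hb.core (h.Tp.to_le (ChoiceBase.bau_le T)) (ZN.isPGroup_o2 L) (ZN.o2_le L) (ZN.le_normalizer_o2 L)
  · intro U hU _ hn hne
    by_cases hU1 : U = ⊥
    · exact absurd (by rw [hU1]; exact bot_le) hne
    · exact irr k h hU hn hU1

/-- **The frame from `SymOut`**, with a `T`-equivariant choice of the blocks. -/
theorem symFr [Finite G] {ι : Type} {N : ι → Subgroup G} {d t r : ι → G} (h : SymOut T H V N d t r)
    (hm : Mx G (mm T)) : ∃ L A : ι → Subgroup G, (∀ i, Blk H T V d r i (L i)) ∧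
      (∀ x ∈ T, ∀ i j, x * d i * x⁻¹ = d j → cj x (L i) = L j) ∧ (∀ i, A i ∈ AA T) ∧
      Fr (bau T) (o2 H) V (zj T) L N (fun i => zpowers (d i)) (fun i => CC N i) A 2 (mm T) := by
  obtain ⟨L, hL, hc⟩ := h.bau.exists_blks h.permR
  obtain ⟨A, hA, hF⟩ := frame h.bau hm h.zj_le (fun x hx h2 hxc => by
    rw [← h.zc_eq]
    exact ChoiceBase.mem_zc.2 ⟨hx, h2, fun y hy => (hxc y hy).symm⟩) h.V_eq.le hL
  exact ⟨L, A, hL, hc, hA, hF⟩

end Cfsg.Agent.Omega.OM.FrSym
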