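import Cfsg.Agent.Omega.OM.BlkGen
import Cfsg.Agent.Omega.OM.UOne
import Cfsg.Agent.Omega.OM.UniPlus
import Cfsg.Agent.Omega.OM.FBBlock
import Cfsg.Agent.Omega.OM.FrNat
import Cfsg.Agent.Omega.OM.FrSym
import Cfsg.Agent.Omega.NO3S.Basic

/-!
# The FF line of NO-3S with several blocks: the case distinction (E) / (Om) of TEXT R1 (#14539)

`Line S P L W Z C A q` : `HypJ S P` and the frame `Uni.Fr` over `B = bau S` with at least two blocks `L i`
(`V_P` the product of the `W i`, `Z_J = zj S = Ω₁(Z(B))` the product of the `Z i`).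

* `exists_nat`, `exists_sym` : natural and symmetric modules;
* `Line.norm` : `N_G(B) ≤ N_G(V)`, it permutes the `Z i` (4);
* `Line.fam`, `Line.P_le` : the family of all FF-blocks over `B`, `P ≤ ⟨K0, S⟩`;
* `Line.cases` : **(5)** either `K0 S` normalises no nontrivial 2-subgroup, or `M = N_G(O₂(K0))` is local,
  `O₂(K0) ≤ B`, and `M` contains `C_G(Z_J)`, all FF-blocks over `B`, `N_G(B)` and `P`;
* `Line.gen` : **(O1+)**.
* `Line.uniPlus` : **UNI+**.
-/

set_option autoImplicit false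

namespace Cfsg.Agent.Omega.OM

open Subgroup Cfsg Cfsg.Agent.ZN.ChoiceBase Cfsg.Agent.ZN.ChoiceSit
open Cfsg.Agent.ZN (jj zj bau zc zl o2)
open Cfsg.Agent.MinSimple.MinParabolic (IsMinPar)
open Cfsg.Agent.MinSimple.VModule (oddGen)
open Cfsg.Agent.Omega.MinPar (IsPar IsParS NonLoc)
open Cfsg.Agent.Omega.LemmaK (Block WeakNormal)
open Cfsg.Agent.Omega.LemmaK.Main (le_normalizer_bau)
open Cfsg.Agent.Omega.FFThm (NatK SymK)
open Cfsg.Agent.Omega.FrameFF (cv)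
open Cfsg.Agent.Omega.NO3S (HypJ)
open Cfsg.Agent.Omega.OM.Uni (FB Fr)
open Cfsg.Agent.Omega.OM.Dich (K0 Fam)
open Cfsg.Agent.Omega.OM.BlkGen (FBlk)
open Cfsg.Agent.Omega.OM.UniPlus (NB)
open scoped Pointwise commutatorElement

universe u

variable {G : Type u} [Group G] [Finite G]

/-- The FF line with several blocks. -/
structure Line {ι : Type} (S : Sylow 2 G) (P : Subgroup G) (L W Z C A : ι → Subgroup G) (q : ℕ) : Prop where
  hyp : HypJ S P
  fr : Fr (bau (S : Subgroup G)) (o2 P) (zl (S : Subgroup G) P) (zj (S : Subgroup G)) L W Z C A q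
    (mm (S : Subgroup G))
  two : ∀ i : ι, ∃ j, j ≠ i

section line

variable {ι : Type} [Finite ι] {S : Sylow 2 G} {P : Subgroup G} {L W Z C A : ι → Subgroup G} {q : ℕ}

theorem weakNormal (S : Sylow 2 G) : WeakNormal 2 (bau (S : Subgroup G)) := fun _ hR hBR =>
  le_normalizer_bau S hR hBR

omit [Finite ι] in
theorem Line.fblk (h : Line S P L W Z C A q) (i : ι) : FBlk (S : Subgroup G) (L i) (W i) where
  fb := ⟨_, _, h.fr.blk i⟩
  blk := (h.fr.blk i).toBlock (h.fr.cardZ i) (S.isPGroup'.to_le (bau_le _)) (weakNormal S)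

theorem Line.fam (h : Line S P L W Z C A q) : Fam S (FBlk (S : Subgroup G)) := by
  refine BlkGen.fam ?_
  refine (h.fr.ZJV.trans h.fr.V_eq.le).trans (iSup_le fun i => ?_)
  exact le_iSup (fun i : {x : Subgroup G × Subgroup G // FBlk (S : Subgroup G) x.1 x.2} => i.1.2)
    ⟨(L i, W i), h.fblk i⟩

omit [Finite ι] in
theorem Line.S_ne (h : Line S P L W Z C A q) : (S : Subgroup G) ≠ ⊥ := h.hyp.ctx.sylow_ne_bot S

/-- **(4)** -/
theorem Line.norm (h : Line S P L W Z C A q) {g : G} (hg : g ∈ normalizer (bau (S : Subgroup G) : Set G)) :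
    cj g (zl (S : Subgroup G) P) = zl (S : Subgroup G) P ∧
      ∀ i, ∃ j, cj g (Z i) = Z j ∧ cj g (W i) ≤ W j ⊔ zj (S : Subgroup G) :=
  Uni.norm_bau h.hyp.ctx.char2 S h.hyp.noFF h.hyp.star h.S_ne h.fr h.fr.QB hg

theorem Line.norm_le (h : Line S P L W Z C A q) :
    normalizer (bau (S : Subgroup G) : Set G) ≤ normalizer (zl (S : Subgroup G) P : Set G) := fun g hg => by
  rw [mem_normalizer_iff_cj]
  exact (h.norm hg).1

theorem Line.S_le (S : Sylow 2 G) : (S : Subgroup G) ≤ normalizer (bau (S : Subgroup G) : Set G) :=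
  le_normalizer_bau S S.isPGroup' (bau_le _)

/-- `P ≤ ⟨K0, S⟩`. -/
theorem Line.P_le (h : Line S P L W Z C A q) (hFF : FFThm.Stmt.{u}) :
    P ≤ K0 (S : Subgroup G) (FBlk (S : Subgroup G)) ⊔ S := by
  refine BlkGen.blkGen hFF S h.hyp.toHyp.syl (bau_le _) h.hyp.star.toIsMinPar
    (h.hyp.star.isLoc.char2 S h.hyp.ctx.char2) h.hyp.jnot fun hc => ?_
  exact h.hyp.star.not_zc (hc.trans (centralizer_le_normalizer _))

/-- **(5)**: (E) or (Om). -/
theorem Line.cases (h : Line S P L W Z C A q) (hFF : FFThm.Stmt.{u}) :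
    (∀ R : Subgroup G, IsPGroup 2 R →
      K0 (S : Subgroup G) (FBlk (S : Subgroup G)) ≤ normalizer (R : Set G) → R = ⊥) ∨
    ∃ M : Subgroup G, M = normalizer (o2 (K0 (S : Subgroup G) (FBlk (S : Subgroup G))) : Set G) ∧
      o2 (K0 (S : Subgroup G) (FBlk (S : Subgroup G))) ≠ ⊥ ∧
      o2 (K0 (S : Subgroup G) (FBlk (S : Subgroup G))) ≤ bau (S : Subgroup G) ∧
      K0 (S : Subgroup G) (FBlk (S : Subgroup G)) ≤ M ∧
      centralizer (zj (S : Subgroup G) : Set G) ≤ M ∧ (∀ L V, FBlk (S : Subgroup G) L V → L ≤ M) ∧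
      normalizer (bau (S : Subgroup G) : Set G) ≤ M ∧ (S : Subgroup G) ≤ M ∧ P ≤ M := by
  by_cases hE : ∀ R : Subgroup G, IsPGroup 2 R →
      K0 (S : Subgroup G) (FBlk (S : Subgroup G)) ≤ normalizer (R : Set G) → R = ⊥
  · exact Or.inl hE
  right
  push Not at hE
  obtain ⟨R, hR, hRn, hR1⟩ := hE
  obtain ⟨h1, h2, h3⟩ := h.fam.dich hR hR1 hRn
  have h4 : K0 (S : Subgroup G) (FBlk (S : Subgroup G)) ≤
      normalizer (o2 (K0 (S : Subgroup G) (FBlk (S : Subgroup G))) : Set G) := le_sup_left.trans h3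
  have h5 : (S : Subgroup G) ≤ normalizer (o2 (K0 (S : Subgroup G) (FBlk (S : Subgroup G))) : Set G) :=
    (Line.S_le S).trans (le_sup_right.trans h3)
  exact ⟨_, rfl, h1, h2, h4, Dich.cent_le_K0.trans h4, fun L V hL => (Dich.blk_le_K0 hL).trans h4,
    le_sup_right.trans h3, h5, (h.P_le hFF).trans (sup_le h4 h5)⟩

/-- **(O1+)** -/
theorem Line.gen (_h : Line S P L W Z C A q) (hFF : FFThm.Stmt.{u}) (hA : FFBr.AStmt.{u}) {M T H : Subgroup G}
    (hK : K0 (S : Subgroup G) (FBlk (S : Subgroup G)) ≤ M) (hN : normalizer (bau (S : Subgroup G) : Set G) ≤ M)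
    (hT : Syl T H) (hB : bau (S : Subgroup G) ≤ T) (hc : H ⊓ centralizer (o2 H : Set G) ≤ o2 H) :
    H ≤ (H ⊓ M) ⊔ ⨆ Y : {Y : Subgroup G // IsMinPar T Y ∧ Y ≤ H ∧ ¬ jj T ≤ o2 Y ∧
      Y ≤ centralizer (zc T : Set G) ∧ ¬ o2 Y ≤ bau (S : Subgroup G)}, (Y : Subgroup G) :=
  BlkGen.gen hFF hA hK hN hT hB hc

/-- **UNI+** -/
theorem Line.uniPlus (h : Line S P L W Z C A q) {L' V' Z' : Subgroup G} {q' : ℕ}
    (h' : FB (bau (S : Subgroup G)) L' V' Z' q') :
    q' = q ∧ ∃ i, Z' = Z i ∧ NB (bau (S : Subgroup G)) L' V' (Z i) q ∧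
      ((V' ≤ W i ⊔ zj (S : Subgroup G) ∧
          (∀ z ∈ zj (S : Subgroup G), z ∈ C i ↔ ∀ l ∈ L', l * z = z * l) ∧
          (q = 2 → V' = W i ∧ L' ≤ L i ⊔ centralizer ((W i ⊔ zj (S : Subgroup G) : Subgroup G) : Set G))) ∨
        (q = 2 ∧ Nat.card (zj (S : Subgroup G)) = 4 ∧ (∃ w' ∈ V', ∃ w ∈ W i, w' * w ≠ w * w') ∧
          ∃ c ∈ zj (S : Subgroup G), c ≠ 1 ∧ (∀ l ∈ L', l * c = c * l) ∧ ∀ k, c ∉ C k)) := by
  refine UniPlus.uniPlus' h.hyp.ctx.char2 h.fr (S.isPGroup'.to_le (bau_le _)) (UniPlus.wc_bau S)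
    (fun g hg w hw v hv => ?_) h.two h'
  rw [(h.norm hg).1] at hw
  exact h.fr.Vc hw hv

end line

/-! ### The instances -/

namespace Line


/-- natural modules -/
theorem exists_nat {S : Sylow 2 G} {P : Subgroup G} (h : HypJ S P) {F : Type} [Field F] [Finite F] [CharP F 2]
    {k : ℕ} (hk : 2 ≤ k)
    (N : NatK F (S : Subgroup G) P (zl (S : Subgroup G) P) (cv (S : Subgroup G) P) k) :
    ∃ L W Z C A : Fin k → Subgroup G, (∀ i, A i ∈ AA (S : Subgroup G)) ∧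
      (∀ i v, v ∈ W i ↔ v ∈ zl (S : Subgroup G) P ∧ ∀ j, j ≠ i → N.e v j = 0) ∧
      (∀ i v, v ∈ C i ↔ v ∈ zl (S : Subgroup G) P ∧ N.e v i = 0) ∧
      (∀ i v, v ∈ Z i ↔ v ∈ W i ∧ N.e v i 1 = 0) ∧
      Line S P L W Z C A (Nat.card F) := by
  obtain ⟨L, Z, A, -, hA, -, hZ, hF⟩ := Uni.natFr h.toHyp.syl h.star.toIsMinPar
    (h.star.isLoc.char2 S h.ctx.char2) h.jnot (by omega) N h.toHyp.cv (Uni.mx_sylow S)
  refine ⟨L, _, Z, _, A, hA, fun i v => Iff.rfl, fun i v => Iff.rfl, hZ, h, hF, fun i => ?_⟩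
  have : Nontrivial (Fin k) := Fin.nontrivial_iff_two_le.2 hk
  exact exists_ne i

/-- `|V| ≥ 2^m + 1` -/
theorem card_sym {T H V D : Subgroup G} {k m : ℕ} (hk : 0 < k) (N : SymK T H V D k m) :
    2 ^ m + 1 ≤ Nat.card V := by
  classical
  have h1 : ∀ x : Fin (2 ^ m + 1), ∃ v ∈ V, N.e v = fun _ z =>
      (if z = 0 then 1 else 0) + (if z = x then 1 else 0) := by
    intro x
    refine N.surj _ fun i => ?_
    rw [Finset.sum_add_distrib, Finset.sum_ite_eq', Finset.sum_ite_eq']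
    simp only [Finset.mem_univ, if_true]
    exact CharTwo.add_self_eq_zero 1
  choose f hf1 hf2 using h1
  have h2 : Function.Injective fun x => (⟨f x, hf1 x⟩ : V) := by
    intro x y hxy
    have e : f x = f y := congrArg Subtype.val hxy
    have e2 := congrFun (congrFun ((hf2 x).symm.trans ((congrArg N.e e).trans (hf2 y))) ⟨0, hk⟩) x
    simp only [if_true] at e2
    have e3 := add_left_cancel e2
    by_contra hne
    rw [if_neg hne] at e3
    exact one_ne_zero e3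
  have h3 := Nat.card_le_card_of_injective _ h2
  rwa [Nat.card_fin] at h3

/-- symmetric modules (`m ≥ 2`) -/
theorem exists_sym {S : Sylow 2 G} {P : Subgroup G} (h : HypJ S P) {k m : ℕ} (hk : 0 < k) (hm : 2 ≤ m)
    (N : SymK (S : Subgroup G) P (zl (S : Subgroup G) P) (cv (S : Subgroup G) P) k m) :
    ∃ (ι : Type) (_ : Finite ι) (W : ι → Subgroup G) (d t r : ι → G) (L A : ι → Subgroup G),
      SymOut (S : Subgroup G) P (zl (S : Subgroup G) P) W d t r ∧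
      (∀ i, SQ1.BauS.Blk P (S : Subgroup G) (zl (S : Subgroup G) P) d r i (L i)) ∧
      (∀ x ∈ (S : Subgroup G), ∀ i j, x * d i * x⁻¹ = d j → cj x (L i) = L j) ∧
      (∀ i, A i ∈ AA (S : Subgroup G)) ∧
      Line S P L W (fun i => zpowers (d i)) (fun i => FrSym.CC W i) A 2 := by
  obtain ⟨ι, J, X, Y, t, r, h0, -, h2⟩ := symOut h.toHyp.syl h.star.toIsMinPar
    (h.star.isLoc.char2 S h.ctx.char2) h.jnot hk (by omega) N h.toHyp.cv
  obtain ⟨L, A, hL, hc, hA, hF⟩ := FrSym.symFr h2 (Uni.mx_sylow S)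
  have hfin : Finite ι := h2.bau.finite_index
  refine ⟨ι, hfin, _, _, t, r, L, A, h2, hL, hc, hA, h, hF, fun i => ?_⟩
  by_contra hcon
  push Not at hcon
  have h3 : zl (S : Subgroup G) P = h0.NN (J i) 0 (X i) (Y i) := by
    refine le_antisymm (h2.V_eq.le.trans (iSup_le fun j => ?_)) (h2.bau.NV i)
    rw [hcon j]
  have h4 := h2.bau.cardN i
  rw [← h3] at h4
  have h5 := card_sym hk N
  have h6 : 2 ^ 2 ≤ 2 ^ m := Nat.pow_le_pow_right (by norm_num) hm
  omega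

end Line

end Cfsg.Agent.Omega.OM
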