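import Cfsg.Agent.Omega.OM.Line

/-!
# LEMMA FIX (bb OMEGA #19750 (1) helper609, #19817 helper929; here elementwise, all `q`)

`Q ≥ V` with `V ≤ Z(Q)`, `A` an elementary abelian 2-group normalising `Q` and `V` with `C_A(V) ≤ Q`, acting on `V` as one
full root group: `[V, A] ≤ R ≤ C_V(A)`, `|R| = |A : C_A(V)| = |V : C_V(A)| = q`, `C_V(a) = C_V(A)` for `a ∈ A - C(V)`.
`y ≤ V` with `C_y(A) = 1`. If `e ∈ Q`, `e² = 1`, `[e, Q] ≤ y` and `|X : C_X(A)| ≤ |A : C_A(X)|` for all `A`-invariant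
elementary abelian `X` between `V` and `Q`, then `[e, Q] = 1`.

* `FixLem.main` : the abstract lemma;
* `Fr.fix` : in the frame `Uni.Fr`: `e ∈ Q` an involution, `[e, Q] ≤ y ≤ Z_J`, `y ∩ C i = 1` ⟹ `e ∈ V`;
* `Line.fix`.
-/

set_option autoImplicit false

namespace Cfsg.Agent.Omega.OM.FixLem

open Subgroup Cfsg Cfsg.Agent.PLocal.ElemAbSup Cfsg.Agent.ZN.ChoiceBase Cfsg.Agent.ZN.ChoiceSit
open Cfsg.Agent.ZN (jj zj bau zc zl o2)
open Cfsg.Agent.Omega.SQ1.Bau (mem_sup_comm card_sup_comm elem_comm elem_sq)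
open Cfsg.Agent.Omega.OM.BlockUniq (Mx)
open Cfsg.Agent.Omega.OM.Uni (FB Fr)

universe u

variable {G : Type u} [Group G]

/-- The hypotheses. -/
structure Fx (A Q V R y : Subgroup G) (q : ℕ) : Prop where
  Ael : IsElementaryAbelian 2 A
  Vel : IsElementaryAbelian 2 V
  VQ : V ≤ Q
  VcQ : ∀ v ∈ V, ∀ x ∈ Q, v * x = x * v
  AQ : ∀ a ∈ A, cj a Q = Q
  cA : ∀ a ∈ A, (∀ v ∈ V, a * v = v * a) → a ∈ Q
  RV : R ≤ V
  RA : ∀ a ∈ A, ∀ r ∈ R, a * r = r * a
  com : ∀ a ∈ A, ∀ v ∈ V, a * v * a⁻¹ * v⁻¹ ∈ R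
  cardR : Nat.card R = q
  cardA : (centralizer (V : Set G)).relIndex A = q
  cardV : (centralizer (A : Set G)).relIndex V = q
  free : ∀ a ∈ A, ∀ v ∈ V, a * v = v * a → v ∉ centralizer (A : Set G) → ∀ u ∈ V, a * u = u * a
  yV : y ≤ V
  yA : ∀ u ∈ y, (∀ a ∈ A, a * u = u * a) → u = 1
  off : ∀ X : Subgroup G, IsElementaryAbelian 2 X → V ≤ X → X ≤ Q → (∀ a ∈ A, cj a X = X) →
    (centralizer (A : Set G)).relIndex X ≤ (centralizer (X : Set G)).relIndex A

namespace Fx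

variable {A Q V R y : Subgroup G} {q : ℕ}

theorem Ac (h : Fx A Q V R y q) {a b : G} (ha : a ∈ A) (hb : b ∈ A) : a * b = b * a := elem_comm h.Ael a ha b hb

theorem Vc (h : Fx A Q V R y q) {a b : G} (ha : a ∈ V) (hb : b ∈ V) : a * b = b * a := elem_comm h.Vel a ha b hb

theorem AQ' (h : Fx A Q V R y q) {a : G} (ha : a ∈ A) {x : G} (hx : x ∈ Q) : a * x * a⁻¹ ∈ Q := by
  rw [← h.AQ a ha]
  exact ⟨x, hx, rfl⟩

theorem AV (h : Fx A Q V R y q) {a : G} (ha : a ∈ A) {v : G} (hv : v ∈ V) : a * v * a⁻¹ ∈ V := by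
  have h1 := mul_mem (h.RV (h.com a ha v hv)) hv
  have e : a * v * a⁻¹ * v⁻¹ * v = a * v * a⁻¹ := by group
  rwa [e] at h1

/-- `y ∩ y^a = 1` for `a ∈ A - C(V)` -/
theorem y_inf (h : Fx A Q V R y q) {a : G} (ha : a ∈ A) (hn : ¬ ∀ u ∈ V, a * u = u * a) {c : G} (hc : c ∈ y)
    (hc' : c ∈ cj a y) : c = 1 := by
  obtain ⟨u, hu, rfl⟩ := hc'
  change a * u * a⁻¹ ∈ y at hc
  change a * u * a⁻¹ = 1
  have h1 := h.com a ha u (h.yV hu)
  have h2 : a * u * a⁻¹ * u⁻¹ = 1 := h.yA _ (mul_mem hc (inv_mem hu)) fun b hb => h.RA b hb _ h1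
  have h3 : a * u = u * a := mul_inv_eq_iff_eq_mul.1 (mul_inv_eq_one.1 h2)
  by_cases hu1 : u = 1
  · rw [hu1]; simp
  exfalso
  refine hn (h.free a ha u (h.yV hu) h3 fun hcu => hu1 (h.yA u hu fun b hb => ?_))
  exact mem_centralizer_iff.1 hcu b hb

/-- `Q` normalises `⟨e⟩ V`; `[x, e] ∈ V`. -/
theorem comm_V (h : Fx A Q V R y q) {e : G} (hey : ∀ x ∈ Q, e * x * e⁻¹ * x⁻¹ ∈ y) {x : G} (hx : x ∈ Q) :
    x * e * x⁻¹ * e⁻¹ ∈ y := by
  have h1 := hey x hx
  have e1 : x * e * x⁻¹ * e⁻¹ = (e * x * e⁻¹ * x⁻¹)⁻¹ := by group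
  rw [e1]
  exact inv_mem h1

/-- the conjugates of `e` under `A` commute -/
theorem conj_comm (h : Fx A Q V R y q) {e : G} (he : e ∈ Q) (hey : ∀ x ∈ Q, e * x * e⁻¹ * x⁻¹ ∈ y)
    {a : G} (ha : a ∈ A) (hn : ¬ ∀ u ∈ V, a * u = u * a) : e * (a * e * a⁻¹) = (a * e * a⁻¹) * e := by
  have h1 := hey _ (h.AQ' ha he)
  have h2 : e * (a * e * a⁻¹) * e⁻¹ * (a * e * a⁻¹)⁻¹ ∈ cj a y := by
    rw [mem_cj]
    have h3 := h.comm_V hey (h.AQ' (inv_mem ha) he)
    rw [inv_inv] at h3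
    have e1 : a⁻¹ * (e * (a * e * a⁻¹) * e⁻¹ * (a * e * a⁻¹)⁻¹) * a =
        a⁻¹ * e * a * e * (a⁻¹ * e * a)⁻¹ * e⁻¹ := by group
    rwa [e1]
  have h3 := h.y_inf ha hn h1 h2
  exact mul_inv_eq_iff_eq_mul.1 (mul_inv_eq_one.1 h3)

theorem conj_comm' (h : Fx A Q V R y q) {e : G} (he : e ∈ Q) (he2 : e * e = 1)
    (hey : ∀ x ∈ Q, e * x * e⁻¹ * x⁻¹ ∈ y) {a : G} (ha : a ∈ A) :
    e * (a * e * a⁻¹) = (a * e * a⁻¹) * e := by
  by_cases hn : ∀ u ∈ V, a * u = u * a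
  · have haQ := h.cA a ha hn
    have h1 := h.yV (h.comm_V hey haQ)
    have h2 := h.VcQ _ h1 e he
    have e1 : a * e * a⁻¹ = (a * e * a⁻¹ * e⁻¹) * e := by group
    rw [e1, ← mul_assoc, ← h2]
  · exact h.conj_comm he hey ha hn

theorem conj_comm'' (h : Fx A Q V R y q) {e : G} (he : e ∈ Q) (he2 : e * e = 1)
    (hey : ∀ x ∈ Q, e * x * e⁻¹ * x⁻¹ ∈ y) {a b : G} (ha : a ∈ A) (hb : b ∈ A) :
    (a * e * a⁻¹) * (b * e * b⁻¹) = (b * e * b⁻¹) * (a * e * a⁻¹) := by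
  have h1 := h.conj_comm' he he2 hey (mul_mem (inv_mem ha) hb)
  have h2 := congrArg (fun t => a * t * a⁻¹) h1
  have e1 : a * (e * (a⁻¹ * b * e * (a⁻¹ * b)⁻¹)) * a⁻¹ = (a * e * a⁻¹) * (b * e * b⁻¹) := by group
  have e2 : a * (a⁻¹ * b * e * (a⁻¹ * b)⁻¹ * e) * a⁻¹ = (b * e * b⁻¹) * (a * e * a⁻¹) := by group
  rw [← e1, ← e2]
  exact h2

/-- `X_e = ⟨e^a : a ∈ A⟩ V` -/
def XX (A V : Subgroup G) (e : G) : Subgroup G := V ⊔ ⨆ a : A, zpowers ((a : G) * e * (a : G)⁻¹)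

theorem conj_mem_XX {a e : G} (ha : a ∈ A) : a * e * a⁻¹ ∈ XX A V e :=
  mem_sup_right ((le_iSup (fun a : A => zpowers ((a : G) * e * (a : G)⁻¹)) ⟨a, ha⟩) (mem_zpowers _))

theorem mem_XX {e : G} : e ∈ XX A V e := by
  have := conj_mem_XX (A := A) (V := V) (e := e) (one_mem A)
  simpa using this

theorem XX_le {e : G} {Y : Subgroup G} (hV : V ≤ Y) (he : ∀ a ∈ A, a * e * a⁻¹ ∈ Y) : XX A V e ≤ Y :=
  sup_le hV (iSup_le fun a => (zpowers_le.2 (he a a.2)))

theorem XX_cj (h : Fx A Q V R y q) {e a : G} (ha : a ∈ A) : cj a (XX A V e) ≤ XX A V e := by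
  have h1 : XX A V e ≤ cj a⁻¹ (XX A V e) := by
    refine XX_le (fun v hv => ?_) fun b hb => ?_
    · rw [mem_cj, inv_inv]
      exact mem_sup_left (h.AV ha hv)
    · rw [mem_cj, inv_inv]
      have := conj_mem_XX (V := V) (e := e) (mul_mem ha hb)
      have e1 : a * (b * e * b⁻¹) * a⁻¹ = a * b * e * (a * b)⁻¹ := by group
      rwa [e1]
  exact cj_le_iff.2 h1

theorem XX_el (h : Fx A Q V R y q) {e : G} (he : e ∈ Q) (he2 : e * e = 1)
    (hey : ∀ x ∈ Q, e * x * e⁻¹ * x⁻¹ ∈ y) : IsElementaryAbelian 2 (XX A V e) := by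
  -- `X` is abelian
  have h1 : ∀ a ∈ A, XX A V e ≤ centralizer ({a * e * a⁻¹} : Set G) := by
    intro a ha
    refine XX_le (fun v hv => ?_) fun b hb => ?_
    · rw [mem_centralizer_singleton_iff]
      exact h.VcQ v hv _ (h.AQ' ha he)
    · rw [mem_centralizer_singleton_iff]
      exact h.conj_comm'' he he2 hey hb ha
  have hXQ : XX A V e ≤ Q := XX_le h.VQ fun a ha => h.AQ' ha he
  have h2 : ∀ x ∈ XX A V e, XX A V e ≤ centralizer ({x} : Set G) := by
    intro x hx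
    refine XX_le (fun v hv => ?_) fun a ha => ?_
    · rw [mem_centralizer_singleton_iff]
      exact h.VcQ v hv x (hXQ hx)
    · rw [mem_centralizer_singleton_iff]
      exact (mem_centralizer_singleton_iff.1 (h1 a ha hx)).symm
  have hcomm : ∀ x ∈ XX A V e, ∀ x' ∈ XX A V e, x * x' = x' * x := fun x hx x' hx' =>
    (mem_centralizer_singleton_iff.1 (h2 x' hx' hx))
  have hsq : ∀ x ∈ XX A V e, x ^ 2 = 1 := by
    intro x hx
    let Y : Subgroup G :=
      { carrier := {x | x ∈ XX A V e ∧ x ^ 2 = 1}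
        one_mem' := ⟨one_mem _, one_pow 2⟩
        mul_mem' := by
          rintro x x' ⟨hx, hx2⟩ ⟨hx', hx2'⟩
          refine ⟨mul_mem hx hx', ?_⟩
          have hc : Commute x x' := hcomm x hx x' hx'
          rw [hc.mul_pow, hx2, hx2', one_mul]
        inv_mem' := by
          rintro x ⟨hx, hx2⟩
          exact ⟨inv_mem hx, by rw [inv_pow, hx2, inv_one]⟩ }
    have h3 : XX A V e ≤ Y := by
      refine XX_le (fun v hv => ⟨mem_sup_left hv, elem_sq h.Vel v hv⟩) fun a ha => ⟨conj_mem_XX ha, ?_⟩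
      rw [pow_two]
      have e1 : a * e * a⁻¹ * (a * e * a⁻¹) = a * (e * e) * a⁻¹ := by group
      rw [e1, he2]; group
    exact (h3 hx).2
  exact ⟨⟨⟨fun a b => Subtype.ext (hcomm a a.2 b b.2)⟩⟩, fun a ha => hsq a ha⟩

section fin

variable [Finite G]

theorem ri_ne (X Y : Subgroup G) : X.relIndex Y ≠ 0 := Subgroup.index_ne_zero_of_finite

theorem card_y (h : Fx A Q V R y q) : Nat.card y ≤ q := by
  have h1 : (centralizer (A : Set G)).relIndex y = Nat.card y := by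
    rw [← Subgroup.inf_relIndex_right]
    have h2 : centralizer (A : Set G) ⊓ y = ⊥ := by
      rw [eq_bot_iff]
      rintro x ⟨hx, hxy⟩
      rw [mem_bot]
      exact h.yA x hxy fun a ha => mem_centralizer_iff.1 hx a ha
    rw [h2, Subgroup.relIndex_bot_left]
  rw [← h1, ← h.cardV]
  exact Subgroup.relIndex_le_of_le_right h.yV (ri_ne _ _)

/-- the map `a ↦ [a, u]` from `A` onto `R` -/
theorem full (h : Fx A Q V R y q) {u : G} (hu : u ∈ V) (huc : u ∉ centralizer (A : Set G)) {r : G} (hr : r ∈ R) :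
    ∃ a ∈ A, a * u * a⁻¹ * u⁻¹ = r := by
  let f : A →* G :=
    { toFun := fun a => (a : G) * u * (a : G)⁻¹ * u⁻¹
      map_one' := by simp
      map_mul' := by
        intro a b
        have h1 := h.RA a a.2 _ (h.com b b.2 u hu)
        have h2 := h.Vc (h.RV (h.com b b.2 u hu)) (h.RV (h.com a a.2 u hu))
        show (a : G) * b * u * ((a : G) * b)⁻¹ * u⁻¹ = (a : G) * u * (a : G)⁻¹ * u⁻¹ * ((b : G) * u * (b : G)⁻¹ * u⁻¹)
        have e : (a : G) * b * u * ((a : G) * b)⁻¹ * u⁻¹ =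
          ((a : G) * ((b : G) * u * (b : G)⁻¹ * u⁻¹)) * (a : G)⁻¹ * ((a : G) * u * (a : G)⁻¹ * u⁻¹) := by group
        rw [e, h1, ← h2]
        group }
  have hf : ∀ a : A, f a = (a : G) * u * (a : G)⁻¹ * u⁻¹ := fun _ => rfl
  have hker : f.ker = (centralizer (V : Set G)).subgroupOf A := by
    ext a
    rw [MonoidHom.mem_ker, hf, mem_subgroupOf, mem_centralizer_iff]
    constructor
    · intro h1 v hv
      have h2 : (a : G) * u = u * a := mul_inv_eq_iff_eq_mul.1 (mul_inv_eq_one.1 h1)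
      exact (h.free a a.2 u hu h2 huc v hv).symm
    · intro h1
      rw [← h1 u hu]; group
  have h1 : Nat.card f.range = q := by
    have h2 : Nat.card f.range = f.ker.index := by rw [Subgroup.index_ker]
    rw [h2, hker, ← h.cardA]
    rfl
  have h2 : f.range ≤ R := by
    rintro _ ⟨a, rfl⟩
    exact h.com a a.2 u hu
  have h3 : f.range = R := Subgroup.eq_of_le_of_card_ge h2 (by rw [h1, h.cardR])
  rw [← h3] at hr
  obtain ⟨a, ha⟩ := hr
  exact ⟨a, a.2, ha⟩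

/-- `C_A(X_e) = C_A(V) ∩ C_A(e)` -/
theorem mem_cX (h : Fx A Q V R y q) {e b : G} (hb : b ∈ A) (hbV : ∀ v ∈ V, b * v = v * b) (hbe : b * e = e * b) :
    b ∈ centralizer (XX A V e : Set G) := by
  have h1 : XX A V e ≤ centralizer ({b} : Set G) := by
    refine XX_le (fun v hv => ?_) fun a ha => ?_
    · rw [mem_centralizer_singleton_iff]
      exact (hbV v hv).symm
    · rw [mem_centralizer_singleton_iff]
      have h2 := h.Ac ha hb
      calc a * e * a⁻¹ * b = a * e * (b⁻¹ * a)⁻¹ := by group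
        _ = a * e * (a * b⁻¹)⁻¹ := by
          rw [h.Ac (inv_mem hb) ha]
        _ = a * (e * b) * a⁻¹ := by group
        _ = a * (b * e) * a⁻¹ := by rw [hbe]
        _ = (a * b) * e * a⁻¹ := by group
        _ = (b * a) * e * a⁻¹ := by rw [h2]
        _ = b * (a * e * a⁻¹) := by group
  rw [mem_centralizer_iff]
  intro x hx
  exact mem_centralizer_singleton_iff.1 (h1 hx)

/-- **Step 1**: `C_A(V)` centralises `e`. -/
theorem step1 (h : Fx A Q V R y q) (hq : 1 < q) {e : G} (he : e ∈ Q) (he2 : e * e = 1)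
    (hey : ∀ x ∈ Q, e * x * e⁻¹ * x⁻¹ ∈ y) {b : G} (hb : b ∈ A) (hbV : ∀ v ∈ V, b * v = v * b) : b * e = e * b := by
  by_contra hbe
  set X := XX A V e with hX
  have hXQ : X ≤ Q := XX_le h.VQ fun a ha => h.AQ' ha he
  have hVX : V ≤ X := le_sup_left
  set A₀ : Subgroup G := A ⊓ centralizer (V : Set G) with hA₀
  have hA₀V : ∀ b ∈ A₀, ∀ v ∈ V, b * v = v * b := fun b hb v hv => (mem_centralizer_iff.1 hb.2 v hv).symm
  have hA₀Q : A₀ ≤ Q := fun b hb => h.cA b hb.1 (hA₀V b hb)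
  -- the element `u = [b, e]`
  have hbA₀ : b ∈ A₀ := ⟨hb, mem_centralizer_iff.2 fun v hv => (hbV v hv).symm⟩
  set u := b * e * b⁻¹ * e⁻¹ with hu
  have huy : u ∈ y := h.comm_V hey (hA₀Q hbA₀)
  have huV := h.yV huy
  have hu1 : u ≠ 1 := fun h1 => hbe (mul_inv_eq_iff_eq_mul.1 (mul_inv_eq_one.1 h1))
  have huc : u ∉ centralizer (A : Set G) := fun hc =>
    hu1 (h.yA u huy fun a ha => mem_centralizer_iff.1 hc a ha)
  -- commutators of `X` with `b`
  have hcomX : ∀ x ∈ X, b * x * b⁻¹ * x⁻¹ ∈ V := by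
    intro x hx
    let Y : Subgroup G :=
      { carrier := {x | x ∈ Q ∧ b * x * b⁻¹ * x⁻¹ ∈ V}
        one_mem' := ⟨one_mem _, by simp [one_mem]⟩
        mul_mem' := by
          rintro x x' ⟨hx, h1⟩ ⟨hx', h2⟩
          refine ⟨mul_mem hx hx', ?_⟩
          have e1 : b * (x * x') * b⁻¹ * (x * x')⁻¹ =
            (b * x * b⁻¹ * x⁻¹) * (x * (b * x' * b⁻¹ * x'⁻¹) * x⁻¹) := by group
          rw [e1]
          refine mul_mem h1 ?_
          rw [← h.VcQ _ h2 x hx]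
          have e2 : b * x' * b⁻¹ * x'⁻¹ * x * x⁻¹ = b * x' * b⁻¹ * x'⁻¹ := by group
          rwa [e2]
        inv_mem' := by
          rintro x ⟨hx, h1⟩
          refine ⟨inv_mem hx, ?_⟩
          have e1 : b * x⁻¹ * b⁻¹ * x⁻¹⁻¹ = x⁻¹ * ((b * x * b⁻¹ * x⁻¹)⁻¹ * x) := by
            group
          rw [e1, h.VcQ _ (inv_mem h1) x hx]
          have e2 : x⁻¹ * (x * (b * x * b⁻¹ * x⁻¹)⁻¹) = (b * x * b⁻¹ * x⁻¹)⁻¹ := by group
          rw [e2]
          exact inv_mem h1 }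
    have h1 : X ≤ Y := by
      refine XX_le (fun v hv => ⟨h.VQ hv, ?_⟩) fun a ha => ⟨h.AQ' ha he, ?_⟩
      · have e1 : b * v * b⁻¹ * v⁻¹ = 1 := by rw [hbV v hv]; group
        rw [e1]; exact one_mem _
      · have e1 : b * (a * e * a⁻¹) * b⁻¹ * (a * e * a⁻¹)⁻¹ = a * u * a⁻¹ := by
          have h2 := h.Ac ha hb
          calc b * (a * e * a⁻¹) * b⁻¹ * (a * e * a⁻¹)⁻¹ = (b * a) * e * (b * a)⁻¹ * a * e⁻¹ * a⁻¹ := by group
            _ = (a * b) * e * (a * b)⁻¹ * a * e⁻¹ * a⁻¹ := by rw [h2]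
            _ = a * u * a⁻¹ := by rw [hu]; group
        rw [e1]
        exact h.AV ha huV
    exact (h1 hx).2
  let θ : X →* G :=
    { toFun := fun x => b * x * b⁻¹ * (x : G)⁻¹
      map_one' := by simp
      map_mul' := by
        intro x x'
        show b * ((x : G) * x') * b⁻¹ * ((x : G) * x')⁻¹ = _
        have e1 : b * ((x : G) * x') * b⁻¹ * ((x : G) * x')⁻¹ =
          (b * x * b⁻¹ * (x : G)⁻¹) * (x * (b * x' * b⁻¹ * (x' : G)⁻¹)) * (x : G)⁻¹ := by group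
        rw [e1, ← h.VcQ _ (hcomX x' x'.2) x (hXQ x.2)]
        group }
  have hθ : ∀ x : X, θ x = b * x * b⁻¹ * (x : G)⁻¹ := fun _ => rfl
  -- `R ≤ θ(X)`, `u ∈ θ(X)`
  have huθ : u ∈ θ.range := ⟨⟨e, mem_XX⟩, rfl⟩
  have hRθ : R ≤ θ.range := by
    intro r hr
    obtain ⟨a, ha, e1⟩ := h.full huV huc hr
    have h1 : a * u * a⁻¹ ∈ θ.range := by
      refine ⟨⟨a * e * a⁻¹, conj_mem_XX ha⟩, ?_⟩
      rw [hθ]
      have h2 := h.Ac ha hb
      calc b * (a * e * a⁻¹) * b⁻¹ * (a * e * a⁻¹)⁻¹ = (b * a) * e * (b * a)⁻¹ * a * e⁻¹ * a⁻¹ := by group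
        _ = (a * b) * e * (a * b)⁻¹ * a * e⁻¹ * a⁻¹ := by rw [h2]
        _ = a * u * a⁻¹ := by rw [hu]; group
    rw [← e1]
    exact mul_mem h1 (inv_mem huθ)
  have hlow : q < Nat.card θ.range := by
    rw [← h.cardR]
    by_contra hcon
    have h1 : R = θ.range := Subgroup.eq_of_le_of_card_ge hRθ (not_lt.1 hcon)
    rw [← h1] at huθ
    exact hu1 (h.yA u huy fun a ha => h.RA a ha u huθ)
  -- counting
  have hker : θ.ker = (centralizer ({b} : Set G)).subgroupOf X := by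
    ext x
    rw [MonoidHom.mem_ker, hθ, mem_subgroupOf, mem_centralizer_singleton_iff]
    constructor
    · intro h1
      exact (mul_inv_eq_iff_eq_mul.1 (mul_inv_eq_one.1 h1)).symm
    · intro h1
      rw [← h1]; group
  have hcb : (centralizer ({b} : Set G)).relIndex X = Nat.card θ.range := by
    have h2 : Nat.card θ.range = θ.ker.index := by rw [Subgroup.index_ker]
    rw [h2, hker]
    rfl
  set D : Subgroup G := X ⊓ centralizer ({b} : Set G) with hD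
  have hVD : V ≤ D := le_inf hVX fun v hv => mem_centralizer_singleton_iff.2 (hbV v hv).symm
  have hCA : centralizer (A : Set G) ≤ centralizer ({b} : Set G) :=
    centralizer_le (by rintro _ rfl; exact hb)
  have h1 : (centralizer (A : Set G)).relIndex X =
      (centralizer (A : Set G) ⊓ X).relIndex D * D.relIndex X := by
    rw [Subgroup.relIndex_mul_relIndex _ _ _ (le_inf inf_le_right (inf_le_left.trans hCA)) inf_le_left,
      Subgroup.inf_relIndex_right]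
  have h2 : D.relIndex X = Nat.card θ.range := by
    rw [hD, inf_comm, Subgroup.inf_relIndex_right, hcb]
  have h3 : q ≤ (centralizer (A : Set G) ⊓ X).relIndex D := by
    have h4 : (centralizer (A : Set G) ⊓ X).relIndex V = q := by
      rw [← Subgroup.inf_relIndex_right, inf_assoc, inf_eq_right.2 hVX, Subgroup.inf_relIndex_right, h.cardV]
    rw [← h4]
    exact Subgroup.relIndex_le_of_le_right hVD (ri_ne _ _)
  have hoff := h.off X (h.XX_el he he2 hey) hVX hXQ fun a ha => by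
    refine le_antisymm (h.XX_cj ha) ?_
    have := h.XX_cj (e := e) (inv_mem ha)
    have h5 := cj_le_iff.1 this
    rwa [inv_inv] at h5
  -- the upper bound
  have hup : (centralizer (X : Set G)).relIndex A ≤ q * q := by
    have hCX : centralizer (X : Set G) ≤ centralizer (V : Set G) := centralizer_le (by exact_mod_cast hVX)
    have h5 : (centralizer (X : Set G)).relIndex A =
        (centralizer (X : Set G) ⊓ A).relIndex A₀ * A₀.relIndex A := by
      rw [Subgroup.relIndex_mul_relIndex _ _ _ (le_inf inf_le_right (inf_le_left.trans hCX)) inf_le_left,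
        Subgroup.inf_relIndex_right]
    have h6 : A₀.relIndex A = q := by
      rw [hA₀, inf_comm, Subgroup.inf_relIndex_right, h.cardA]
    have h7 : (centralizer (X : Set G) ⊓ A).relIndex A₀ ≤ q := by
      let g : A₀ →* G :=
        { toFun := fun c => (c : G) * e * (c : G)⁻¹ * e⁻¹
          map_one' := by simp
          map_mul' := by
            intro c d
            show (c : G) * d * e * ((c : G) * d)⁻¹ * e⁻¹ = _
            have hd : (d : G) * e * (d : G)⁻¹ * e⁻¹ ∈ V := h.yV (h.comm_V hey (hA₀Q d.2))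
            have hc' : (c : G) * e * (c : G)⁻¹ * e⁻¹ ∈ V := h.yV (h.comm_V hey (hA₀Q c.2))
            have e1 : (c : G) * d * e * ((c : G) * d)⁻¹ * e⁻¹ =
              ((c : G) * ((d : G) * e * (d : G)⁻¹ * e⁻¹)) * (c : G)⁻¹ * ((c : G) * e * (c : G)⁻¹ * e⁻¹) := by group
            rw [e1, hA₀V c c.2 _ hd]
            have e2 : ((d : G) * e * (d : G)⁻¹ * e⁻¹ * c) * (c : G)⁻¹ * ((c : G) * e * (c : G)⁻¹ * e⁻¹) =
              ((d : G) * e * (d : G)⁻¹ * e⁻¹) * ((c : G) * e * (c : G)⁻¹ * e⁻¹) := by group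
            rw [e2, h.Vc hd hc'] }
      have hg : ∀ c : A₀, g c = (c : G) * e * (c : G)⁻¹ * e⁻¹ := fun _ => rfl
      have h8 : g.range ≤ y := by
        rintro _ ⟨c, rfl⟩
        exact h.comm_V hey (hA₀Q c.2)
      have h9 : g.ker ≤ (centralizer (X : Set G) ⊓ A).subgroupOf A₀ := by
        intro c hc
        rw [MonoidHom.mem_ker, hg] at hc
        rw [mem_subgroupOf]
        refine ⟨h.mem_cX c.2.1 (hA₀V c c.2) ?_, c.2.1⟩
        exact mul_inv_eq_iff_eq_mul.1 (mul_inv_eq_one.1 hc)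
      calc (centralizer (X : Set G) ⊓ A).relIndex A₀ ≤ g.ker.index :=
            Nat.le_of_dvd (Nat.pos_of_ne_zero Subgroup.index_ne_zero_of_finite) (Subgroup.index_dvd_of_le h9)
        _ = Nat.card g.range := by rw [Subgroup.index_ker]
        _ ≤ Nat.card y := Subgroup.card_le_of_le h8
        _ ≤ q := h.card_y
    rw [h5, h6]
    exact Nat.mul_le_mul_right _ h7
  have h10 : q * (q + 1) ≤ q * q := by
    calc q * (q + 1) ≤ (centralizer (A : Set G) ⊓ X).relIndex D * D.relIndex X := by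
          rw [h2]
          exact Nat.mul_le_mul h3 hlow
      _ = (centralizer (A : Set G)).relIndex X := h1.symm
      _ ≤ (centralizer (X : Set G)).relIndex A := hoff
      _ ≤ q * q := hup
  have h11 := Nat.le_of_mul_le_mul_left h10 (by omega : 0 < q)
  omega

/-- **The abstract LEMMA FIX.** -/
theorem main (h : Fx A Q V R y q) (hq : 1 < q) {e : G} (he : e ∈ Q) (he2 : e * e = 1)
    (hey : ∀ x ∈ Q, e * x * e⁻¹ * x⁻¹ ∈ y) : ∀ x ∈ Q, e * x = x * e := by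
  set X := XX A V e with hX
  have hXQ : X ≤ Q := XX_le h.VQ fun a ha => h.AQ' ha he
  have hVX : V ≤ X := le_sup_left
  have hoff := h.off X (h.XX_el he he2 hey) hVX hXQ fun a ha => by
    refine le_antisymm (h.XX_cj ha) ?_
    have := h.XX_cj (e := e) (inv_mem ha)
    have h5 := cj_le_iff.1 this
    rwa [inv_inv] at h5
  have h1 : (centralizer (X : Set G)).relIndex A ≤ q := by
    rw [← h.cardA]
    refine Nat.le_of_dvd (Nat.pos_of_ne_zero (ri_ne _ _)) ?_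
    refine Subgroup.index_dvd_of_le ?_
    intro b hb
    rw [mem_subgroupOf] at hb ⊢
    have hbV : ∀ v ∈ V, (b : G) * v = v * b := fun v hv => (mem_centralizer_iff.1 hb v hv).symm
    exact h.mem_cX b.2 hbV (h.step1 hq he he2 hey b.2 hbV)
  set K : Subgroup G := V ⊔ (centralizer (A : Set G) ⊓ X) with hK
  have hKX : K ≤ X := sup_le hVX inf_le_right
  have h2 : (centralizer (A : Set G)).relIndex X =
      (centralizer (A : Set G) ⊓ X).relIndex K * K.relIndex X := by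
    rw [Subgroup.relIndex_mul_relIndex _ _ _ le_sup_right hKX, Subgroup.inf_relIndex_right]
  have h3 : q ≤ (centralizer (A : Set G) ⊓ X).relIndex K := by
    have h4 : (centralizer (A : Set G) ⊓ X).relIndex V = q := by
      rw [← Subgroup.inf_relIndex_right, inf_assoc, inf_eq_right.2 hVX, Subgroup.inf_relIndex_right, h.cardV]
    rw [← h4]
    exact Subgroup.relIndex_le_of_le_right le_sup_left (ri_ne _ _)
  have h4 : K.relIndex X = 1 := by
    have h5 := hoff.trans h1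
    rw [h2] at h5
    have h6 := Nat.pos_of_ne_zero (ri_ne K X)
    by_contra hne
    have h7 : 2 ≤ K.relIndex X := by omega
    have h8 : q * 2 ≤ q := (Nat.mul_le_mul h3 h7).trans h5
    omega
  have heK : e ∈ K := Subgroup.relIndex_eq_one.1 h4 mem_XX
  obtain ⟨v, hv, c, hc, e1⟩ := mem_sup_comm (fun a ha b hb => h.VcQ a ha b (hXQ (mem_inf.1 hb).2)) heK
  -- an element of `A` not centralising `V`
  obtain ⟨a, ha, hn⟩ : ∃ a ∈ A, ¬ ∀ u ∈ V, a * u = u * a := by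
    by_contra hcon
    push Not at hcon
    have h5 : (centralizer (V : Set G)).relIndex A = 1 := by
      rw [Subgroup.relIndex_eq_one]
      intro a ha
      rw [mem_centralizer_iff]
      exact fun v hv => (hcon a ha v hv).symm
    rw [h.cardA] at h5
    omega
  set r := a * v * a⁻¹ * v⁻¹ with hr
  have hrV : r ∈ V := h.RV (h.com a ha v hv)
  have hae : a * e * a⁻¹ = r * e := by
    have h5 := mem_centralizer_iff.1 hc.1 a ha
    calc a * e * a⁻¹ = (a * v * a⁻¹) * (a * c * a⁻¹) := by rw [e1]; group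
      _ = (a * v * a⁻¹) * c := by rw [h5]; group
      _ = r * e := by rw [hr, e1]; group
  intro x hx
  have h5 : e * x * e⁻¹ * x⁻¹ ∈ cj a y := by
    rw [mem_cj]
    have hx' : a⁻¹ * x * a ∈ Q := by
      have := h.AQ' (inv_mem ha) hx
      rwa [inv_inv] at this
    have h6 := hey _ hx'
    have h7 : e * x * e⁻¹ * x⁻¹ = (a * e * a⁻¹) * x * (a * e * a⁻¹)⁻¹ * x⁻¹ := by
      rw [hae]
      have h8 : r * (e * x * e⁻¹) = (e * x * e⁻¹) * r := h.VcQ r hrV _ (mul_mem (mul_mem he hx) (inv_mem he))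
      calc e * x * e⁻¹ * x⁻¹ = (e * x * e⁻¹) * r * r⁻¹ * x⁻¹ := by group
        _ = r * (e * x * e⁻¹) * r⁻¹ * x⁻¹ := by rw [h8]
        _ = r * e * x * (r * e)⁻¹ * x⁻¹ := by group
    rw [h7]
    have e3 : a⁻¹ * ((a * e * a⁻¹) * x * (a * e * a⁻¹)⁻¹ * x⁻¹) * a =
      e * (a⁻¹ * x * a) * e⁻¹ * (a⁻¹ * x * a)⁻¹ := by group
    rwa [e3]
  have h6 := h.y_inf ha hn (hey x hx) h5
  exact mul_inv_eq_iff_eq_mul.1 (mul_inv_eq_one.1 h6)

end fin

end Fx

/-! ### The frame -/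

theorem relIndex_mul_card (X Y : Subgroup G) : X.relIndex Y * Nat.card ↥(Y ⊓ X) = Nat.card Y := by
  have h1 := Subgroup.relIndex_mul_relIndex ⊥ (Y ⊓ X) Y bot_le inf_le_left
  rw [Subgroup.relIndex_bot_left, Subgroup.relIndex_bot_left, Subgroup.inf_relIndex_left] at h1
  rw [mul_comm]
  exact h1

/-- `|X : C_X(A)| ≤ |A : C_A(X)|` for elementary abelian `X`, `A`, `|A|` maximal. -/
theorem off_of_mx [Finite G] {m : ℕ} (hm : Mx G m) {A X : Subgroup G} (hA : IsElementaryAbelian 2 A)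
    (hAm : Nat.card A = m) (hX : IsElementaryAbelian 2 X) :
    (centralizer (A : Set G)).relIndex X ≤ (centralizer (X : Set G)).relIndex A := by
  have hcomm : ∀ x ∈ X, ∀ a ∈ A ⊓ centralizer (X : Set G), x * a = a * x := fun x hx a ha =>
    mem_centralizer_iff.1 ha.2 x hx
  have h1 := card_sup_comm hcomm
  have h2 := hm _ (isElementaryAbelian_sup hX (Cfsg.Agent.PLocal.ThompsonJ.isElementaryAbelian_mono hA inf_le_left)
    (BlockUniq.elem_le_centralizer hcomm))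
  have h3 : Nat.card ↥(X ⊓ (A ⊓ centralizer (X : Set G)) : Subgroup G) ≤
      Nat.card ↥(X ⊓ centralizer (A : Set G) : Subgroup G) := by
    refine Subgroup.card_le_of_le ?_
    rintro u ⟨hu, hu', -⟩
    exact ⟨hu, mem_centralizer_iff.2 fun a ha => elem_comm hA a ha u hu'⟩
  have h4 := relIndex_mul_card (centralizer (A : Set G)) X
  have h5 := relIndex_mul_card (centralizer (X : Set G)) A
  set r1 := (centralizer (A : Set G)).relIndex X
  set r2 := (centralizer (X : Set G)).relIndex A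
  set c1 := Nat.card ↥(X ⊓ centralizer (A : Set G) : Subgroup G)
  set c2 := Nat.card ↥(A ⊓ centralizer (X : Set G) : Subgroup G)
  have hc1 : 0 < c1 := Nat.card_pos
  have hc2 : 0 < c2 := Nat.card_pos
  refine Nat.le_of_mul_le_mul_right ?_ (Nat.mul_pos hc1 hc2)
  calc r1 * (c1 * c2) = Nat.card X * c2 := by rw [← h4]; ring
    _ = Nat.card ↥(X ⊔ (A ⊓ centralizer (X : Set G)) : Subgroup G) *
        Nat.card ↥(X ⊓ (A ⊓ centralizer (X : Set G)) : Subgroup G) := h1.symm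
    _ ≤ m * c1 := Nat.mul_le_mul h2 h3
    _ = (r2 * c2) * c1 := by rw [← hAm, ← h5]
    _ = r2 * (c1 * c2) := by ring

section frame

variable {ι : Type*} {B Q V ZJ : Subgroup G} {L W Z C A : ι → Subgroup G} {q m : ℕ}

theorem fx [Finite G] (h : Fr B Q V ZJ L W Z C A q m) (i : ι) {y : Subgroup G} (hy : y ≤ V)
    (hyi : y ⊓ (Z i ⊔ C i) = ⊥) : Fx (A i) Q V (Z i) y q := by
  have hAL : ∀ a ∈ A i, a ∈ L i := fun a ha => (h.blk i).BL (h.AB i ha)
  have hcV : ∀ a ∈ A i, (∀ v ∈ W i, a * v = v * a) → ∀ v ∈ V, a * v = v * a := fun a ha hw v hv =>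
    h.cQ (h.A_Q ha hw) hv
  refine
    { Ael := h.Ael i
      Vel := h.el
      VQ := h.VQ
      VcQ := fun v hv x hx => (h.cQ hx hv).symm
      AQ := fun a ha => h.cj_Q (hAL a ha)
      cA := fun a ha hc => (h.mem_Q a (h.AB i ha)).2 hc
      RV := h.ZV i
      RA := fun a ha r hr => (h.blk i).cZ a (h.AB i ha) r hr
      com := fun a ha v hv => h.A_comm ha hv
      cardR := h.cardZ i
      cardA := ?_
      cardV := ?_
      free := ?_
      yV := hy
      yA := ?_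
      off := fun X hX _ _ _ => off_of_mx h.max (h.Ael i) (h.Am i) hX }
  · have h1 : A i ⊓ centralizer (V : Set G) = A i ⊓ centralizer (W i : Set G) := by
      apply le_antisymm
      · exact inf_le_inf_left _ (centralizer_le (by exact_mod_cast h.WV i))
      · rintro a ⟨ha, hac⟩
        refine ⟨ha, mem_centralizer_iff.2 fun v hv => ?_⟩
        exact (hcV a ha (fun w hw => (mem_centralizer_iff.1 hac w hw).symm) v hv).symm
    have h2 := relIndex_mul_card (centralizer (V : Set G)) (A i)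
    rw [h1, ← (h.A_full i).2.2] at h2
    exact Nat.eq_of_mul_eq_mul_right Nat.card_pos h2
  · have h2 := relIndex_mul_card (centralizer (A i : Set G)) V
    rw [h.card_CVA i, mul_comm] at h2
    exact Nat.eq_of_mul_eq_mul_left Nat.card_pos h2
  · intro a ha v hv hav hvc
    obtain ⟨w, hw, c, hc, rfl⟩ := h.WC i v hv
    have h1 := h.AC i a ha c hc
    have h2 : a * w = w * a := by
      calc a * w = a * (w * c) * c⁻¹ := by group
        _ = (w * c) * a * c⁻¹ := by rw [hav]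
        _ = w * (c * a) * c⁻¹ := by group
        _ = w * (a * c) * c⁻¹ := by rw [h1]
        _ = w * a := by group
    refine hcV a ha ((h.blk i).free a (h.AB i ha) w hw (fun hwZ => hvc ?_) h2)
    have h3 : w * c ∈ V ⊓ centralizer (A i : Set G) := by
      rw [h.CVA i]
      exact mul_mem (mem_sup_left hwZ) (mem_sup_right hc)
    exact h3.2
  · intro u hu hc
    have h1 : u ∈ V ⊓ centralizer (A i : Set G) := ⟨hy hu, mem_centralizer_iff.2 hc⟩
    rw [h.CVA i] at h1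
    have h2 : u ∈ y ⊓ (Z i ⊔ C i) := ⟨hu, h1⟩
    rwa [hyi, mem_bot] at h2

/-- **LEMMA FIX**, `y ≤ V` with `y ∩ C_V(A i) = 1`. -/
theorem fix [Finite G] (h : Fr B Q V ZJ L W Z C A q m) {i : ι} {y : Subgroup G} (hy : y ≤ V)
    (hyi : y ⊓ (Z i ⊔ C i) = ⊥) {e : G} (he : e ∈ Q) (he2 : e ^ 2 = 1)
    (hey : ∀ x ∈ Q, e * x * e⁻¹ * x⁻¹ ∈ y) : e ∈ V :=
  h.zcQ e he he2 ((fx h i hy hyi).main (h.blk i).one he (by rw [← pow_two]; exact he2) hey)

/-- **LEMMA FIX**: `e ∈ Q` an involution, `[e, Q] ≤ y ≤ Z_J`, `y ∩ C i = 1`; then `e ∈ V`. -/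
theorem fix_ZJ [Finite G] (h : Fr B Q V ZJ L W Z C A q m) {i : ι} {y : Subgroup G} (hy : y ≤ ZJ)
    (hyC : y ⊓ C i = ⊥) {e : G} (he : e ∈ Q) (he2 : e ^ 2 = 1)
    (hey : ∀ x ∈ Q, e * x * e⁻¹ * x⁻¹ ∈ y) : e ∈ V := by
  obtain ⟨l, hl, hmv⟩ := h.exists_mv i
  have h1 : l * e * l⁻¹ ∈ V := by
    refine fix h (i := i) (y := cj l y) ?_ ?_ (h.LQ i l hl e he) ?_ fun x hx => ?_
    · rw [← h.cj_V hl]
      exact cj_mono l (hy.trans h.ZJV)
    · rw [eq_bot_iff]
      rintro _ ⟨⟨u, hu, rfl⟩, hu2⟩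
      change l * u * l⁻¹ ∈ Z i ⊔ C i at hu2
      change l * u * l⁻¹ ∈ (⊥ : Subgroup G)
      obtain ⟨w, hw, c, hc, hcJ, e1⟩ := h.split_ZJ i (hy hu)
      obtain ⟨z, hz, c', hc', e2⟩ := mem_sup_comm (fun a ha b hb => h.Vc (h.ZV i ha) (h.CV i hb)) hu2
      have hlc := h.LC i l hl c hcJ hc
      have e3 : (l * w * l⁻¹) * c = z * c' := by
        rw [← e2, e1]
        calc l * w * l⁻¹ * c = l * w * l⁻¹ * (c * l) * l⁻¹ := by group
          _ = l * w * l⁻¹ * (l * c) * l⁻¹ := by rw [hlc]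
          _ = l * (w * c) * l⁻¹ := by group
      have h3 := h.uniq (i := i) ((h.blk i).nV l hl w ((h.blk i).ZV hw)) ((h.blk i).ZV hz) hc hc' e3
      have h4 : l * w * l⁻¹ ∈ cj l (Z i) ⊓ Z i := ⟨⟨w, hw, rfl⟩, by rw [h3.1]; exact hz⟩
      rw [h.tri' hl hmv, mem_bot] at h4
      have hw1 : w = 1 := by
        have h5 := congrArg (fun t => l⁻¹ * t * l) h4
        simpa [mul_assoc] using h5
      have h5 : u ∈ y ⊓ C i := ⟨hu, by rw [e1, hw1, one_mul]; exact hc⟩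
      rw [hyC, mem_bot] at h5
      rw [h5, mem_bot]; group
    · have e1 : (l * e * l⁻¹) ^ 2 = l * e ^ 2 * l⁻¹ := by rw [pow_two, pow_two]; group
      rw [e1, he2]; group
    · rw [mem_cj]
      have h2 := h.LQ i l⁻¹ (inv_mem hl) x hx
      rw [inv_inv] at h2
      have h3 := hey _ h2
      have e1 : l⁻¹ * (l * e * l⁻¹ * x * (l * e * l⁻¹)⁻¹ * x⁻¹) * l =
        e * (l⁻¹ * x * l) * e⁻¹ * (l⁻¹ * x * l)⁻¹ := by group
      rwa [e1]
  have h2 := h.LV i l⁻¹ (inv_mem hl) _ h1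
  have e1 : l⁻¹ * (l * e * l⁻¹) * l⁻¹⁻¹ = e := by group
  rwa [e1] at h2

/-- **LEMMA FIX** for `y = Z i` (helper609 #19750 (1), all `q`). -/
theorem fix_Z [Finite G] (h : Fr B Q V ZJ L W Z C A q m) {i : ι} {e : G} (he : e ∈ Q) (he2 : e ^ 2 = 1)
    (hey : ∀ x ∈ Q, e * x * e⁻¹ * x⁻¹ ∈ Z i) : e ∈ V := by
  refine fix_ZJ h (i := i) (h.Z_le i) ?_ he he2 hey
  rw [eq_bot_iff, ← h.dir i]
  exact inf_le_inf_right _ (h.blk i).ZV

end frame

end Cfsg.Agent.Omega.OM.FixLem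

namespace Cfsg.Agent.Omega.OM

open Subgroup Cfsg.Agent.ZN.ChoiceBase
open Cfsg.Agent.ZN (jj zj bau zc zl o2)

universe u

variable {G : Type u} [Group G] [Finite G] {ι : Type} [Finite ι] {S : Sylow 2 G} {P : Subgroup G}
  {L W Z C A : ι → Subgroup G} {q : ℕ}

omit [Finite ι] in
/-- **LEMMA FIX** over `Line`: an involution `e ∈ O₂(P)` with `[e, O₂(P)] ≤ y ≤ Z_J`, `y ∩ C i = 1`, lies in `V_P`. -/
theorem Line.fix (h : Line S P L W Z C A q) {i : ι} {y : Subgroup G} (hy : y ≤ zj (S : Subgroup G))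
    (hyC : y ⊓ C i = ⊥) {e : G} (he : e ∈ o2 P) (he2 : e ^ 2 = 1)
    (hey : ∀ x ∈ o2 P, e * x * e⁻¹ * x⁻¹ ∈ y) : e ∈ zl (S : Subgroup G) P :=
  FixLem.fix_ZJ h.fr hy hyC he he2 hey

/-- `N_G(B)` permutes the pairs `(Z i, Z_J ∩ C i)`, all `q`. -/
theorem Line.permC (h : Line S P L W Z C A q) {g : G} (hg : g ∈ normalizer (bau (S : Subgroup G) : Set G)) (i : ι) :
    ∃ j, cj g (Z i) = Z j ∧ ∀ z ∈ zj (S : Subgroup G), (g * z * g⁻¹ ∈ C j ↔ z ∈ C i) := by
  have h' : Uni.FB (bau (S : Subgroup G)) (cj g (L i)) (cj g (W i)) (cj g (Z i)) q := by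
    have := (h.fr.blk i).conj g
    rwa [cj_eq_of_mem_normalizer hg] at this
  obtain ⟨-, j, hZ, -, h1 | ⟨-, -, ⟨w', hw', w, hw, hne⟩, -⟩⟩ := h.uniPlus h'
  · obtain ⟨-, hC, -⟩ := h1
    refine ⟨j, hZ, fun z hz => ?_⟩
    have hz' : g * z * g⁻¹ ∈ zj (S : Subgroup G) := by
      have h3 := cj_eq_of_mem_normalizer (Dich.norm_zj _ hg)
      rw [← h3]
      exact ⟨z, hz, rfl⟩
    rw [hC _ hz', UniPlus.mem_C_iff h.fr hz]
    constructor
    · intro h3 l hl
      have h4 := h3 (g * l * g⁻¹) ⟨l, hl, rfl⟩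
      have h5 := congrArg (fun t => g⁻¹ * t * g) h4
      simpa [mul_assoc] using h5
    · intro h3 l hl
      have h4 := h3 _ (mem_cj.1 hl)
      have h5 := congrArg (fun t => g * t * g⁻¹) h4
      simpa [mul_assoc] using h5
  · exfalso
    apply hne
    refine h.fr.Vc ?_ (h.fr.WV j hw)
    rw [← (h.norm hg).1]
    exact cj_mono g (h.fr.WV i) hw'

omit [Finite ι] in
theorem Line.Z_injq (h : Line S P L W Z C A q) {i j : ι} (e : Z i = Z j) : i = j := by
  by_contra hne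
  have h1 : 1 < Nat.card (Z i) := by rw [h.fr.cardZ i]; exact (h.fr.blk i).one
  have : Nontrivial (Z i) := Finite.one_lt_card_iff_nontrivial.1 h1
  obtain ⟨z, hz⟩ := exists_ne (1 : Z i)
  have h2 : (z : G) ∈ W i ⊓ C i :=
    mem_inf.2 ⟨(h.fr.blk i).ZV z.2, h.fr.WjC i j hne ((h.fr.blk j).ZV (e ▸ z.2))⟩
  rw [h.fr.dir i, mem_bot] at h2
  exact hz (Subtype.ext h2)

/-- `Ω₁(Z(S)) ∩ C i = 1` if `S` is transitive on the `Z i`. -/
theorem Line.zc_inf_C (h : Line S P L W Z C A q) (htr : ∀ i j, ∃ s ∈ (S : Subgroup G), cj s (Z i) = Z j) (i : ι) :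
    zc (S : Subgroup G) ⊓ C i = ⊥ := by
  rw [eq_bot_iff]
  rintro x ⟨hx, hxi⟩
  have hxJ : x ∈ zj (S : Subgroup G) := zc_le_zj _ hx
  rw [mem_bot]
  refine h.fr.C0 x (h.fr.ZJV hxJ) fun j => ?_
  obtain ⟨s, hs, e⟩ := htr i j
  obtain ⟨k, e', h1⟩ := h.permC (Line.S_le S hs) i
  have hk : j = k := h.Z_injq (e.symm.trans e')
  subst hk
  have h2 : s * x * s⁻¹ = x := by rw [(mem_zc.1 hx).2.2 s hs]; group
  have h3 := (h1 x hxJ).2 hxi
  rwa [h2] at h3

/-- **LEMMA FIX** (helper929 #19817): an involution `e ∈ O₂(P)` with `[e, O₂(P)] ≤ Ω₁(Z(S))` lies in `V_P`. -/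
theorem Line.fix_zc (h : Line S P L W Z C A q) [Nonempty ι]
    (htr : ∀ i j, ∃ s ∈ (S : Subgroup G), cj s (Z i) = Z j) {e : G} (he : e ∈ o2 P) (he2 : e ^ 2 = 1)
    (hey : ∀ x ∈ o2 P, e * x * e⁻¹ * x⁻¹ ∈ zc (S : Subgroup G)) : e ∈ zl (S : Subgroup G) P := by
  obtain ⟨i⟩ := ‹Nonempty ι›
  exact h.fix (zc_le_zj _) (h.zc_inf_C htr i) he he2 hey

/-- `V / Ω₁(Z(S)) = C(O₂(P))` in every elementary abelian `E ≤ O₂(P)` (e.g. `E = W`, `E = ⟨V^{C_G(Z)}⟩`). -/
theorem Line.cent_quot (h : Line S P L W Z C A q) [Nonempty ι]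
    (htr : ∀ i j, ∃ s ∈ (S : Subgroup G), cj s (Z i) = Z j) {E : Subgroup G} (hE : E ≤ o2 P)
    (hE2 : ∀ x ∈ E, x ^ 2 = 1) {e : G} (he : e ∈ E)
    (hey : ∀ x ∈ o2 P, e * x * e⁻¹ * x⁻¹ ∈ zc (S : Subgroup G)) : e ∈ zl (S : Subgroup G) P :=
  h.fix_zc htr (hE he) (hE2 e he) hey

end Cfsg.Agent.Omega.OM
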