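import Cfsg.Agent.Omega.OM.Sit
import Cfsg.Agent.Omega.SQ1.Bau

/-!
# NO-3S, several blocks: elementary facts

* `split` : the recurring counting argument in `A(S)`;
* `NBlk.surj` : `[v, A] = Z` for `A ∈ A(B)` not centralising `V` and `v ∈ V - Z`;
* `Sit.comp` etc.: components of the elements of `Z_J` and of `V_P`;
* `Sit.jj_gen` : `J(S) ≤ ⟨A i⟩ (J(S) ∩ C(V_P))`;
* `Sit.zj_split` : `Ω₁Z(J(Q)) = V_P C(A)` for `A ∈ A(S)`.
-/

set_option autoImplicit false

namespace Cfsg.Agent.Omega.OM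

open Subgroup Cfsg Cfsg.Agent.Omega.MinPar Cfsg.Agent.Omega.Frame
open Cfsg.Agent.ZN hiding mem_zc jj_bau bau_le jj_le_bau jj_le mem_zj zj_bau zc_bau
open Cfsg.Agent.ZN.ChoiceBase
open Cfsg.Agent.Omega.LemmaK.Main (Blk)
open Cfsg.Agent.Omega.NO3S (Hyp)
open Cfsg.Agent.PLocal.ElemAbSup Cfsg.Agent.PLocal.ThompsonJ
open Cfsg.Agent.Omega.SQ1.Bau (mem_AA_of_comm zj_le_AA elem_comm elem_sq mem_sup_comm card_sup_comm
  mem_sup_norm)

universe u

variable {G : Type u} [Group G]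

/-! ### General facts -/

theorem le_cent {A B : Subgroup G} (h : ∀ a ∈ A, ∀ b ∈ B, a * b = b * a) : A ≤ centralizer (B : Set G) :=
  fun a ha => mem_centralizer_iff.2 fun b hb => (h a ha b hb).symm

theorem cent_comm {A B : Subgroup G} (h : A ≤ centralizer (B : Set G)) {a b : G} (ha : a ∈ A) (hb : b ∈ B) :
    a * b = b * a := (mem_centralizer_iff.1 (h ha) b hb).symm

theorem comm_conj {a b : G} (h : a * b = b * a) : a * b * a⁻¹ = b := by rw [h]; group

theorem conj_eq_iff {a b : G} : a * b * a⁻¹ = b ↔ a * b = b * a := by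
  constructor
  · intro h; rw [← mul_inv_eq_iff_eq_mul]; exact h
  · exact comm_conj

theorem mem_cj_conj {g x : G} {H : Subgroup G} (h : x ∈ H) : g * x * g⁻¹ ∈ cj g H := by
  rw [mem_cj]
  have : g⁻¹ * (g * x * g⁻¹) * g = x := by group
  rwa [this]

theorem exists_of_mem_cj {g x : G} {H : Subgroup G} (h : x ∈ cj g H) : ∃ y ∈ H, x = g * y * g⁻¹ := by
  rw [mem_cj] at h
  exact ⟨_, h, by group⟩

theorem cj_cent {A B : Subgroup G} (g : G) (h : A ≤ centralizer (B : Set G)) :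
    cj g A ≤ centralizer ((cj g B : Subgroup G) : Set G) := by
  rw [← cj_centralizer]
  exact cj_mono g h

theorem cj_eq_of_mem {g : G} {H : Subgroup G} (hg : g ∈ H) : cj g H = H :=
  cj_eq_of_mem_normalizer (le_normalizer hg)

theorem isElem_cj {g : G} {H : Subgroup G} (h : IsElementaryAbelian 2 H) : IsElementaryAbelian 2 (cj g H) :=
  isElementaryAbelian_map h _

theorem isPGroup_of_elem {E : Subgroup G} (h : IsElementaryAbelian 2 E) : IsPGroup 2 E := by
  intro x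
  exact ⟨1, by rw [pow_one]; exact Subtype.ext (elem_sq h x x.2)⟩

section finite

variable [Finite G]

/-- The members of `A(S)` have the largest order of all elementary abelian 2-subgroups of `G`. -/
theorem card_le_AA {S : Sylow 2 G} {A E : Subgroup G} (hA : A ∈ AA (S : Subgroup G))
    (hE : IsElementaryAbelian 2 E) : Nat.card E ≤ Nat.card A := by
  obtain ⟨S', hS'⟩ := (isPGroup_of_elem hE).exists_le_sylow
  obtain ⟨g, hg⟩ := MulAction.exists_smul_eq G S S'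
  have hg2 : (S' : Subgroup G) = cj g (S : Subgroup G) := by
    rw [← hg, Sylow.coe_subgroup_smul]
    rfl
  have h1 : cj g⁻¹ E ≤ (S : Subgroup G) := by
    rw [cj_le_iff, inv_inv, ← hg2]; exact hS'
  rw [← card_cj g⁻¹ E]
  exact hA.2.2 _ (isElem_cj hE) h1

/-- The recurring counting argument. -/
theorem split {S : Sylow 2 G} {A X W : Subgroup G} (hA : A ∈ AA (S : Subgroup G))
    (hX : IsElementaryAbelian 2 X) (hWX : W ≤ X)
    (hle : Nat.card A * Nat.card ↥(W ⊓ centralizer (A : Set G)) ≤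
      Nat.card ↥(A ⊓ centralizer (X : Set G)) * Nat.card W) :
    ∀ x ∈ X, ∃ w ∈ W, ∃ c ∈ X, (∀ a ∈ A, a * c = c * a) ∧ x = w * c := by
  have hAc := elem_comm hA.1
  have hXc := elem_comm hX
  set C : Subgroup G := A ⊓ centralizer (X : Set G) with hC
  set D : Subgroup G := X ⊓ centralizer (A : Set G) with hD
  have e1 : Nat.card ↥(C ⊔ X) * Nat.card ↥(C ⊓ X) = Nat.card C * Nat.card X :=
    card_sup_comm fun a ha b hb => cent_comm inf_le_right ha hb
  have h1 : Nat.card ↥(C ⊔ X) ≤ Nat.card A := by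
    refine card_le_AA hA (isElementaryAbelian_sup (isElementaryAbelian_mono hA.1 inf_le_left) hX ?_)
    rw [le_centralizer_iff]
    exact inf_le_right
  have h2 : Nat.card ↥(C ⊓ X) ≤ Nat.card D := by
    refine Subgroup.card_le_of_le (le_inf inf_le_right ?_)
    exact fun x hx => mem_centralizer_iff.2 fun a ha => hAc a ha x hx.1.1
  have hDX : D ≤ X := inf_le_left
  have e2 : Nat.card ↥(W ⊔ D) * Nat.card ↥(W ⊓ D) = Nat.card W * Nat.card D :=
    card_sup_comm fun a ha b hb => hXc a (hWX ha) b (hDX hb)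
  have e3 : W ⊓ D = W ⊓ centralizer (A : Set G) := by
    rw [hD, ← inf_assoc, inf_eq_left.2 hWX]
  rw [e3] at e2
  have h3 : Nat.card X ≤ Nat.card ↥(W ⊔ D) := by
    have p1 : 0 < Nat.card ↥(W ⊓ centralizer (A : Set G)) := Nat.card_pos
    have p2 : 0 < Nat.card C := Nat.card_pos
    have h4 : Nat.card C * Nat.card X ≤ Nat.card A * Nat.card D := by
      rw [← e1]; exact Nat.mul_le_mul h1 h2
    have h5 : Nat.card X * (Nat.card C * Nat.card ↥(W ⊓ centralizer (A : Set G))) ≤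
        Nat.card ↥(W ⊔ D) * (Nat.card C * Nat.card ↥(W ⊓ centralizer (A : Set G))) := by
      calc Nat.card X * (Nat.card C * Nat.card ↥(W ⊓ centralizer (A : Set G)))
          = (Nat.card C * Nat.card X) * Nat.card ↥(W ⊓ centralizer (A : Set G)) := by ring
        _ ≤ (Nat.card A * Nat.card D) * Nat.card ↥(W ⊓ centralizer (A : Set G)) :=
            Nat.mul_le_mul_right _ h4
        _ = (Nat.card A * Nat.card ↥(W ⊓ centralizer (A : Set G))) * Nat.card D := by ring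
        _ ≤ (Nat.card C * Nat.card W) * Nat.card D := Nat.mul_le_mul_right _ hle
        _ = Nat.card C * (Nat.card W * Nat.card D) := by ring
        _ = Nat.card ↥(W ⊔ D) * (Nat.card C * Nat.card ↥(W ⊓ centralizer (A : Set G))) := by
            rw [← e2]; ring
    exact Nat.le_of_mul_le_mul_right h5 (Nat.mul_pos p2 p1)
  have h4 : W ⊔ D = X := Subgroup.eq_of_le_of_card_ge (sup_le hWX inf_le_left) h3
  intro x hx
  rw [← h4] at hx
  obtain ⟨w, hw, c, hc, e⟩ := mem_sup_comm (fun a ha b hb => hXc a (hWX ha) b (hDX hb)) hx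
  exact ⟨w, hw, c, hc.1, fun a ha => mem_centralizer_iff.1 hc.2 a ha, e⟩

theorem AA_bau {T A : Subgroup G} : A ∈ AA (bau T) ↔ A ∈ AA T := by
  rw [mem_AA_iff, mem_AA_iff, mm_bau]
  constructor
  · rintro ⟨h1, h2, h3⟩
    exact ⟨h1, h2.trans (ChoiceBase.bau_le T), h3⟩
  · rintro ⟨h1, h2, h3⟩
    exact ⟨h1, (le_jj (mem_AA_iff.2 ⟨h1, h2, h3⟩)).trans (ChoiceBase.jj_le_bau T), h3⟩

omit [Finite G] in
theorem AA_cj {S : Sylow 2 G} {A : Subgroup G} {g : G} (hA : A ∈ AA (S : Subgroup G))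
    (h : cj g A ≤ (S : Subgroup G)) : cj g A ∈ AA (S : Subgroup G) :=
  ⟨isElem_cj hA.1, h, fun B hB hBT => by rw [card_cj]; exact hA.2.2 B hB hBT⟩

end finite

/-! ### Blocks -/

namespace NBlk

variable {B L V Z : Subgroup G} {q : ℕ}

theorem elem (k : NBlk B L V Z q) : IsElementaryAbelian 2 V := isElementaryAbelian_iff.2 ⟨k.Vcomm, k.Vsq⟩

theorem L_le (k : NBlk B L V Z q) : L ≤ normalizer (V : Set G) := fun l hl =>
  k.blk.nor l (le_normalizer hl) (MinSimple.VModule.le_normalizer_zl _ _ hl)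

theorem conj_mem (k : NBlk B L V Z q) {l v : G} (hl : l ∈ L) (hv : v ∈ V) : l * v * l⁻¹ ∈ V :=
  (mem_normalizer_iff.1 (k.L_le hl) v).1 hv

theorem bconj (k : NBlk B L V Z q) {b v : G} (hb : b ∈ B) (hv : v ∈ V) : b * v * b⁻¹ ∈ V :=
  k.conj_mem (k.blk.le hb) hv

theorem ne_bot (k : NBlk B L V Z q) : Z ≠ ⊥ := by
  intro h
  have h1 := k.cardZ
  rw [h, card_bot] at h1
  have := k.one_lt
  omega

theorem exists_ne (k : NBlk B L V Z q) : ∃ z ∈ Z, z ≠ 1 := by
  by_contra hcon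
  push Not at hcon
  exact k.ne_bot (Subgroup.eq_bot_iff_forall _ |>.2 hcon)

/-- An element of `V - Z`. -/
theorem exists_not (k : NBlk B L V Z q) [Finite G] : ∃ v ∈ V, v ∉ Z := by
  by_contra hcon
  push Not at hcon
  have h1 : V = Z := le_antisymm hcon k.ZV
  have h2 := k.cardV
  rw [h1, k.cardZ] at h2
  have := k.one_lt
  nlinarith

/-- `v ↦ [b, v]` is a homomorphism. -/
theorem comm_mul (k : NBlk B L V Z q) {b v w : G} (hb : b ∈ B) (hv : v ∈ V) (hw : w ∈ V) :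
    b * (v * w) * b⁻¹ * (v * w)⁻¹ = (b * v * b⁻¹ * v⁻¹) * (b * w * b⁻¹ * w⁻¹) := by
  have h1 : v⁻¹ * (b * w * b⁻¹ * w⁻¹) = (b * w * b⁻¹ * w⁻¹) * v⁻¹ :=
    k.Vcomm _ (inv_mem hv) _ (mul_mem (k.bconj hb hw) (inv_mem hw))
  have h2 : w⁻¹ * v⁻¹ = v⁻¹ * w⁻¹ := k.Vcomm _ (inv_mem hw) _ (inv_mem hv)
  calc b * (v * w) * b⁻¹ * (v * w)⁻¹ = (b * v * b⁻¹) * (b * w * b⁻¹) * (w⁻¹ * v⁻¹) := by group
    _ = (b * v * b⁻¹) * ((b * w * b⁻¹) * w⁻¹ * v⁻¹) := by group
    _ = (b * v * b⁻¹) * (v⁻¹ * ((b * w * b⁻¹) * w⁻¹)) := by rw [h1]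
    _ = _ := by group

/-- `b ↦ [b, v]` is a homomorphism on `B`. -/
theorem mul_comm' (k : NBlk B L V Z q) {b c v : G} (hb : b ∈ B) (hc : c ∈ B) (hv : v ∈ V) :
    (b * c) * v * (b * c)⁻¹ * v⁻¹ = (c * v * c⁻¹ * v⁻¹) * (b * v * b⁻¹ * v⁻¹) := by
  have h1 := k.Zc _ (k.quad v hv c hc) b hb
  have h2 : b * (c * v * c⁻¹ * v⁻¹) * b⁻¹ = c * v * c⁻¹ * v⁻¹ := comm_conj h1
  calc (b * c) * v * (b * c)⁻¹ * v⁻¹ = (b * (c * v * c⁻¹ * v⁻¹) * b⁻¹) * (b * v * b⁻¹ * v⁻¹) := by group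
    _ = _ := by rw [h2]

/-- `[v, A] = Z`. -/
theorem surj (k : NBlk B L V Z q) [Finite G] {A : Subgroup G} (hA : A ∈ AA B)
    (hn : ¬ A ≤ centralizer (V : Set G)) {v z : G} (hv : v ∈ V) (hvZ : v ∉ Z) (hz : z ∈ Z) :
    ∃ a ∈ A, a * v * a⁻¹ * v⁻¹ = z := by
  classical
  have hAB := hA.2.1
  let f : A →* Z :=
    { toFun := fun a => ⟨(a : G) * v * (a : G)⁻¹ * v⁻¹, k.quad v hv a (hAB a.2)⟩
      map_one' := Subtype.ext (by simp)
      map_mul' := fun a b => Subtype.ext (by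
        have h1 := k.mul_comm' (hAB a.2) (hAB b.2) hv
        have h2 := k.Vcomm _ (k.ZV (k.quad v hv b (hAB b.2))) _ (k.ZV (k.quad v hv a (hAB a.2)))
        show (a * b : G) * v * (a * b : G)⁻¹ * v⁻¹ = _
        rw [h1, h2]
        rfl) }
  have hker : f.ker = (A ⊓ centralizer (V : Set G)).subgroupOf A := by
    ext a
    rw [MonoidHom.mem_ker, mem_subgroupOf]
    constructor
    · intro h
      have h1 : (a : G) * v * (a : G)⁻¹ * v⁻¹ = 1 := congrArg Subtype.val h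
      refine ⟨a.2, ?_⟩
      by_contra hcon
      have h2 : ∃ v ∈ V, (a : G) * v ≠ v * a := by
        by_contra h3
        push Not at h3
        exact hcon (mem_centralizer_iff.2 fun w hw => (h3 w hw).symm)
      refine hvZ (k.cb a (hAB a.2) h2 v hv ?_)
      rw [← conj_eq_iff]
      exact mul_inv_eq_one.1 h1
    · intro h
      have h1 := (mem_centralizer_iff.1 h.2 v hv).symm
      exact Subtype.ext (by
        show (a : G) * v * (a : G)⁻¹ * v⁻¹ = 1
        rw [comm_conj h1, mul_inv_cancel])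
  have h1 : Nat.card f.range * Nat.card f.ker = Nat.card A := by
    rw [← Subgroup.index_mul_card f.ker, Subgroup.index_ker]
  have h2 : Nat.card f.ker = Nat.card ↥(A ⊓ centralizer (V : Set G)) := by
    rw [hker]
    exact Nat.card_congr (Subgroup.subgroupOfEquivOfLe inf_le_left).toEquiv
  have h3 := k.off A hA hn
  rw [h2, h3, mul_comm] at h1
  have h4 : Nat.card f.range = q :=
    Nat.eq_of_mul_eq_mul_left (Nat.card_pos (α := ↥(A ⊓ centralizer (V : Set G)))) h1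
  have h5 : f.range = ⊤ := by
    apply Subgroup.eq_top_of_card_eq
    rw [h4, k.cardZ]
  obtain ⟨a, ha⟩ := MonoidHom.range_eq_top.1 h5 ⟨z, hz⟩
  exact ⟨a, a.2, congrArg Subtype.val ha⟩

/-- `C_V(A) = Z`. -/
theorem inf_cent (k : NBlk B L V Z q) {A : Subgroup G} (hAB : A ≤ B)
    (hn : ¬ A ≤ centralizer (V : Set G)) : V ⊓ centralizer (A : Set G) = Z := by
  apply le_antisymm
  · rintro v ⟨hv, hvc⟩
    obtain ⟨a, ha, hac⟩ := Set.not_subset.1 hn
    refine k.cb a (hAB ha) ?_ v hv (mem_centralizer_iff.1 hvc a ha)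
    by_contra h3
    push Not at h3
    exact hac (mem_centralizer_iff.2 fun w hw => (h3 w hw).symm)
  · exact fun z hz => ⟨k.ZV hz, mem_centralizer_iff.2 fun a ha => k.Zc z hz a (hAB ha)⟩

/-- Conjugation by an element of `N_G(B)`. -/
theorem conj (k : NBlk B L V Z q) {g : G} (hg : g ∈ normalizer (B : Set G)) :
    NBlk B (cj g L) (cj g V) (cj g Z) q := by
  have hB : cj g B = B := cj_eq_of_mem_normalizer hg
  have hgi : g⁻¹ ∈ normalizer (B : Set G) := inv_mem hg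
  have hb : ∀ {b : G}, b ∈ B → g⁻¹ * b * g ∈ B := fun {b} hb => by
    have := (mem_normalizer_iff.1 hgi b).1 hb
    rwa [inv_inv] at this
  have hcen : ∀ A : Subgroup G, centralizer ((cj g A : Subgroup G) : Set G) = cj g (centralizer (A : Set G)) :=
    fun A => (cj_centralizer g A).symm
  have hAAi : ∀ A ∈ AA B, cj g⁻¹ A ∈ AA B := fun A hA =>
    ⟨isElem_cj hA.1, by rw [cj_le_iff, inv_inv, hB]; exact hA.2.1,
      fun E hE hEB => by rw [card_cj]; exact hA.2.2 E hE hEB⟩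
  refine
    { blk := by
        have := k.blk.map g
        rwa [hB] at this
      one_lt := k.one_lt
      VB := by rw [← hB]; exact cj_mono g k.VB
      Vsq := ?_
      Vcomm := ?_
      ZV := cj_mono g k.ZV
      Zc := ?_
      quad := ?_
      cardV := by rw [card_cj]; exact k.cardV
      cardZ := by rw [card_cj]; exact k.cardZ
      cb := ?_
      off := ?_
      nle := ?_
      ti := ?_
      mv := ?_
      irr := ?_ }
  · intro v₀ hv₀
    obtain ⟨w, hw, rfl⟩ := exists_of_mem_cj hv₀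
    rw [conj_pow, k.Vsq w hw]; group
  · intro v₀ hv₀ w₀ hw₀
    obtain ⟨v, hv, rfl⟩ := exists_of_mem_cj hv₀
    obtain ⟨w, hw, rfl⟩ := exists_of_mem_cj hw₀
    have := k.Vcomm v hv w hw
    calc g * v * g⁻¹ * (g * w * g⁻¹) = g * (v * w) * g⁻¹ := by group
      _ = g * (w * v) * g⁻¹ := by rw [this]
      _ = _ := by group
  · intro z₀ hz₀ b hb'
    obtain ⟨z, hz, rfl⟩ := exists_of_mem_cj hz₀
    have := k.Zc z hz _ (hb hb')
    calc b * (g * z * g⁻¹) = g * ((g⁻¹ * b * g) * z) * g⁻¹ := by group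
      _ = g * (z * (g⁻¹ * b * g)) * g⁻¹ := by rw [this]
      _ = _ := by group
  · intro v₀ hv₀ b hb'
    obtain ⟨v, hv, rfl⟩ := exists_of_mem_cj hv₀
    have h1 := mem_cj_conj (g := g) (k.quad v hv _ (hb hb'))
    have e : b * (g * v * g⁻¹) * b⁻¹ * (g * v * g⁻¹)⁻¹ =
      g * (g⁻¹ * b * g * v * (g⁻¹ * b * g)⁻¹ * v⁻¹) * g⁻¹ := by group
    rw [e]; exact h1
  · rintro b hb' ⟨w₀, hw₀, hne⟩ v₀ hv₀ hc
    obtain ⟨w, hw, rfl⟩ := exists_of_mem_cj hw₀
    obtain ⟨v, hv, rfl⟩ := exists_of_mem_cj hv₀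
    refine mem_cj_conj (k.cb _ (hb hb') ⟨w, hw, fun h => hne ?_⟩ v hv ?_)
    · calc b * (g * w * g⁻¹) = g * ((g⁻¹ * b * g) * w) * g⁻¹ := by group
        _ = g * (w * (g⁻¹ * b * g)) * g⁻¹ := by rw [h]
        _ = _ := by group
    · calc g⁻¹ * b * g * v = g⁻¹ * (b * (g * v * g⁻¹)) * g := by group
        _ = g⁻¹ * ((g * v * g⁻¹) * b) * g := by rw [hc]
        _ = _ := by group
  · intro A hA hn
    have h1 := k.off _ (hAAi A hA) (by
      intro h
      apply hn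
      rw [cj_le_iff, inv_inv] at h
      rwa [hcen])
    have e : cj g⁻¹ A ⊓ centralizer (V : Set G) = cj g⁻¹ (A ⊓ centralizer ((cj g V : Subgroup G) : Set G)) := by
      rw [cj_inf, hcen, cj_inv_cj]
    rw [e, card_cj, card_cj] at h1
    exact h1
  · intro h
    apply k.nle
    rw [hcen, ← inv_inv g, ← cj_le_iff] at h
    have : jj B ≤ cj g⁻¹ (jj B) := by
      rw [jj_eq]
      refine sSup_le fun A hA => ?_
      have h2 : cj g A ∈ AA B := ⟨isElem_cj hA.1, by rw [← hB]; exact cj_mono g hA.2.1,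
        fun E hE hEB => by rw [card_cj]; exact hA.2.2 E hE hEB⟩
      have h3 := cj_mono g⁻¹ (le_sSup h2)
      rwa [cj_inv_cj] at h3
    exact this.trans h
  · intro l₀ hl₀ z₀ hz₀ hz1 hlz
    obtain ⟨l, hl, rfl⟩ := exists_of_mem_cj hl₀
    obtain ⟨z, hz, rfl⟩ := exists_of_mem_cj hz₀
    rw [← cj_normalizer]
    refine mem_cj_conj (k.ti l hl z hz (fun h => hz1 (by rw [h]; group)) ?_)
    rw [mem_cj] at hlz
    have e : g⁻¹ * (g * l * g⁻¹ * (g * z * g⁻¹) * (g * l * g⁻¹)⁻¹) * g = l * z * l⁻¹ := by group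
    rwa [e] at hlz
  · obtain ⟨l, hl, hln⟩ := k.mv
    refine ⟨g * l * g⁻¹, mem_cj_conj hl, fun h => hln ?_⟩
    rw [← cj_normalizer, mem_cj] at h
    have e : g⁻¹ * (g * l * g⁻¹) * g = l := by group
    rwa [e] at h
  · intro X hX hXn
    have h1 := k.irr (cj g⁻¹ X) (by rw [cj_le_iff, inv_inv]; exact hX) (fun l hl hlB => by
      have h2 := hXn (g * l * g⁻¹) (mem_cj_conj hl) (mul_mem (mul_mem hg hlB) hgi)
      rw [← cj_normalizer, mem_cj, inv_inv]
      exact h2)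
    rcases h1 with h1 | h1
    · left
      have := congrArg (cj g) h1
      rw [cj_cj_inv] at this
      rw [this]; exact Subgroup.map_bot _
    · right
      rw [← h1, cj_cj_inv]

end NBlk

/-! ### The situation -/

namespace Sit

variable [Finite G] {S : Sylow 2 G} {P : Subgroup G} {ι : Type} {L V Z A : ι → Subgroup G} {q : ℕ}
variable (h : Sit S P L V Z A q)
include h

theorem cV : (S : Subgroup G) ⊓ centralizer (zl (S : Subgroup G) P : Set G) = o2 P := h.hyp.inf_centralizer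

theorem VQ : zl (S : Subgroup G) P ≤ o2 P := fun v hv => (mem_zc.1 (h.hyp.zl_le hv)).1

theorem VS : zl (S : Subgroup G) P ≤ (S : Subgroup G) := h.VQ.trans (h.cV ▸ inf_le_left)

theorem Vle (i : ι) : V i ≤ zl (S : Subgroup G) P := h.sup ▸ le_iSup V i

theorem Velem : IsElementaryAbelian 2 (zl (S : Subgroup G) P) :=
  isElementaryAbelian_iff.2 ⟨fun v hv w hw => (mem_zc.1 (h.hyp.zl_le hw)).2.2 v (h.VQ hv),
    fun v hv => (mem_zc.1 (h.hyp.zl_le hv)).2.1⟩

theorem Q_cent {x v : G} (hx : x ∈ o2 P) (hv : v ∈ zl (S : Subgroup G) P) : x * v = v * x :=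
  (mem_zc.1 (h.hyp.zl_le hv)).2.2 x hx

theorem QS : o2 P ≤ (S : Subgroup G) := h.cV ▸ inf_le_left

theorem mem_Q {x : G} (hx : x ∈ (S : Subgroup G)) (hc : ∀ i, x ∈ centralizer (V i : Set G)) : x ∈ o2 P := by
  rw [← h.cV]
  refine ⟨hx, ?_⟩
  have h1 : (⨆ i, V i) ≤ centralizer ((zpowers x : Subgroup G) : Set G) :=
    iSup_le fun i => le_centralizer_iff.1 (by rw [zpowers_le]; exact hc i)
  rw [← h.sup] at h1
  exact le_centralizer_iff.1 h1 (mem_zpowers x)

theorem Zle (i : ι) : Z i ≤ zj (S : Subgroup G) := h.zj_eq ▸ le_iSup Z i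

theorem zj_cent {z b : G} (hz : z ∈ zj (S : Subgroup G)) (hb : b ∈ bau (S : Subgroup G)) : b * z = z * b :=
  ((mem_bau.1 hb).2 z hz).symm

theorem zj_le : zj (S : Subgroup G) ≤ zl (S : Subgroup G) P := by
  rw [h.zj_eq]
  exact iSup_le fun i => (h.blk i).ZV.trans (h.Vle i)

/-- The product of the other `V j`. -/
theorem inf_other (i : ι) : V i ⊓ (⨆ (j) (_ : j ≠ i), V j) = ⊥ := (h.indep i).eq_bot

/-- The components of an element of `Z_J`. -/
theorem zj_comp (i : ι) {z : G} (hz : z ∈ zj (S : Subgroup G)) :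
    ∃ a ∈ Z i, ∃ r ∈ (⨆ (j) (_ : j ≠ i), Z j), z = a * r := by
  classical
  have h1 : zj (S : Subgroup G) ≤ Z i ⊔ ⨆ (j) (_ : j ≠ i), Z j := by
    rw [h.zj_eq]
    refine iSup_le fun j => ?_
    by_cases hj : j = i
    · subst hj; exact le_sup_left
    · exact le_trans (le_iSup₂ (f := fun (k : ι) (_ : k ≠ i) => Z k) j hj) le_sup_right
  have hle : (⨆ (j) (_ : j ≠ i), Z j) ≤ zl (S : Subgroup G) P :=
    iSup₂_le fun j _ => (h.blk j).ZV.trans (h.Vle j)
  exact mem_sup_comm (fun a ha b hb => elem_comm h.Velem a (h.Vle i ((h.blk i).ZV ha)) b (hle hb)) (h1 hz)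

theorem V_comp (i : ι) {v : G} (hv : v ∈ zl (S : Subgroup G) P) :
    ∃ a ∈ V i, ∃ r ∈ (⨆ (j) (_ : j ≠ i), V j), v = a * r := by
  classical
  have h1 : zl (S : Subgroup G) P ≤ V i ⊔ ⨆ (j) (_ : j ≠ i), V j := by
    rw [h.sup]
    refine iSup_le fun j => ?_
    by_cases hj : j = i
    · subst hj; exact le_sup_left
    · exact le_trans (le_iSup₂ (f := fun (k : ι) (_ : k ≠ i) => V k) j hj) le_sup_right
  have hle : (⨆ (j) (_ : j ≠ i), V j) ≤ zl (S : Subgroup G) P := iSup₂_le fun j _ => h.Vle j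
  exact mem_sup_comm (fun a ha b hb => elem_comm h.Velem a (h.Vle i ha) b (hle hb)) (h1 hv)

theorem other_le (i : ι) : (⨆ (j) (_ : j ≠ i), Z j) ≤ ⨆ (j) (_ : j ≠ i), V j :=
  iSup₂_mono fun j _ => (h.blk j).ZV

/-- `L i` centralises the other `V j`. -/
theorem L_cent (i : ι) : L i ≤ centralizer ((⨆ (j) (_ : j ≠ i), V j : Subgroup G) : Set G) := by
  rw [le_centralizer_iff]
  exact iSup₂_le fun j hj => le_centralizer_iff.1 (h.LV j i hj)

theorem A_cent (i : ι) : A i ≤ centralizer ((⨆ (j) (_ : j ≠ i), V j : Subgroup G) : Set G) := by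
  rw [le_centralizer_iff]
  exact iSup₂_le fun j hj => le_centralizer_iff.1 (h.Ac i j hj.symm)

/-- `V i ∩ Z_J = Z i`. -/
theorem V_inf_zj (i : ι) : V i ⊓ zj (S : Subgroup G) = Z i := by
  apply le_antisymm
  · rintro v ⟨hv, hz⟩
    obtain ⟨a, ha, r, hr, rfl⟩ := h.zj_comp i hz
    have h1 : r ∈ V i ⊓ (⨆ (j) (_ : j ≠ i), V j) := by
      refine ⟨?_, h.other_le i hr⟩
      have := mul_mem (inv_mem ((h.blk i).ZV ha)) hv
      rwa [inv_mul_cancel_left] at this
    rw [h.inf_other i, mem_bot] at h1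
    rw [h1, mul_one]
    exact ha
  · exact le_inf (h.blk i).ZV (h.Zle i)

theorem AB (i : ι) : A i ∈ AA (bau (S : Subgroup G)) := AA_bau.2 (h.AS i)

theorem A_le (i : ι) : A i ≤ bau (S : Subgroup G) := (h.AB i).2.1

theorem An (i : ι) : ¬ A i ≤ centralizer (V i : Set G) := by
  intro hle
  apply (h.blk i).nle
  rw [jj_bau]
  intro b hb
  obtain ⟨a, ha, hab⟩ := h.full i b (jj_le_bau _ hb)
  rw [mem_centralizer_iff]
  intro v hv
  have h1 := hab v hv
  rw [comm_conj (mem_centralizer_iff.1 (hle ha) v hv).symm] at h1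
  exact (conj_eq_iff.1 h1.symm).symm

theorem A_inf (i : ι) : A i ⊓ centralizer (V i : Set G) = A i ⊓ centralizer (zl (S : Subgroup G) P : Set G) := by
  apply le_antisymm
  · rintro a ⟨ha, hc⟩
    have h1 : a ∈ o2 P := h.mem_Q ((h.AS i).2.1 ha) fun j => by
      by_cases hj : i = j
      · subst hj; exact hc
      · exact h.Ac i j hj ha
    rw [← h.cV] at h1
    exact ⟨ha, h1.2⟩
  · exact le_inf inf_le_left (inf_le_right.trans (centralizer_le (h.Vle i)))

/-- `J(S)` is generated by the `A i` and `J(S) ∩ Q`. -/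
theorem jj_gen [Finite ι] : jj (S : Subgroup G) ≤ (⨆ i, A i) ⊔ (jj (S : Subgroup G) ⊓ o2 P) := by
  classical
  have := Fintype.ofFinite ι
  have hAJ : (⨆ i, A i) ≤ jj (S : Subgroup G) := iSup_le fun i => le_jj (h.AS i)
  have key : ∀ (s : Finset ι), ∀ b ∈ jj (S : Subgroup G), ∃ m ∈ (⨆ i, A i),
      (∀ k ∈ s, ∀ v ∈ V k, m * v * m⁻¹ = b * v * b⁻¹) ∧ ∀ k, k ∉ s → m ∈ centralizer (V k : Set G) := by
    intro s
    induction s using Finset.induction_on with
    | empty => exact fun b _ => ⟨1, one_mem _, by simp, fun k _ => one_mem _⟩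
    | insert i s hi ih =>
      intro b hb
      obtain ⟨m, hm, h1, h2⟩ := ih b hb
      obtain ⟨a, ha, hab⟩ := h.full i b (jj_le_bau _ hb)
      refine ⟨m * a, mul_mem hm (mem_iSup_of_mem i ha), fun k hk v hv => ?_, fun k hk => ?_⟩
      · rcases Finset.mem_insert.1 hk with rfl | hk
        · have h3 := hab v hv
          have h4 : b * v * b⁻¹ ∈ V k := (h.blk k).bconj (jj_le_bau _ hb) hv
          calc m * a * v * (m * a)⁻¹ = m * (a * v * a⁻¹) * m⁻¹ := by group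
            _ = m * (b * v * b⁻¹) * m⁻¹ := by rw [h3]
            _ = b * v * b⁻¹ := comm_conj (mem_centralizer_iff.1 (h2 k hi) _ h4).symm
        · have hik : i ≠ k := fun h0 => hi (h0 ▸ hk)
          have h3 := comm_conj (mem_centralizer_iff.1 (h.Ac i k hik ha) v hv).symm
          calc m * a * v * (m * a)⁻¹ = m * (a * v * a⁻¹) * m⁻¹ := by group
            _ = b * v * b⁻¹ := by rw [h3, h1 k hk v hv]
      · rw [Finset.mem_insert, not_or] at hk
        exact mul_mem (h2 k hk.2) (h.Ac i k (Ne.symm hk.1) ha)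
  intro b hb
  obtain ⟨m, hm, h1, -⟩ := key Finset.univ b hb
  have h3 : m⁻¹ * b ∈ jj (S : Subgroup G) ⊓ o2 P := by
    have hJ : m⁻¹ * b ∈ jj (S : Subgroup G) := mul_mem (inv_mem (hAJ hm)) hb
    refine mem_inf.2 ⟨hJ, h.mem_Q (ChoiceBase.jj_le _ hJ) fun i => ?_⟩
    rw [mem_centralizer_iff]
    intro v hv
    have h4 := h1 i (Finset.mem_univ i) v hv
    have h5 : m⁻¹ * b * v * (m⁻¹ * b)⁻¹ = v := by
      calc m⁻¹ * b * v * (m⁻¹ * b)⁻¹ = m⁻¹ * (b * v * b⁻¹) * m := by group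
        _ = v := by rw [← h4]; group
    exact (conj_eq_iff.1 h5).symm
  have h4 : b = m * (m⁻¹ * b) := by group
  rw [h4]
  exact mul_mem (mem_sup_left hm) (mem_sup_right h3)

/-- `(A ∩ C(V)) V` is a member of `A(S)` for `A ∈ A(S)`. -/
theorem replace {E : Subgroup G} (hE : E ∈ AA (S : Subgroup G)) :
    (E ⊓ centralizer (zl (S : Subgroup G) P : Set G)) ⊔ zl (S : Subgroup G) P ∈ AA (S : Subgroup G) := by
  set C : Subgroup G := E ⊓ centralizer (zl (S : Subgroup G) P : Set G) with hC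
  have h1 : IsElementaryAbelian 2 (C ⊔ zl (S : Subgroup G) P : Subgroup G) := by
    refine isElementaryAbelian_sup (isElementaryAbelian_mono hE.1 inf_le_left) h.Velem ?_
    rw [le_centralizer_iff]
    exact inf_le_right
  refine ⟨h1, sup_le (inf_le_left.trans hE.2.1) h.VS, fun B hB hBS => (hE.2.2 B hB hBS).trans ?_⟩
  have e1 : Nat.card ↥(C ⊔ zl (S : Subgroup G) P) * Nat.card ↥(C ⊓ zl (S : Subgroup G) P) =
      Nat.card C * Nat.card (zl (S : Subgroup G) P) :=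
    card_sup_comm fun a ha b hb => cent_comm inf_le_right ha hb
  have h2 : Nat.card ↥(C ⊓ zl (S : Subgroup G) P) ≤
      Nat.card ↥(zl (S : Subgroup G) P ⊓ centralizer (E : Set G)) := by
    refine Subgroup.card_le_of_le (le_inf inf_le_right ?_)
    exact fun x hx => mem_centralizer_iff.2 fun a ha => elem_comm hE.1 a ha x hx.1.1
  have h3 := h.off E hE
  have p1 : 0 < Nat.card ↥(zl (S : Subgroup G) P ⊓ centralizer (E : Set G)) := Nat.card_pos
  have h4 : Nat.card E * Nat.card ↥(zl (S : Subgroup G) P ⊓ centralizer (E : Set G)) ≤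
      Nat.card ↥(C ⊔ zl (S : Subgroup G) P) * Nat.card ↥(zl (S : Subgroup G) P ⊓ centralizer (E : Set G)) := by
    rw [h3, ← e1]
    exact Nat.mul_le_mul_left _ h2
  exact Nat.le_of_mul_le_mul_right h4 p1

theorem replace_le {E : Subgroup G} (hE : E ∈ AA (S : Subgroup G)) :
    (E ⊓ centralizer (zl (S : Subgroup G) P : Set G)) ⊔ zl (S : Subgroup G) P ≤ o2 P :=
  sup_le (fun x hx => by rw [← h.cV]; exact ⟨hE.2.1 hx.1, hx.2⟩) h.VQ

theorem AA_Q {E : Subgroup G} (hE : E ∈ AA (S : Subgroup G)) (hEQ : E ≤ o2 P) : E ∈ AA (o2 P) :=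
  ⟨hE.1, hEQ, fun B hB hBQ => hE.2.2 B hB (hBQ.trans h.QS)⟩

theorem AA_of_Q {E : Subgroup G} (hE : E ∈ AA (o2 P)) : E ∈ AA (S : Subgroup G) := by
  obtain ⟨F, hF⟩ := AA_nonempty (S : Subgroup G)
  have h1 := h.replace hF
  refine ⟨hE.1, hE.2.1.trans h.QS, fun B hB hBS => ?_⟩
  exact (h1.2.2 B hB hBS).trans (hE.2.2 _ h1.1 (h.replace_le hF))

/-- `Ω₁Z(J(Q)) = V C(E)` for `E ∈ A(S)`. -/
theorem zj_split {E : Subgroup G} (hE : E ∈ AA (S : Subgroup G)) {y : G} (hy : y ∈ zj (o2 P)) :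
    ∃ v ∈ zl (S : Subgroup G) P, ∃ c ∈ zj (o2 P), (∀ e ∈ E, e * c = c * e) ∧ y = v * c := by
  have hYe : IsElementaryAbelian 2 (zj (o2 P)) :=
    isElementaryAbelian_iff.2 ⟨fun a ha b hb => (mem_zj.1 hb).2.2 a (mem_zj.1 ha).1, fun a ha => (mem_zj.1 ha).2.1⟩
  have h1 := h.AA_Q (h.replace hE) (h.replace_le hE)
  have hVY : zl (S : Subgroup G) P ≤ zj (o2 P) := by
    intro v hv
    have hc : ∀ y ∈ jj (o2 P), y * v = v * y := fun y hy => h.Q_cent (ChoiceBase.jj_le _ hy) hv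
    rw [mem_zj]
    exact ⟨mem_jj_of_comm (h.VQ hv) (elem_sq h.Velem v hv) hc, elem_sq h.Velem v hv, hc⟩
  have hle : E ⊓ centralizer (zl (S : Subgroup G) P : Set G) ≤ E ⊓ centralizer (zj (o2 P) : Set G) := by
    rintro e he
    refine ⟨he.1, mem_centralizer_iff.2 fun y hy => ?_⟩
    exact ((mem_zj.1 hy).2.2 e (le_jj h1 (mem_sup_left he))).symm
  refine split hE hYe hVY ?_ y hy
  rw [h.off E hE]
  exact Nat.mul_le_mul_right _ (Subgroup.card_le_of_le hle)

end Sit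

end Cfsg.Agent.Omega.OM
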