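import Cfsg.Agent.Omega.OM.Base

/-!
# NO-3S, several blocks: uniqueness of the blocks over `B` (609 #14539 (3), repaired)

`Sit S P L V Z A q`; `L'` is a natural block over `B = bau S` with module `V'`, `Z' = [V', B]`, all conjugates of
`V'` under `L i` commute with `V'` and with `V_P`, and `Z'` has a nontrivial component in `Z i`.  Then `q' = q`,
`Z' = Z i` and `V' ≤ V i Z_J`.
-/

set_option autoImplicit false

namespace Cfsg.Agent.Omega.OM

open Subgroup Cfsg Cfsg.Agent.Omega.MinPar Cfsg.Agent.Omega.Frame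
open Cfsg.Agent.ZN hiding mem_zc jj_bau bau_le jj_le_bau jj_le mem_zj zj_bau zc_bau
open Cfsg.Agent.ZN.ChoiceBase
open Cfsg.Agent.Omega.LemmaK.Main (Blk)
open Cfsg.Agent.Omega.NO3S (Hyp)
open Cfsg.Agent.PLocal.ElemAbSup Cfsg.Agent.PLocal.ThompsonJ
open Cfsg.Agent.Omega.SQ1.Bau (mem_AA_of_comm zj_le_AA elem_comm elem_sq mem_sup_comm card_sup_comm
  mem_sup_norm)

open scoped commutatorElement

universe u

variable {G : Type u} [Group G] [Finite G] {S : Sylow 2 G} {P : Subgroup G} {ι : Type}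
  {L V Z A : ι → Subgroup G} {q : ℕ}

/-- `C_{V_P}(⟨J^P⟩) = 1`, in the form: a subgroup `R ≤ Z_J` normalised by all `P`-conjugates of `J(S)` is
trivial. -/
theorem Sit.eq_bot_of_norm (h : Sit S P L V Z A q) [Nonempty ι] {R : Subgroup G}
    (hR : R ≤ zj (S : Subgroup G))
    (hn : ∀ g ∈ P, cj g (jj (S : Subgroup G)) ≤ normalizer (R : Set G)) : R = ⊥ := by
  set E : Subgroup G := ⨆ g : P, cj (g : G) (jj (S : Subgroup G)) with hE
  have hSP : (S : Subgroup G) ≤ P := h.hyp.star.isLoc.le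
  have hEP : E ≤ P := iSup_le fun g => by
    rintro _ ⟨x, hx, rfl⟩
    exact P.mul_mem (P.mul_mem g.2 (hSP (jj_le _ hx))) (P.inv_mem g.2)
  have hEn : P ≤ normalizer (E : Set G) := by
    intro p hp
    rw [mem_normalizer_iff_cj, hE]
    have e : cj p (⨆ g : P, cj (g : G) (jj (S : Subgroup G))) =
        ⨆ g : P, cj p (cj (g : G) (jj (S : Subgroup G))) := Subgroup.map_iSup _ _
    rw [e]
    apply le_antisymm
    · refine iSup_le fun g => ?_
      rw [cj_cj]
      exact le_iSup (fun g : P => cj (g : G) (jj (S : Subgroup G))) ⟨p * g, P.mul_mem hp g.2⟩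
    · refine iSup_le fun g => ?_
      refine le_trans ?_ (le_iSup (fun g : P => cj p (cj (g : G) (jj (S : Subgroup G))))
        ⟨p⁻¹ * g, P.mul_mem (P.inv_mem hp) g.2⟩)
      rw [cj_cj, mul_inv_cancel_left]
  have hJE : jj (S : Subgroup G) ≤ E := by
    have := le_iSup (fun g : P => cj (g : G) (jj (S : Subgroup G))) ⟨1, P.one_mem⟩
    rwa [cj_one] at this
  have hsup : E ⊔ (S : Subgroup G) = P := by
    rcases h.hyp.star.toIsPar.sup_eq_or_inf_le S hEP hEn with h1 | h1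
    · exact h1
    · exfalso
      obtain ⟨i⟩ := ‹Nonempty ι›
      apply (h.blk i).nle
      rw [jj_bau]
      intro x hx
      have h2 : x ∈ o2 P := h1 ⟨jj_le _ hx, hJE hx⟩
      exact mem_centralizer_iff.2 fun v hv => (h.Q_cent h2 (h.Vle i hv)).symm
  -- the conjugates of `J` are conjugates under `E`
  have hEJ : ∀ g ∈ P, ∃ e ∈ E, cj g (jj (S : Subgroup G)) = cj e (jj (S : Subgroup G)) := by
    intro g hg
    rw [← hsup] at hg
    have h2 : (S : Subgroup G) ≤ normalizer (E : Set G) := hSP.trans hEn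
    rw [sup_comm] at hg
    obtain ⟨s, hs, e, he, rfl⟩ := mem_sup_norm h2 hg
    refine ⟨s * e * s⁻¹, (mem_normalizer_iff.1 (h2 hs) e).1 he, ?_⟩
    have h3 : s ∈ normalizer (jj (S : Subgroup G) : Set G) :=
      normalizer_le_jj _ (le_normalizer hs)
    have e1 : cj (s * e * s⁻¹) (jj (S : Subgroup G)) = cj (s * e) (cj s⁻¹ (jj (S : Subgroup G))) := by
      rw [cj_cj]
    rw [e1, cj_eq_of_mem_normalizer (inv_mem h3)]
  have hEnR : E ≤ normalizer (R : Set G) := iSup_le fun g => hn g g.2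
  -- `R` is centralised by all conjugates of `J`
  have hRJ : R ≤ centralizer (jj (S : Subgroup G) : Set G) := fun r hr =>
    mem_centralizer_iff.2 fun j hj => (mem_zj.1 (hR hr)).2.2 j hj
  have hRE : R ≤ centralizer (E : Set G) := by
    rw [le_centralizer_iff]
    refine iSup_le fun g => ?_
    obtain ⟨e, he, h1⟩ := hEJ g g.2
    rw [h1, ← cj_eq_of_mem_normalizer (hEnR he)]
    exact cj_cent e (le_centralizer_iff.1 hRJ)
  -- `C_{V}(E)` is trivial
  set D : Subgroup G := zl (S : Subgroup G) P ⊓ centralizer (E : Set G) with hD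
  have hRD : R ≤ D := le_inf (hR.trans h.zj_le) hRE
  suffices hD0 : D = ⊥ from le_bot_iff.1 (hD0 ▸ hRD)
  have hPD : P ≤ normalizer (D : Set G) := by
    intro p hp
    rw [mem_normalizer_iff_cj, hD, cj_inf, cj_centralizer,
      cj_eq_of_mem_normalizer (MinSimple.VModule.le_normalizer_zl _ _ hp),
      cj_eq_of_mem_normalizer (hEn hp)]
  by_contra hD0
  have hDS : D ≤ (S : Subgroup G) := inf_le_left.trans h.VS
  -- a nontrivial element of `D` centralised by `S`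
  obtain ⟨d, hd, hd1, hdS⟩ := NoFF.LinesPlug.exists_fixed S.isPGroup' hDS (hSP.trans hPD) hD0
  have h1 : d ∈ zc (S : Subgroup G) ⊓ centralizer (P : Set G) := by
    have h2 : E ⊔ (S : Subgroup G) ≤ centralizer ((zpowers d : Subgroup G) : Set G) := by
      refine sup_le ?_ ?_
      · rw [le_centralizer_iff, zpowers_le]
        exact hd.2
      · rw [le_centralizer_iff, zpowers_le, mem_centralizer_iff]
        exact hdS
    rw [hsup] at h2
    exact mem_inf.2 ⟨mem_zc.2 ⟨hDS hd, elem_sq h.Velem d hd.1, hdS⟩,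
      mem_centralizer_iff.2 fun x hx => (mem_centralizer_iff.1 (h2 hx) d (mem_zpowers d)).symm⟩
  rw [h.hyp.inf_eq_bot, mem_bot] at h1
  exact hd1 h1

/-! ### The other block -/

/-- The other block. -/
structure Oth (S : Sylow 2 G) (P : Subgroup G) {ι : Type} (L Z : ι → Subgroup G) (i : ι)
    (L' V' Z' : Subgroup G) (q' : ℕ) : Prop where
  blk : NBlk (bau (S : Subgroup G)) L' V' Z' q'
  comm : V' ≤ centralizer (zl (S : Subgroup G) P : Set G)
  conj : ∀ x ∈ L i, V' ≤ centralizer ((cj x V' : Subgroup G) : Set G)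
  comp : ¬ Z' ≤ ⨆ (j) (_ : j ≠ i), Z j

namespace Oth

variable {i : ι} {L' V' Z' : Subgroup G} {q' : ℕ}
variable (k : Oth S P L Z i L' V' Z' q') (h : Sit S P L V Z A q)
include k

theorem Z'_le : Z' ≤ zj (S : Subgroup G) := by
  intro z hz
  rw [← zc_bau, mem_zc]
  exact ⟨k.blk.VB (k.blk.ZV hz), k.blk.Vsq z (k.blk.ZV hz), fun b hb => k.blk.Zc z hz b hb⟩

include h

/-- (#) `A i` does not normalise the conjugates of `Z'` under `L i - N(Z i)`. -/
theorem not_norm {l : G} (hl : l ∈ L i) (hln : l ∉ normalizer (Z i : Set G)) :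
    ¬ A i ≤ normalizer ((cj l Z' : Subgroup G) : Set G) := by
  intro hA
  obtain ⟨z', hz', hz'n⟩ := Set.not_subset.1 k.comp
  obtain ⟨a0, ha0, r, hr, rfl⟩ := h.zj_comp i (k.Z'_le hz')
  have ha1 : a0 ≠ 1 := by
    rintro rfl
    rw [one_mul] at hz'n
    exact hz'n hr
  have hlr : l * r * l⁻¹ = r := comm_conj (cent_comm (h.L_cent i) hl (h.other_le i hr))
  have hw : l * a0 * l⁻¹ ∈ V i := (h.blk i).conj_mem hl ((h.blk i).ZV ha0)
  have hrz : r ∈ zj (S : Subgroup G) := by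
    rw [h.zj_eq]
    exact (iSup₂_le fun j _ => le_iSup Z j) hr
  have hkey : ∀ a ∈ A i, a * (l * a0 * l⁻¹) = (l * a0 * l⁻¹) * a := by
    intro a ha
    have haB := h.A_le i ha
    have h1 : a * (l * a0 * l⁻¹) * a⁻¹ * (l * a0 * l⁻¹)⁻¹ ∈ Z i := (h.blk i).quad _ hw a haB
    have har : a * r * a⁻¹ = r := comm_conj (h.zj_cent hrz haB)
    have h2 : a * (l * (a0 * r) * l⁻¹) * a⁻¹ ∈ cj l Z' :=
      (mem_normalizer_iff.1 (hA ha) _).1 (mem_cj_conj hz')
    have h3 := mul_mem h2 (inv_mem (mem_cj_conj (g := l) hz'))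
    have e : a * (l * (a0 * r) * l⁻¹) * a⁻¹ * (l * (a0 * r) * l⁻¹)⁻¹ =
        a * (l * a0 * l⁻¹) * a⁻¹ * (l * a0 * l⁻¹)⁻¹ := by
      have e1 : l * (a0 * r) * l⁻¹ = (l * a0 * l⁻¹) * (l * r * l⁻¹) := by group
      rw [e1, hlr]
      calc a * (l * a0 * l⁻¹ * r) * a⁻¹ * (l * a0 * l⁻¹ * r)⁻¹ =
          a * (l * a0 * l⁻¹) * a⁻¹ * (a * r * a⁻¹) * r⁻¹ * (l * a0 * l⁻¹)⁻¹ := by group
        _ = _ := by rw [har]; group
    rw [e] at h3
    by_cases hy : a * (l * a0 * l⁻¹) * a⁻¹ * (l * a0 * l⁻¹)⁻¹ = 1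
    · rw [← conj_eq_iff]
      exact mul_inv_eq_one.1 hy
    · exfalso
      rw [mem_cj] at h3
      have h4 := (h.blk i).conj_mem (inv_mem hl) ((h.blk i).ZV h1)
      rw [inv_inv] at h4
      have h5 : l⁻¹ * (a * (l * a0 * l⁻¹) * a⁻¹ * (l * a0 * l⁻¹)⁻¹) * l ∈ Z i := by
        rw [← h.V_inf_zj i]
        exact ⟨h4, k.Z'_le h3⟩
      have h6 := (h.blk i).ti l⁻¹ (inv_mem hl) _ h1 hy (by rwa [inv_inv])
      exact hln (by simpa using inv_mem h6)
  have h7 : l * a0 * l⁻¹ ∈ V i ⊓ centralizer (A i : Set G) :=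
    ⟨hw, mem_centralizer_iff.2 fun a ha => hkey a ha⟩
  rw [(h.blk i).inf_cent (h.A_le i) (h.An i)] at h7
  exact hln ((h.blk i).ti l hl a0 ha0 ha1 h7)

omit k in
theorem L_norm {x : G} (hx : x ∈ L i) : cj x (zl (S : Subgroup G) P) = zl (S : Subgroup G) P :=
  cj_eq_of_mem_normalizer (MinSimple.VModule.le_normalizer_zl _ _ (h.LP i hx))

theorem cj_comm {x : G} (hx : x ∈ L i) : cj x V' ≤ centralizer (zl (S : Subgroup G) P : Set G) := by
  rw [← L_norm h hx]
  exact cj_cent x k.comm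

omit h [Finite G] in
theorem cj_cj_comm {x y : G} (hx : x ∈ L i) (hy : y ∈ L i) :
    cj x V' ≤ centralizer ((cj y V' : Subgroup G) : Set G) := by
  have h1 := cj_cent x (k.conj (x⁻¹ * y) (mul_mem (inv_mem hx) hy))
  rwa [cj_cj, mul_inv_cancel_left] at h1

theorem elem : IsElementaryAbelian 2 ((⨆ x : L i, cj (x : G) V') ⊔ zl (S : Subgroup G) P : Subgroup G) := by
  have h1 : (⨆ x : L i, cj (x : G) V') ≤
      centralizer ((⨆ x : L i, cj (x : G) V' : Subgroup G) : Set G) := by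
    refine iSup_le fun x => ?_
    rw [le_centralizer_iff]
    exact iSup_le fun y => k.cj_cj_comm y.2 x.2
  have h2 : ∀ w ∈ (⨆ x : L i, cj (x : G) V'), w ^ 2 = 1 :=
    NoFF.Lines.Geo.sq_of_comm h1 (B := fun x : L i => cj (x : G) V')
      (fun x => le_iSup (fun x : L i => cj (x : G) V') x) le_rfl fun x w hw => by
        obtain ⟨v, hv, rfl⟩ := exists_of_mem_cj hw
        rw [conj_pow, k.blk.Vsq v hv]; group
  refine isElementaryAbelian_sup (isElementaryAbelian_iff.2 ⟨fun a ha b hb => ?_, h2⟩) h.Velem ?_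
  · exact cent_comm h1 ha hb
  · rw [le_centralizer_iff]
    exact iSup_le fun x => k.cj_comm h x.2

omit h k [Finite G] in
theorem le_big {x : G} (hx : x ∈ L i) :
    cj x V' ≤ (⨆ x : L i, cj (x : G) V') ⊔ zl (S : Subgroup G) P :=
  (le_iSup (fun x : L i => cj (x : G) V') ⟨x, hx⟩).trans le_sup_left

/-- Case 1 is impossible: `J(Q)` centralises `V'`. -/
theorem jj_cent : jj (o2 P) ≤ centralizer (V' : Set G) := by
  by_contra hcon
  have : Nonempty ι := ⟨i⟩
  have hPQ : P ≤ normalizer (o2 P : Set G) := le_normalizer_o2 P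
  have hPJ : P ≤ normalizer (jj (o2 P) : Set G) := hPQ.trans (normalizer_le_jj _)
  have hQB := h.core
  have hBL : bau (S : Subgroup G) ≤ L i := (h.blk i).blk.le
  obtain ⟨F, hF, hFn⟩ : ∃ F ∈ AA (o2 P), ¬ F ≤ centralizer (V' : Set G) := by
    by_contra h1
    push Not at h1
    apply hcon
    rw [jj_eq]
    exact sSup_le h1
  have hFB : F ∈ AA (bau (S : Subgroup G)) := AA_bau.2 (h.AA_of_Q hF)
  obtain ⟨l, hl, hln⟩ := (h.blk i).mv
  set E0 : Subgroup G := A i ⊓ centralizer (zl (S : Subgroup G) P : Set G) with hE0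
  have hE := h.replace (h.AS i)
  have hEQ := h.replace_le (h.AS i)
  rw [← hE0] at hE hEQ
  have hAc := elem_comm (h.AS i).1
  have hcjE0 : ∀ a ∈ A i, cj a E0 = E0 := by
    intro a ha
    apply cj_eq_of_mem_normalizer
    apply centralizer_le_normalizer
    rw [mem_centralizer_iff]
    exact fun e he => hAc e he.1 a ha
  apply k.not_norm h hl hln
  by_cases hE0W : E0 ≤ centralizer ((cj l V' : Subgroup G) : Set G)
  · -- (a)
    set X : Subgroup G := (⨆ a : A i, cj ((a : G) * l) V') ⊔ zl (S : Subgroup G) P with hX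
    have hal : ∀ a ∈ A i, a * l ∈ L i := fun a ha => mul_mem (hBL (h.A_le i ha)) hl
    have hXe : IsElementaryAbelian 2 X := by
      refine isElementaryAbelian_mono (k.elem h) (sup_le (iSup_le fun a => ?_) le_sup_right)
      exact le_big (S := S) (P := P) (hal a a.2)
    have hE0X : E0 ≤ centralizer (X : Set G) := by
      rw [le_centralizer_iff]
      refine sup_le (iSup_le fun a => ?_) ?_
      · rw [le_centralizer_iff, ← hcjE0 a a.2, ← cj_cj]
        exact cj_cent _ hE0W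
      · rw [le_centralizer_iff]
        exact inf_le_right
    have hsplit := split (h.AS i) hXe (W := V i) ((h.Vle i).trans le_sup_right) (by
      rw [(h.blk i).inf_cent (h.A_le i) (h.An i), (h.blk i).cardZ, (h.blk i).off _ (h.AB i) (h.An i),
        (h.blk i).cardV, h.A_inf i, ← hE0, mul_assoc]
      exact Nat.mul_le_mul_right _ (Subgroup.card_le_of_le (le_inf inf_le_left hE0X)))
    have hWX : cj l V' ≤ X := by
      have := le_iSup (fun a : A i => cj ((a : G) * l) V') ⟨1, one_mem _⟩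
      simp only [one_mul] at this
      exact this.trans le_sup_left
    have hcm : ∀ u ∈ cj l V', ∀ a ∈ A i, a * u * a⁻¹ * u⁻¹ ∈ Z i := by
      intro u hu a ha
      obtain ⟨w, hw, c, -, hc, rfl⟩ := hsplit u (hWX hu)
      have e : a * (w * c) * a⁻¹ * (w * c)⁻¹ = a * w * a⁻¹ * (a * c * a⁻¹) * c⁻¹ * w⁻¹ := by group
      rw [e, comm_conj (hc a ha), mul_inv_cancel_right]
      exact (h.blk i).quad w hw a (h.A_le i ha)
    obtain ⟨v', hv', hv'Z⟩ := k.blk.exists_not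
    intro a ha
    refine mem_normalizer_of_cj_le ?_
    intro y₀ hy₀
    obtain ⟨y₁, hy₁, rfl⟩ := exists_of_mem_cj hy₀
    obtain ⟨z', hz', rfl⟩ := exists_of_mem_cj hy₁
    obtain ⟨f, hf, rfl⟩ := k.blk.surj hFB hFn hv' hv'Z hz'
    have hu : l * v' * l⁻¹ ∈ cj l V' := mem_cj_conj hv'
    have hζ := hcm _ hu a ha
    set u := l * v' * l⁻¹ with hu'
    set ζ := a * u * a⁻¹ * u⁻¹ with hζ'
    have haP : a ∈ P := h.LP i (hBL (h.A_le i ha))
    have hlP : l ∈ P := h.LP i hl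
    set e2 := a * (l * f * l⁻¹) * a⁻¹ with he2
    have he2Q : e2 ∈ o2 P := by
      have h1 := (mem_normalizer_iff.1 (hPQ hlP) f).1 (hF.2.1 hf)
      exact (mem_normalizer_iff.1 (hPQ haP) _).1 h1
    have h2 : l⁻¹ * e2 * l ∈ bau (S : Subgroup G) := by
      have h1 := (mem_normalizer_iff.1 (hPQ (inv_mem hlP)) e2).1 he2Q
      rw [inv_inv] at h1
      exact hQB h1
    have h3 : e2 * u * e2⁻¹ * u⁻¹ ∈ cj l Z' := by
      have h4 := mem_cj_conj (g := l) (k.blk.quad v' hv' _ h2)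
      have e : l * (l⁻¹ * e2 * l * v' * (l⁻¹ * e2 * l)⁻¹ * v'⁻¹) * l⁻¹ = e2 * u * e2⁻¹ * u⁻¹ := by
        rw [hu']; group
      rwa [e] at h4
    have hζV : ζ ∈ zl (S : Subgroup G) P := h.Vle i ((h.blk i).ZV hζ)
    have h5 : e2 * ζ * e2⁻¹ = ζ := comm_conj (h.Q_cent he2Q hζV)
    have h6 : (e2 * u * e2⁻¹ * u⁻¹) * ζ = ζ * (e2 * u * e2⁻¹ * u⁻¹) :=
      cent_comm (k.cj_comm h hl) (cj_mono l k.blk.ZV h3) hζV
    have e1 : a * (l * (f * v' * f⁻¹ * v'⁻¹) * l⁻¹) * a⁻¹ = e2 * (a * u * a⁻¹) * e2⁻¹ * (a * u * a⁻¹)⁻¹ := by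
      rw [he2, hu']; group
    have e3 : a * u * a⁻¹ = ζ * u := by rw [hζ']; group
    rw [e1, e3]
    have e4 : e2 * (ζ * u) * e2⁻¹ * (ζ * u)⁻¹ = (e2 * ζ * e2⁻¹) * (e2 * u * e2⁻¹ * u⁻¹) * ζ⁻¹ := by group
    rw [e4, h5, ← h6, mul_inv_cancel_right]
    exact h3
  · -- (b)
    set E : Subgroup G := E0 ⊔ zl (S : Subgroup G) P with hEdef
    have hEx : ∀ x ∈ L i, cj x⁻¹ E ∈ AA (bau (S : Subgroup G)) := by
      intro x hx
      have h1 : cj x⁻¹ E ≤ o2 P := by
        rw [cj_le_iff, inv_inv, cj_eq_of_mem_normalizer (hPQ (h.LP i hx))]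
        exact hEQ
      exact AA_bau.2 (AA_cj hE (h1.trans h.QS))
    have hn : ∀ x ∈ L i, ¬ E ≤ centralizer ((cj x V' : Subgroup G) : Set G) →
        ¬ cj x⁻¹ E ≤ centralizer (V' : Set G) := by
      intro x hx hne hle
      apply hne
      rw [cj_le_iff, inv_inv, cj_centralizer] at hle
      exact hle
    have hEl : ¬ E ≤ centralizer ((cj l V' : Subgroup G) : Set G) := fun hle =>
      hE0W (le_sup_left.trans hle)
    -- the data at `l`
    have c1 : Nat.card E = Nat.card ↥(E ⊓ centralizer ((cj l V' : Subgroup G) : Set G)) * q' := by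
      have h1 := k.blk.off _ (hEx l hl) (hn l hl hEl)
      have e : cj l⁻¹ E ⊓ centralizer (V' : Set G) =
          cj l⁻¹ (E ⊓ centralizer ((cj l V' : Subgroup G) : Set G)) := by
        rw [cj_inf, cj_centralizer, cj_inv_cj]
      rw [e, card_cj, card_cj] at h1
      exact h1
    have c2 : Nat.card ↥(cj l V' ⊓ centralizer (E : Set G)) = q' := by
      have h1 := k.blk.inf_cent (hEx l hl).2.1 (hn l hl hEl)
      have e : V' ⊓ centralizer ((cj l⁻¹ E : Subgroup G) : Set G) =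
          cj l⁻¹ (cj l V' ⊓ centralizer (E : Set G)) := by
        rw [cj_inf, cj_centralizer, cj_inv_cj]
      rw [e] at h1
      rw [← card_cj l⁻¹, h1, k.blk.cardZ]
    intro a ha
    have haL : a ∈ L i := hBL (h.A_le i ha)
    have halL : a * l ∈ L i := mul_mem haL hl
    refine mem_normalizer_of_cj_le ?_
    set U : Subgroup G := (cj l V' ⊔ cj (a * l) V') ⊔ zl (S : Subgroup G) P with hU
    have hUe : IsElementaryAbelian 2 U := isElementaryAbelian_mono (k.elem h)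
      (sup_le (sup_le (le_big hl) (le_big halL)) le_sup_right)
    have hEU : E ⊓ centralizer ((cj l V' : Subgroup G) : Set G) ≤ E ⊓ centralizer (U : Set G) := by
      rintro e ⟨he, hec⟩
      refine ⟨he, ?_⟩
      have hEcV : E ≤ centralizer (zl (S : Subgroup G) P : Set G) :=
        sup_le inf_le_right (le_cent fun a ha b hb => elem_comm h.Velem a ha b hb)
      obtain ⟨e0, he0, v, hv, rfl⟩ := mem_sup_comm (fun a ha b hb => cent_comm inf_le_right ha hb) he
      have h1 : ∀ x ∈ L i, v ∈ centralizer ((cj x V' : Subgroup G) : Set G) := fun x hx =>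
        mem_centralizer_iff.2 fun w hw => cent_comm (k.cj_comm h hx) hw hv
      have h2 : e0 ∈ centralizer ((cj l V' : Subgroup G) : Set G) := by
        have := (centralizer ((cj l V' : Subgroup G) : Set G)).mul_mem hec
          ((centralizer ((cj l V' : Subgroup G) : Set G)).inv_mem (h1 l hl))
        rwa [mul_inv_cancel_right] at this
      have h3 : e0 ∈ centralizer ((cj (a * l) V' : Subgroup G) : Set G) := by
        rw [← cj_cj, ← cj_centralizer, mem_cj]
        have e : a⁻¹ * e0 * a = e0 := by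
          rw [hAc _ (inv_mem ha) _ he0.1, inv_mul_cancel_right]
        rwa [e]
      have h4 : U ≤ centralizer ((zpowers (e0 * v) : Subgroup G) : Set G) := by
        refine sup_le (sup_le ?_ ?_) ?_
        · rw [le_centralizer_iff, zpowers_le]; exact hec
        · rw [le_centralizer_iff, zpowers_le]; exact mul_mem h3 (h1 _ halL)
        · rw [le_centralizer_iff, zpowers_le]; exact hEcV he
      exact le_centralizer_iff.1 h4 (mem_zpowers _)
    have hsplit := split hE hUe (W := cj l V') (le_sup_left.trans le_sup_left) (by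
      rw [c2, card_cj, k.blk.cardV]
      calc Nat.card E * q' = Nat.card ↥(E ⊓ centralizer ((cj l V' : Subgroup G) : Set G)) * (q' * q') := by
            rw [c1, mul_assoc]
        _ ≤ _ := Nat.mul_le_mul_right _ (Subgroup.card_le_of_le hEU))
    have hEal : ¬ E ≤ centralizer ((cj (a * l) V' : Subgroup G) : Set G) := by
      intro hle
      apply hE0W
      have h1 : E0 ≤ centralizer ((cj (a * l) V' : Subgroup G) : Set G) := le_sup_left.trans hle
      have h2 := cj_cent a⁻¹ h1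
      rwa [← cj_cj, cj_inv_cj, hcjE0 _ (inv_mem ha)] at h2
    obtain ⟨v', hv', hv'Z⟩ := k.blk.exists_not
    rw [cj_cj]
    intro y hy
    obtain ⟨z', hz', rfl⟩ := exists_of_mem_cj hy
    obtain ⟨f₀, hf₀, rfl⟩ := k.blk.surj (hEx _ halL) (hn _ halL hEal) hv' hv'Z hz'
    obtain ⟨f, hf, rfl⟩ := exists_of_mem_cj hf₀
    have hu : (a * l) * v' * (a * l)⁻¹ ∈ cj (a * l) V' := mem_cj_conj hv'
    obtain ⟨w, hw, c, -, hc, e⟩ := hsplit _ ((le_sup_right.trans le_sup_left : cj (a * l) V' ≤ U) hu)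
    have e1 : a * l * ((a * l)⁻¹ * f * (a * l)⁻¹⁻¹ * v' * ((a * l)⁻¹ * f * (a * l)⁻¹⁻¹)⁻¹ * v'⁻¹) * (a * l)⁻¹ =
        f * ((a * l) * v' * (a * l)⁻¹) * f⁻¹ * ((a * l) * v' * (a * l)⁻¹)⁻¹ := by group
    rw [e1, e]
    have e2 : f * (w * c) * f⁻¹ * (w * c)⁻¹ = f * w * f⁻¹ * (f * c * f⁻¹) * c⁻¹ * w⁻¹ := by group
    rw [e2, comm_conj (hc f hf), mul_inv_cancel_right]
    obtain ⟨w₁, hw₁, rfl⟩ := exists_of_mem_cj hw
    have h5 := k.blk.quad w₁ hw₁ (l⁻¹ * f * l) (by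
      have h6 := (hEx l hl).2.1 (mem_cj_conj (g := l⁻¹) hf)
      rwa [inv_inv] at h6)
    have h7 := mem_cj_conj (g := l) h5
    have e3 : l * (l⁻¹ * f * l * w₁ * (l⁻¹ * f * l)⁻¹ * w₁⁻¹) * l⁻¹ =
        f * (l * w₁ * l⁻¹) * f⁻¹ * (l * w₁ * l⁻¹)⁻¹ := by
      group
    rwa [e3] at h7

end Oth

/-! ### The action on `Ω₁Z(J(Q))` -/

omit [Finite G] in
theorem le_normalizer_iSup_cj (P X : Subgroup G) :
    P ≤ normalizer ((⨆ g : P, cj (g : G) X : Subgroup G) : Set G) := by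
  intro p hp
  rw [mem_normalizer_iff_cj]
  have e : cj p (⨆ g : P, cj (g : G) X) = ⨆ g : P, cj p (cj (g : G) X) := Subgroup.map_iSup _ _
  rw [e]
  apply le_antisymm
  · refine iSup_le fun g => ?_
    rw [cj_cj]
    exact le_iSup (fun g : P => cj (g : G) X) ⟨p * g, P.mul_mem hp g.2⟩
  · refine iSup_le fun g => ?_
    refine le_trans ?_ (le_iSup (fun g : P => cj p (cj (g : G) X))
      ⟨p⁻¹ * g, P.mul_mem (P.inv_mem hp) g.2⟩)
    rw [cj_cj, mul_inv_cancel_left]

/-- `[Ω₁Z(J(Q)), J(S)^g] ≤ V_P` for `g ∈ P`. -/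
theorem Sit.act_zj (h : Sit S P L V Z A q) {g j y : G} (hg : g ∈ P) (hj : j ∈ cj g (jj (S : Subgroup G)))
    (hy : y ∈ zj (o2 P)) : j * y * j⁻¹ * y⁻¹ ∈ zl (S : Subgroup G) P := by
  have hVn : P ≤ normalizer (zl (S : Subgroup G) P : Set G) := MinSimple.VModule.le_normalizer_zl _ _
  have hYn : P ≤ normalizer (zj (o2 P) : Set G) :=
    (le_normalizer_o2 P).trans (normalizer_le_of_cj (F := zj) zj_cj _)
  have hSP : (S : Subgroup G) ≤ P := h.hyp.star.isLoc.le
  let T : Subgroup G :=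
    { carrier := {j | j ∈ P ∧ ∀ y ∈ zj (o2 P), j * y * j⁻¹ * y⁻¹ ∈ zl (S : Subgroup G) P}
      mul_mem' := by
        rintro a b ⟨ha, ha'⟩ ⟨hb, hb'⟩
        refine ⟨mul_mem ha hb, fun y hy => ?_⟩
        have e : a * b * y * (a * b)⁻¹ * y⁻¹ = (a * (b * y * b⁻¹ * y⁻¹) * a⁻¹) * (a * y * a⁻¹ * y⁻¹) := by
          group
        rw [e]
        exact mul_mem ((mem_normalizer_iff.1 (hVn ha) _).1 (hb' y hy)) (ha' y hy)
      one_mem' := ⟨one_mem _, fun y _ => by simp⟩
      inv_mem' := by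
        rintro a ⟨ha, ha'⟩
        refine ⟨inv_mem ha, fun y hy => ?_⟩
        have e : a⁻¹ * y * a⁻¹⁻¹ * y⁻¹ = a⁻¹ * (a * y * a⁻¹ * y⁻¹)⁻¹ * a⁻¹⁻¹ := by group
        rw [e]
        exact (mem_normalizer_iff.1 (hVn (inv_mem ha)) _).1 (inv_mem (ha' y hy)) }
  have hJT : jj (S : Subgroup G) ≤ T := by
    rw [jj_eq]
    refine sSup_le fun E hE a ha => ⟨hSP (hE.2.1 ha), fun y hy => ?_⟩
    obtain ⟨v, hv, c, -, hc, rfl⟩ := h.zj_split hE hy
    have e : a * (v * c) * a⁻¹ * (v * c)⁻¹ = a * v * a⁻¹ * (a * c * a⁻¹) * c⁻¹ * v⁻¹ := by group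
    rw [e, comm_conj (hc a ha), mul_inv_cancel_right]
    exact mul_mem ((mem_normalizer_iff.1 (hVn (hSP (hE.2.1 ha))) _).1 hv) (inv_mem hv)
  obtain ⟨j₀, hj₀, rfl⟩ := exists_of_mem_cj hj
  have hy' : g⁻¹ * y * g ∈ zj (o2 P) := by
    have := (mem_normalizer_iff.1 (hYn (inv_mem hg)) y).1 hy
    rwa [inv_inv] at this
  have h1 := (mem_normalizer_iff.1 (hVn hg) _).1 ((hJT hj₀).2 _ hy')
  have e : g * (j₀ * (g⁻¹ * y * g) * j₀⁻¹ * (g⁻¹ * y * g)⁻¹) * g⁻¹ =
      g * j₀ * g⁻¹ * y * (g * j₀ * g⁻¹)⁻¹ * y⁻¹ := by group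
  rwa [e] at h1

namespace Oth

variable {i : ι} {L' V' Z' : Subgroup G} {q' : ℕ}
variable (k : Oth S P L Z i L' V' Z' q') (h : Sit S P L V Z A q)
include k h

theorem le_Q : V' ≤ o2 P := fun v hv => by
  rw [← h.cV]
  exact ⟨ChoiceBase.bau_le _ (k.blk.VB hv), k.comm hv⟩

/-- `V' ≤ Ω₁Z(J(Q))`. -/
theorem le_zj : V' ≤ zj (o2 P) := by
  intro v hv
  have hc : ∀ y ∈ jj (o2 P), y * v = v * y := fun y hy => cent_comm (k.jj_cent h) hy hv
  exact mem_zj.2 ⟨mem_jj_of_comm (k.le_Q h hv) (k.blk.Vsq v hv) hc, k.blk.Vsq v hv, hc⟩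

/-- `J(S) ∩ Q` centralises `V'`. -/
theorem inf_cent : jj (S : Subgroup G) ⊓ o2 P ≤ centralizer (V' : Set G) := by
  have : Nonempty ι := ⟨i⟩
  have hSP : (S : Subgroup G) ≤ P := h.hyp.star.isLoc.le
  set E : Subgroup G := ⨆ g : P, cj (g : G) (jj (S : Subgroup G)) with hE
  have hEn : P ≤ normalizer (E : Set G) := le_normalizer_iSup_cj _ _
  set F : Subgroup G := E ⊓ o2 P with hF
  have hFn : P ≤ normalizer (F : Set G) := fun p hp => by
    rw [mem_normalizer_iff_cj, hF, cj_inf, cj_eq_of_mem_normalizer (hEn hp),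
      cj_eq_of_mem_normalizer (le_normalizer_o2 P hp)]
  set W : Subgroup G := V' ⊔ zl (S : Subgroup G) P with hW
  have hVY : zl (S : Subgroup G) P ≤ zj (o2 P) := by
    intro v hv
    have hc : ∀ y ∈ jj (o2 P), y * v = v * y := fun y hy => h.Q_cent (ChoiceBase.jj_le _ hy) hv
    exact mem_zj.2 ⟨mem_jj_of_comm (h.VQ hv) (elem_sq h.Velem v hv) hc, elem_sq h.Velem v hv, hc⟩
  have hWY : W ≤ zj (o2 P) := sup_le (k.le_zj h) hVY
  set R : Subgroup G := ⁅F, W⁆ with hR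
  have hRZ : R ≤ Z' := by
    rw [hR, commutator_le]
    intro f hf w hw
    obtain ⟨v', hv', v, hv, rfl⟩ := mem_sup_comm (fun a ha b hb => cent_comm k.comm ha hb) hw
    have e : ⁅f, v' * v⁆ = f * v' * f⁻¹ * (f * v * f⁻¹) * v⁻¹ * v'⁻¹ := by
      rw [commutatorElement_def]; group
    rw [e, comm_conj (h.Q_cent hf.2 hv), mul_inv_cancel_right]
    exact k.blk.quad v' hv' f (h.core hf.2)
  have hR0 : R = ⊥ := by
    refine h.eq_bot_of_norm (hRZ.trans k.Z'_le) fun g hg j hj => ?_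
    have hjP : j ∈ P := by
      obtain ⟨j₀, hj₀, rfl⟩ := exists_of_mem_cj hj
      exact mul_mem (mul_mem hg (hSP (ChoiceBase.jj_le _ hj₀))) (inv_mem hg)
    have hjW : j ∈ normalizer (W : Set G) := by
      refine mem_normalizer_of_cj_le ?_
      intro w hw
      obtain ⟨w, hw', rfl⟩ := exists_of_mem_cj hw
      have h1 := h.act_zj hg hj (hWY hw')
      have e : j * w * j⁻¹ = (j * w * j⁻¹ * w⁻¹) * w := by group
      rw [e]
      exact mul_mem (mem_sup_right h1) hw'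
    rw [mem_normalizer_iff_cj, hR]
    have e : cj j ⁅F, W⁆ = ⁅cj j F, cj j W⁆ := Subgroup.map_commutator _ _ _
    rw [e, cj_eq_of_mem_normalizer (hFn hjP), cj_eq_of_mem_normalizer hjW]
  have hJE : jj (S : Subgroup G) ≤ E := by
    have := le_iSup (fun g : P => cj (g : G) (jj (S : Subgroup G))) ⟨1, P.one_mem⟩
    rwa [cj_one] at this
  intro x hx
  rw [mem_centralizer_iff]
  intro v hv
  have hxF : x ∈ F := mem_inf.2 ⟨hJE hx.1, hx.2⟩
  have h1 : ⁅x, v⁆ ∈ R := commutator_mem_commutator hxF (mem_sup_left hv)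
  rw [hR0, mem_bot, commutatorElement_eq_one_iff_mul_comm] at h1
  exact h1.symm

omit k in
/-- `A j` acts on `V'` with commutators in `Z j`. -/
theorem comm_mem (hle : V' ≤ zj (o2 P)) (j : ι) {a v : G} (ha : a ∈ A j) (hv : v ∈ V') :
    a * v * a⁻¹ * v⁻¹ ∈ Z j := by
  obtain ⟨w, hw, c, -, hc, rfl⟩ := h.zj_split (h.AS j) (hle hv)
  obtain ⟨x, hx, r, hr, rfl⟩ := h.V_comp j hw
  have e : a * (x * r * c) * a⁻¹ * (x * r * c)⁻¹ =
      a * x * a⁻¹ * (a * r * a⁻¹) * (a * c * a⁻¹) * c⁻¹ * r⁻¹ * x⁻¹ := by group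
  rw [e, comm_conj (hc a ha), comm_conj (cent_comm (h.A_cent j) ha hr), mul_inv_cancel_right,
    mul_inv_cancel_right]
  exact (h.blk j).quad x hx a (h.A_le j ha)

/-- **THEOREM UNI.** -/
theorem uni [Finite ι] : q' = q ∧ Z' = Z i ∧ V' ≤ V i ⊔ zj (S : Subgroup G) := by
  have hY := k.le_zj h
  have hInf := k.inf_cent h
  obtain ⟨F, hF, hFn⟩ : ∃ F ∈ AA (bau (S : Subgroup G)), ¬ F ≤ centralizer (V' : Set G) := by
    by_contra h1
    push Not at h1
    apply k.blk.nle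
    rw [jj_eq]
    exact sSup_le h1
  obtain ⟨v', hv', hv'Z⟩ := k.blk.exists_not
  -- `A i` acts nontrivially on `V'`
  have hAn : ¬ A i ≤ centralizer (V' : Set G) := by
    intro hcon
    let R : Subgroup G := ⨆ (j) (_ : j ≠ i), Z j
    let T : Subgroup G :=
      { carrier := {b | b ∈ bau (S : Subgroup G) ∧ ∀ v ∈ V', b * v * b⁻¹ * v⁻¹ ∈ R}
        mul_mem' := by
          rintro a b ⟨ha, ha'⟩ ⟨hb, hb'⟩
          refine ⟨mul_mem ha hb, fun v hv => ?_⟩
          rw [k.blk.mul_comm' ha hb hv]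
          exact mul_mem (hb' v hv) (ha' v hv)
        one_mem' := ⟨one_mem _, fun y _ => by simp⟩
        inv_mem' := by
          rintro a ⟨ha, ha'⟩
          refine ⟨inv_mem ha, fun v hv => ?_⟩
          have h1 := k.blk.quad v hv a ha
          have h2 : a⁻¹ * (a * v * a⁻¹ * v⁻¹)⁻¹ * a⁻¹⁻¹ = (a * v * a⁻¹ * v⁻¹)⁻¹ :=
            comm_conj (k.blk.Zc _ (inv_mem h1) _ (inv_mem ha))
          have e : a⁻¹ * v * a⁻¹⁻¹ * v⁻¹ = a⁻¹ * (a * v * a⁻¹ * v⁻¹)⁻¹ * a⁻¹⁻¹ := by group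
          rw [e, h2]
          exact inv_mem (ha' v hv) }
    have hT : jj (S : Subgroup G) ≤ T := by
      refine h.jj_gen.trans (sup_le (iSup_le fun j a ha => ⟨h.A_le j ha, fun v hv => ?_⟩) ?_)
      · by_cases hji : j = i
        · subst hji
          rw [comm_conj (cent_comm hcon ha hv), mul_inv_cancel]
          exact one_mem _
        · exact (le_iSup₂ (f := fun (k : ι) (_ : k ≠ i) => Z k) j hji) (comm_mem h hY j ha hv)
      · intro x hx
        refine ⟨h.core hx.2, fun v hv => ?_⟩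
        rw [comm_conj (cent_comm hInf hx hv), mul_inv_cancel]
        exact one_mem _
    apply k.comp
    intro z hz
    obtain ⟨f, hf, rfl⟩ := k.blk.surj hF hFn hv' hv'Z hz
    exact (hT (by rw [← ChoiceBase.jj_bau]; exact le_jj hF hf)).2 v' hv'
  -- `Z' = Z i`
  have hle : Z' ≤ Z i := by
    intro z hz
    obtain ⟨a, ha, rfl⟩ := k.blk.surj (h.AB i) hAn hv' hv'Z hz
    exact comm_mem h hY i ha hv'
  have hge : Z i ≤ Z' := by
    intro z hz
    obtain ⟨w, hw, c, -, hc, e0⟩ := h.zj_split (h.AS i) (hY hv')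
    obtain ⟨x, hx, r, hr, rfl⟩ := h.V_comp i hw
    have hcomm : ∀ a ∈ A i, a * v' * a⁻¹ * v'⁻¹ = a * x * a⁻¹ * x⁻¹ := by
      intro a ha
      rw [e0]
      have e : a * (x * r * c) * a⁻¹ * (x * r * c)⁻¹ =
          a * x * a⁻¹ * (a * r * a⁻¹) * (a * c * a⁻¹) * c⁻¹ * r⁻¹ * x⁻¹ := by group
      rw [e, comm_conj (hc a ha), comm_conj (cent_comm (h.A_cent i) ha hr), mul_inv_cancel_right,
        mul_inv_cancel_right]
    have hxZ : x ∉ Z i := by
      intro hxZ
      apply hv'Z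
      rw [← k.blk.inf_cent (h.A_le i) hAn]
      refine ⟨hv', mem_centralizer_iff.2 fun a ha => ?_⟩
      have h1 := hcomm a ha
      rw [comm_conj ((h.blk i).Zc x hxZ a (h.A_le i ha)), mul_inv_cancel] at h1
      exact conj_eq_iff.1 (mul_inv_eq_one.1 h1)
    obtain ⟨a, ha, rfl⟩ := (h.blk i).surj (h.AB i) (h.An i) hx hxZ hz
    rw [← hcomm a ha]
    exact k.blk.quad v' hv' a (h.A_le i ha)
  have hZ : Z' = Z i := le_antisymm hle hge
  refine ⟨by rw [← k.blk.cardZ, hZ, (h.blk i).cardZ], hZ, fun v hv => ?_⟩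
  obtain ⟨w, hw, c, -, hc, e0⟩ := h.zj_split (h.AS i) (hY hv)
  obtain ⟨x, hx, r, hr, rfl⟩ := h.V_comp i hw
  have hrV : r ∈ zl (S : Subgroup G) P := (iSup₂_le fun j _ => h.Vle j : (⨆ (j) (_ : j ≠ i), V j) ≤ _) hr
  have hrc : x⁻¹ * v = r * c := by rw [e0]; group
  have hxQ : x ∈ o2 P := h.VQ (h.Vle i hx)
  have hcz : x⁻¹ * v ∈ zj (S : Subgroup G) := by
    have hQ : x⁻¹ * v ∈ o2 P := mul_mem (inv_mem hxQ) (k.le_Q h hv)
    have hcomm : jj (S : Subgroup G) ≤ centralizer ((zpowers (x⁻¹ * v) : Subgroup G) : Set G) := by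
      refine h.jj_gen.trans (sup_le (iSup_le fun j => ?_) ?_)
      · rw [le_centralizer_iff, zpowers_le, mem_centralizer_iff]
        intro a ha
        by_cases hji : j = i
        · subst hji
          rw [hrc]
          have h1 := cent_comm (h.A_cent j) ha hr
          have h2 := hc a ha
          rw [← mul_assoc, h1, mul_assoc, h2, ← mul_assoc]
        · have h1 : a * v = v * a := by
            have h2 : a * v * a⁻¹ * v⁻¹ ∈ V i ⊓ V j :=
              ⟨(h.blk i).ZV (hle (k.blk.quad v hv a (h.A_le j ha))), (h.blk j).ZV (comm_mem h hY j ha hv)⟩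
            have h3 : V i ⊓ V j ≤ V i ⊓ ⨆ (l) (_ : l ≠ i), V l :=
              inf_le_inf_left _ (le_iSup₂ (f := fun (l : ι) (_ : l ≠ i) => V l) j hji)
            have h4 := h3 h2
            rw [h.inf_other i, mem_bot] at h4
            exact conj_eq_iff.1 (mul_inv_eq_one.1 h4)
          have h2 : a * x⁻¹ = x⁻¹ * a := cent_comm (h.Ac j i hji) ha (inv_mem hx)
          rw [← mul_assoc, h2, mul_assoc, h1, ← mul_assoc]
      · rw [le_centralizer_iff, zpowers_le, mem_centralizer_iff]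
        intro a ha
        have h1 : a * v = v * a := cent_comm hInf ha hv
        have h2 : a * x⁻¹ = x⁻¹ * a := h.Q_cent ha.2 (inv_mem (h.Vle i hx))
        rw [← mul_assoc, h2, mul_assoc, h1, ← mul_assoc]
    have hcomm' : ∀ y ∈ jj (S : Subgroup G), y * (x⁻¹ * v) = (x⁻¹ * v) * y := fun y hy =>
      (mem_centralizer_iff.1 (hcomm hy) _ (mem_zpowers _)).symm
    have hsq : (x⁻¹ * v) ^ 2 = 1 := by
      have h1 : x⁻¹ * v = v * x⁻¹ := (cent_comm k.comm hv (inv_mem (h.Vle i hx))).symm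
      have h2 : Commute x⁻¹ v := h1
      rw [h2.mul_pow, inv_pow, (h.blk i).Vsq x hx, k.blk.Vsq v hv, inv_one, one_mul]
    exact mem_zj.2 ⟨mem_jj_of_comm (h.QS hQ) hsq hcomm', hsq, hcomm'⟩
  have e : v = x * (x⁻¹ * v) := by group
  rw [e]
  exact mul_mem (mem_sup_left hx) (mem_sup_right hcz)

end Oth

end Cfsg.Agent.Omega.OM
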