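import Cfsg.Agent.ZN.ChoiceSit
import Cfsg.Agent.PLocal.OffenderStep

/-!
# (R1) of OM1, abstract form

Paper: helper4 #13281 (R1) with the repairs helper302 #14014, helper477 #13961.
`T` a Sylow 2-subgroup of `H`, `J = J(T)`, `V` an elementary abelian normal subgroup of `H`, `W ≤ C_T(V)`
elementary abelian, `T`-invariant and centralised by `J` (`W = Ω₁(Z(J(T)))` or `W = C_{Ω₁(Z(O₂(H)))}(J)`),
`Y = W V` normal in `H`, `[Y, J] ≤ V`, `C_T(V)` normal in `H`, `w ∈ H` with `V = C_V(J) C_V(J)^w` such that every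
`H`-conjugate of an element of `J` acts on `V` as an element of `⟨J, J^w⟩`; `C_V(⟨J^H⟩) = 1` and no nontrivial
element of `Ω₁(Z(T))` centralises `⟨J^H⟩`.  Then `W ≤ V`.
-/

set_option autoImplicit false

namespace Cfsg.Agent.Omega.OM

open Subgroup Cfsg Cfsg.Agent.ZN Cfsg.Agent.ZN.ChoiceBase Cfsg.Agent.ZN.ChoiceSit
open scoped Pointwise

universe u

variable {G : Type u} [Group G]

/-- The hypotheses of (R1), without the Weyl element. -/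
structure ROneB (H T V W : Subgroup G) : Prop where
  syl : Syl T H
  VT : V ≤ T
  Vn : ∀ h ∈ H, ∀ v ∈ V, h * v * h⁻¹ ∈ V
  Vsq : ∀ v ∈ V, v ^ 2 = 1
  Vc : ∀ v ∈ V, ∀ v' ∈ V, v * v' = v' * v
  Qn : ∀ h ∈ H, ∀ x ∈ T, (∀ v ∈ V, x * v = v * x) → h * x * h⁻¹ ∈ T
  WT : W ≤ T
  Wc : ∀ x ∈ W, ∀ y ∈ W, x * y = y * x
  Wsq : ∀ x ∈ W, x ^ 2 = 1
  WJ : ∀ x ∈ W, ∀ j ∈ jj T, j * x = x * j
  Wn : ∀ t ∈ T, ∀ x ∈ W, t * x * t⁻¹ ∈ W
  ZcV : ∀ z ∈ W, ∀ v ∈ V, z * v = v * z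
  V1Z : ∀ v ∈ V, (∀ j ∈ jj T, j * v = v * j) → v ∈ W
  Yn : ∀ h ∈ H, ∀ y ∈ W ⊔ V, h * y * h⁻¹ ∈ W ⊔ V
  act : ∀ j ∈ jj T, ∀ y ∈ W ⊔ V, j * y * j⁻¹ * y⁻¹ ∈ V
  cV : ∀ v ∈ V, (∀ h ∈ H, ∀ j ∈ jj T, h * j * h⁻¹ * v = v * (h * j * h⁻¹)) → v = 1
  cZ : ∀ z ∈ zc T, (∀ h ∈ H, ∀ j ∈ jj T, h * j * h⁻¹ * z = z * (h * j * h⁻¹)) → z = 1

/-- The hypotheses of (R1). -/
structure ROne (H T V W : Subgroup G) (w : G) : Prop extends ROneB H T V W where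
  wH : w ∈ H
  split : ∀ v ∈ V, ∃ a ∈ V, ∃ b ∈ V, (∀ j ∈ jj T, j * a = a * j) ∧ (∀ j ∈ jj T, j * b = b * j) ∧
    v = a * (w * b * w⁻¹)
  gen : ∀ h ∈ H, ∀ j ∈ jj T, ∃ k ∈ closure ((jj T : Set G) ∪ {x | ∃ j ∈ jj T, w * j * w⁻¹ = x}),
    ∀ v ∈ V, h * j * h⁻¹ * v * (h * j * h⁻¹)⁻¹ = k * v * k⁻¹

/-- The hypotheses of (R1), with a set `X` of conjugates of elements of `J(T)`. -/
structure ROneX (H T V W : Subgroup G) (X : Set G) : Prop extends ROneB H T V W where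
  conj : ∀ x ∈ X, ∃ h ∈ H, ∃ j ∈ jj T, x = h * j * h⁻¹
  splitX : ∀ z ∈ W, ∃ a ∈ V, (∀ j ∈ jj T, j * a = a * j) ∧ ∀ x ∈ X, x * (z * a⁻¹) = z * a⁻¹ * x
  gen : ∀ h ∈ H, ∀ j ∈ jj T, ∃ k ∈ closure ((jj T : Set G) ∪ X),
    ∀ v ∈ V, h * j * h⁻¹ * v * (h * j * h⁻¹)⁻¹ = k * v * k⁻¹

namespace ROneB

variable {H T V W : Subgroup G} (D : ROneB H T V W)
include D

/-- the elements of `Y` -/
theorem mem_Y {y : G} (hy : y ∈ W ⊔ V) : ∃ z ∈ W, ∃ v ∈ V, y = z * v := by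
  have hle : V ≤ centralizer (W : Set G) := fun v hv =>
    mem_centralizer_iff.2 fun z hz => D.ZcV z hz v hv
  have h1 : y ∈ (W : Set G) * (V : Set G) := by
    rw [← Subgroup.coe_mul_of_right_le_normalizer_left _ _ (hle.trans (centralizer_le_normalizer _))]
    exact hy
  obtain ⟨z, hz, v, hv, rfl⟩ := h1
  exact ⟨z, hz, v, hv, rfl⟩

theorem Y_comm {x y : G} (hx : x ∈ W ⊔ V) (hy : y ∈ W ⊔ V) : x * y = y * x := by
  obtain ⟨z, hz, v, hv, rfl⟩ := D.mem_Y hx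
  obtain ⟨z', hz', v', hv', rfl⟩ := D.mem_Y hy
  have e1 : Commute z z' := D.Wc _ hz _ hz'
  have e2 : Commute z v' := D.ZcV z hz v' hv'
  have e3 : Commute v z' := (D.ZcV z' hz' v hv).symm
  have e4 : Commute v v' := D.Vc v hv v' hv'
  exact ((e1.mul_right e2).mul_left (e3.mul_right e4)).eq

theorem Y_sq {y : G} (hy : y ∈ W ⊔ V) : y ^ 2 = 1 := by
  obtain ⟨z, hz, v, hv, rfl⟩ := D.mem_Y hy
  have e2 : Commute z v := D.ZcV z hz v hv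
  rw [e2.mul_pow, D.Wsq _ hz, D.Vsq v hv, one_mul]

/-- the elements of `H` acting trivially on `Y / V` -/
def act' : Subgroup G where
  carrier := {x | x ∈ H ∧ ∀ y ∈ W ⊔ V, x * y * x⁻¹ * y⁻¹ ∈ V}
  mul_mem' := by
    rintro a b ⟨ha, ha'⟩ ⟨hb, hb'⟩
    refine ⟨mul_mem ha hb, fun y hy => ?_⟩
    have e : a * b * y * (a * b)⁻¹ * y⁻¹ =
      (a * (b * y * b⁻¹ * y⁻¹) * a⁻¹) * (a * y * a⁻¹ * y⁻¹) := by group
    rw [e]
    exact mul_mem (D.Vn a ha _ (hb' y hy)) (ha' y hy)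
  one_mem' := ⟨one_mem _, fun y _ => by simp⟩
  inv_mem' := by
    rintro a ⟨ha, ha'⟩
    refine ⟨inv_mem ha, fun y hy => ?_⟩
    have e : a⁻¹ * y * a⁻¹⁻¹ * y⁻¹ = a⁻¹ * (a * y * a⁻¹ * y⁻¹)⁻¹ * a⁻¹⁻¹ := by group
    rw [e]
    exact D.Vn _ (inv_mem ha) _ (inv_mem (ha' y hy))

theorem mem_act' {x : G} : x ∈ D.act' ↔ x ∈ H ∧ ∀ y ∈ W ⊔ V, x * y * x⁻¹ * y⁻¹ ∈ V := Iff.rfl

theorem act'_conj {h x : G} (hh : h ∈ H) (hx : x ∈ D.act') : h * x * h⁻¹ ∈ D.act' := by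
  obtain ⟨h1, h2⟩ := D.mem_act'.1 hx
  refine D.mem_act'.2 ⟨mul_mem (mul_mem hh h1) (inv_mem hh), fun y hy => ?_⟩
  have hy' := D.Yn h⁻¹ (inv_mem hh) y hy
  rw [inv_inv] at hy'
  have e : h * x * h⁻¹ * y * (h * x * h⁻¹)⁻¹ * y⁻¹ =
    h * (x * (h⁻¹ * y * h) * x⁻¹ * (h⁻¹ * y * h)⁻¹) * h⁻¹ := by group
  rw [e]
  exact D.Vn h hh _ (h2 _ hy')

theorem jj_le_act' : jj T ≤ D.act' := fun j hj => D.mem_act'.2 ⟨D.syl.1 (jj_le T hj), D.act j hj⟩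

theorem cj_act' {h j : G} (hh : h ∈ H) (hj : j ∈ jj T) : h * j * h⁻¹ ∈ D.act' :=
  D.act'_conj hh (D.jj_le_act' hj)

/-- An element of `⟨J^H⟩` centralising `V` centralises `Y`. -/
theorem cent_Y [Finite G] {x : G} (hx : x ∈ D.act') (hc : ∀ v ∈ V, x * v = v * x) :
    ∀ y ∈ W ⊔ V, x * y = y * x := by
  have key : ∀ g ∈ T, (∀ v ∈ V, g * v = v * g) → ∀ y ∈ W ⊔ V, ∀ j ∈ jj T,
      j * (g * y * g⁻¹ * y⁻¹) = (g * y * g⁻¹ * y⁻¹) * j := by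
    intro g hgT hgc y hy j hj
    obtain ⟨z, hz, v, hv, rfl⟩ := D.mem_Y hy
    have e : g * (z * v) * g⁻¹ * (z * v)⁻¹ = g * z * g⁻¹ * z⁻¹ := by
      have e1 : g * v * g⁻¹ = v := by rw [hgc v hv]; group
      have e2 : g * (z * v) * g⁻¹ * (z * v)⁻¹ = g * z * g⁻¹ * (g * v * g⁻¹) * v⁻¹ * z⁻¹ := by group
      rw [e2, e1]; group
    rw [e]
    exact D.WJ _ (mul_mem (D.Wn g hgT z hz) (inv_mem hz)) j hj
  have cn : ∀ h ∈ H, ∀ x : G, (∀ v ∈ V, x * v = v * x) → ∀ v ∈ V, h * x * h⁻¹ * v = v * (h * x * h⁻¹) := by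
    intro h hh x hxc v hv
    have hv' := D.Vn h⁻¹ (inv_mem hh) v hv
    rw [inv_inv] at hv'
    have h3 := hxc _ hv'
    have h4 := congrArg (fun t => h * t * h⁻¹) h3
    simpa [mul_assoc] using h4
  -- elements of `T`
  have hT : ∀ g ∈ T, g ∈ D.act' → (∀ v ∈ V, g * v = v * g) → ∀ y ∈ W ⊔ V, g * y = y * g := by
    intro g hgT hg hgc y hy
    have h0 : g * y * g⁻¹ * y⁻¹ = 1 := by
      refine D.cV _ ((D.mem_act'.1 hg).2 y hy) fun h hh j hj => ?_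
      have hgT' := D.Qn h⁻¹ (inv_mem hh) g hgT hgc
      have hgc' := cn h⁻¹ (inv_mem hh) g hgc
      have hy' := D.Yn h⁻¹ (inv_mem hh) y hy
      have h1 := key _ hgT' hgc' _ hy' j hj
      have h2 := congrArg (fun t => h * t * h⁻¹) h1
      simpa [mul_assoc] using h2
    have h1 : g * y * g⁻¹ = y := by
      have := congrArg (fun t => t * y) h0
      simpa [mul_assoc] using this
    exact mul_inv_eq_iff_eq_mul.1 h1
  -- 2-elements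
  have h2el : ∀ g ∈ D.act', (∃ n : ℕ, g ^ 2 ^ n = 1) → (∀ v ∈ V, g * v = v * g) →
      ∀ y ∈ W ⊔ V, g * y = y * g := by
    rintro g hg ⟨n, hn⟩ hgc y hy
    have hp : IsPGroup 2 (zpowers g) := by
      rintro ⟨z, hz⟩
      obtain ⟨m, rfl⟩ := mem_zpowers_iff.1 hz
      refine ⟨n, Subtype.ext ?_⟩
      show (g ^ m) ^ 2 ^ n = 1
      rw [← zpow_natCast, ← zpow_mul, mul_comm, zpow_mul, zpow_natCast, hn, one_zpow]
    have hgH := (D.mem_act'.1 hg).1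
    obtain ⟨S, hS, hgS⟩ := exists_syl hp ((zpowers_le (H := H)).2 hgH)
    obtain ⟨h, hh, e⟩ := syl_conj hS D.syl
    have h1 : h * g * h⁻¹ ∈ T := by
      rw [← e]
      exact ⟨g, hgS (mem_zpowers g), rfl⟩
    have h2 := hT _ h1 (D.act'_conj hh hg) (cn h hh g hgc) _ (D.Yn h hh y hy)
    have h3 := congrArg (fun t => h⁻¹ * t * h) h2
    simpa [mul_assoc] using h3
  -- squares
  have hsq : ∀ y ∈ W ⊔ V, x ^ 2 * y = y * x ^ 2 := by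
    intro y hy
    set d := x * y * x⁻¹ * y⁻¹ with hd
    have hdV : d ∈ V := (D.mem_act'.1 hx).2 y hy
    have e1 : x * y * x⁻¹ = d * y := by rw [hd]; group
    have e2 : x * d * x⁻¹ = d := by rw [hc d hdV]; group
    have hdd : d * d = 1 := by
      have := D.Vsq d hdV; rwa [pow_two] at this
    have e3 : x ^ 2 * y * (x ^ 2)⁻¹ = x * (x * y * x⁻¹) * x⁻¹ := by
      simp only [pow_two, mul_inv_rev, mul_assoc]
    have e4 : x * (d * y) * x⁻¹ = (x * d * x⁻¹) * (x * y * x⁻¹) := by group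
    have e5 : x ^ 2 * y * (x ^ 2)⁻¹ = y := by
      rw [e3, e1, e4, e1, e2, ← mul_assoc, hdd, one_mul]
    exact mul_inv_eq_iff_eq_mul.1 e5
  -- the odd part
  intro y hy
  obtain ⟨a, m, hm1, hm2⟩ := Nat.exists_eq_two_pow_mul_odd (isOfFinOrder_of_finite x).orderOf_pos.ne'
  obtain ⟨r, hr⟩ := hm1
  have h1 : x ^ m * y = y * x ^ m := by
    refine h2el _ (pow_mem hx m) ⟨a, ?_⟩ (fun v hv => ?_) y hy
    · rw [← pow_mul, mul_comm, ← hm2, pow_orderOf_eq_one]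
    · exact ((show Commute x v from hc v hv).pow_left m).eq
  have h3 : Commute (x ^ m) y := h1
  have h4 : Commute ((x ^ 2) ^ r) y := (show Commute (x ^ 2) y from hsq y hy).pow_left r
  have h5 : x = ((x ^ 2) ^ r)⁻¹ * x ^ m := by
    rw [← pow_mul, hr, pow_succ, inv_mul_cancel_left]
  rw [h5]
  exact (h4.inv_left.mul_left h3).eq

/-- `C_Y(⟨J^H⟩) = 1`. -/
theorem eq_one_of_cent [Finite G] {y : G} (hy : y ∈ W ⊔ V)
    (hc : ∀ h ∈ H, ∀ j ∈ jj T, h * j * h⁻¹ * y = y * (h * j * h⁻¹)) : y = 1 := by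
  let D1 : Subgroup G :=
    { carrier := {y | y ∈ W ⊔ V ∧ ∀ h ∈ H, ∀ j ∈ jj T, Commute (h * j * h⁻¹) y}
      mul_mem' := fun ⟨ha, ha'⟩ ⟨hb, hb'⟩ =>
        ⟨mul_mem ha hb, fun h hh j hj => (ha' h hh j hj).mul_right (hb' h hh j hj)⟩
      one_mem' := ⟨one_mem _, fun _ _ _ _ => Commute.one_right _⟩
      inv_mem' := fun ⟨ha, ha'⟩ => ⟨inv_mem ha, fun h hh j hj => (ha' h hh j hj).inv_right⟩ }
  have hD1 : ∀ {y}, y ∈ D1 ↔ y ∈ W ⊔ V ∧ ∀ h ∈ H, ∀ j ∈ jj T, Commute (h * j * h⁻¹) y := Iff.rfl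
  have hn : ∀ t ∈ T, ∀ y ∈ D1, t * y * t⁻¹ ∈ D1 := by
    intro t ht y hy
    have htH := D.syl.1 ht
    rw [hD1] at hy ⊢
    refine ⟨D.Yn t htH y hy.1, fun h hh j hj => ?_⟩
    have h1 := hy.2 (t⁻¹ * h) (mul_mem (inv_mem htH) hh) j hj
    have h2 := congrArg (fun x => t * x * t⁻¹) h1.eq
    show h * j * h⁻¹ * (t * y * t⁻¹) = (t * y * t⁻¹) * (h * j * h⁻¹)
    simpa [mul_assoc] using h2
  have hbot : D1 = ⊥ := by
    by_contra hne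
    have hTn : T ≤ normalizer (D1 : Set G) := by
      intro t ht
      rw [mem_normalizer_iff]
      refine fun x => ⟨hn t ht x, fun hx => ?_⟩
      have := hn t⁻¹ (inv_mem ht) _ hx
      simpa [mul_assoc] using this
    have hp1 : IsPGroup 2 D1 := by
      rintro ⟨x, hx⟩
      refine ⟨1, Subtype.ext ?_⟩
      show x ^ 2 ^ 1 = 1
      rw [pow_one]
      exact D.Y_sq hx.1
    have : Fact (Nat.Prime 2) := ⟨Nat.prime_two⟩
    apply Cfsg.Agent.PLocal.OffenderStep.inf_centralizer_ne_bot D1 T hp1 D.syl.2.1 hTn hne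
    rw [eq_bot_iff]
    rintro z ⟨hz, hzT⟩
    rw [mem_bot]
    have hz' := hD1.1 hz
    refine D.cZ z (mem_zc.2 ⟨sup_le D.WT D.VT hz'.1, D.Y_sq hz'.1, ?_⟩) fun h hh j hj => (hz'.2 h hh j hj).eq
    exact fun t ht => mem_centralizer_iff.1 hzT t ht
  have : y ∈ D1 := ⟨hy, hc⟩
  rw [hbot] at this
  exact mem_bot.1 this

/-- An element of `W` centralised by `J` and by a set of conjugates which induce all of `⟨J^H⟩` is trivial. -/
theorem eq_one_of_gen [Finite G] {X : Set G} (hX : ∀ x ∈ X, x ∈ D.act')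
    (gen : ∀ h ∈ H, ∀ j ∈ jj T, ∃ k ∈ closure ((jj T : Set G) ∪ X),
      ∀ v ∈ V, h * j * h⁻¹ * v * (h * j * h⁻¹)⁻¹ = k * v * k⁻¹)
    {d : G} (hd : d ∈ W) (hdX : ∀ x ∈ X, x * d = d * x) : d = 1 := by
  have hdY : d ∈ W ⊔ V := mem_sup_left hd
  have hK : closure ((jj T : Set G) ∪ X) ≤ centralizer {d} := by
    rw [closure_le]
    rintro x (hx | hx)
    · rw [SetLike.mem_coe, mem_centralizer_iff]
      rintro _ rfl
      exact (D.WJ _ hd x hx).symm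
    · rw [SetLike.mem_coe, mem_centralizer_iff]
      rintro _ rfl
      exact (hdX x hx).symm
  have hKact : closure ((jj T : Set G) ∪ X) ≤ D.act' := by
    rw [closure_le]
    rintro x (hx | hx)
    · exact D.jj_le_act' hx
    · exact hX x hx
  refine D.eq_one_of_cent hdY fun h hh j hj => ?_
  obtain ⟨k, hk, hkv⟩ := gen h hh j hj
  have hkd : k * d = d * k := (mem_centralizer_iff.1 (hK hk) d rfl).symm
  have hx : k⁻¹ * (h * j * h⁻¹) ∈ D.act' := mul_mem (inv_mem (hKact hk)) (D.cj_act' hh hj)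
  have hxc : ∀ v ∈ V, k⁻¹ * (h * j * h⁻¹) * v = v * (k⁻¹ * (h * j * h⁻¹)) := by
    intro v hv
    have h2 := hkv v hv
    have h3 : k⁻¹ * (h * j * h⁻¹ * v * (h * j * h⁻¹)⁻¹) * k = v := by rw [h2]; group
    have h4 := congrArg (fun t => t * (k⁻¹ * (h * j * h⁻¹))) h3
    have h5 : k⁻¹ * (h * j * h⁻¹ * v * (h * j * h⁻¹)⁻¹) * k * (k⁻¹ * (h * j * h⁻¹)) =
      k⁻¹ * (h * j * h⁻¹) * v := by group
    rw [← h5]
    exact h4
  have h6 := D.cent_Y hx hxc d hdY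
  have h7 : h * j * h⁻¹ = k * (k⁻¹ * (h * j * h⁻¹)) := by group
  have c1 : Commute k d := hkd
  have c2 : Commute (k⁻¹ * (h * j * h⁻¹)) d := h6
  rw [h7]
  exact (c1.mul_left c2).eq

end ROneB

/-- **(R1)**: `W ≤ V`. -/
theorem ROneX.W_le [Finite G] {H T V W : Subgroup G} {X : Set G} (D : ROneX H T V W X) : W ≤ V := by
  intro z hz
  obtain ⟨a, ha, haJ, hax⟩ := D.splitX z hz
  have h1 : z * a⁻¹ = 1 := by
    refine D.toROneB.eq_one_of_gen (X := X) (fun x hx => ?_) D.gen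
      (mul_mem hz (inv_mem (D.V1Z a ha haJ))) hax
    obtain ⟨h, hh, j, hj, rfl⟩ := D.conj x hx
    exact D.toROneB.cj_act' hh hj
  have : z = a := by rwa [mul_inv_eq_one] at h1
  rw [this]
  exact ha

namespace ROne

variable {H T V W : Subgroup G} {w : G} (D : ROne H T V W w)
include D

/-- **(R1)**: `W ≤ V`. -/
theorem W_le [Finite G] : W ≤ V := by
  intro z hz
  have hzY : z ∈ W ⊔ V := mem_sup_left hz
  have hwi : w⁻¹ ∈ H := inv_mem D.wH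
  -- `w⁻¹ z w = z₁ v₁`
  have h1 := D.Yn w⁻¹ hwi z hzY
  rw [inv_inv] at h1
  obtain ⟨z₁, hz₁, v₁, hv₁, e1⟩ := D.toROneB.mem_Y h1
  -- `w v₁ w⁻¹ = a (w b w⁻¹)`
  obtain ⟨a, ha, b, hb, haJ, hbJ, e2⟩ := D.split _ (D.Vn w D.wH v₁ hv₁)
  have haZ := D.V1Z a ha haJ
  have hbZ := D.V1Z b hb hbJ
  -- `d = z a⁻¹ = w (z₁ b) w⁻¹`
  have e3 : z * a⁻¹ = w * (z₁ * b) * w⁻¹ := by
    have e4 : z = (w * z₁ * w⁻¹) * (w * v₁ * w⁻¹) := by
      have : z = w * (w⁻¹ * z * w) * w⁻¹ := by group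
      rw [this, e1]; group
    have hw1 : w * b * w⁻¹ ∈ V := D.Vn w D.wH b hb
    rw [e4, e2, D.Vc a ha _ hw1]
    group
  have hzb : z₁ * b ∈ W := mul_mem hz₁ hbZ
  have hd1 : z * a⁻¹ = 1 := by
    refine D.toROneB.eq_one_of_gen (X := {x | ∃ j ∈ jj T, w * j * w⁻¹ = x}) ?_ D.gen
      (mul_mem hz (inv_mem haZ)) ?_
    · rintro x ⟨j, hj, rfl⟩
      exact D.toROneB.cj_act' D.wH hj
    · rintro x ⟨j, hj, rfl⟩
      have h2 := D.WJ _ hzb j hj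
      rw [e3]
      have h3 := congrArg (fun t => w * t * w⁻¹) h2
      have h4 : w * (j * (z₁ * b)) * w⁻¹ = w * j * w⁻¹ * (w * (z₁ * b) * w⁻¹) := by group
      have h5 : w * (z₁ * b * j) * w⁻¹ = w * (z₁ * b) * w⁻¹ * (w * j * w⁻¹) := by group
      rw [h4, h5] at h3
      exact h3
  have : z = a := by rwa [mul_inv_eq_one] at hd1
  rw [this]
  exact ha

end ROne

end Cfsg.Agent.Omega.OM
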