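import Cfsg.Agent.Omega.NO3S.Basic
import Cfsg.Agent.Omega.LemmaK.Main
import Cfsg.Agent.Omega.OM.LocB

/-!
# NO-3S, several blocks: the abstract situation (OM1 #13281, 609 #14539)

`S` is a Sylow 2-subgroup of `G`, `B = bau S = C_S(Z_J)`, `Z_J = zj S = Ω₁Z(J(S))`.

* `NBlk B L V Z q` : `L` is a natural block over `B` with module `V` of order `q²`, `Z = [V, B]` of order `q`
  (also the 3-cycle blocks of the even-subset modules, `q = 2`);
* `NBlk.cj` : conjugation with elements of `N_G(B)`;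
* `Sit S P L V Z A q` : the line `V_P = zl S P` is the product of the modules `V i` of the blocks `L i ≤ P`, `Z_J` is
  the product of the `Z i`, `O₂(P) ≤ B`, `A i ∈ A(S)` acts only on `V i`, `S` permutes the `V i` transitively.
-/

set_option autoImplicit false

namespace Cfsg.Agent.Omega.OM

open Subgroup Cfsg Cfsg.Agent.ZN Cfsg.Agent.ZN.ChoiceBase Cfsg.Agent.Omega.MinPar Cfsg.Agent.Omega.Frame
open Cfsg.Agent.Omega.LemmaK.Main (Blk)
open Cfsg.Agent.Omega.NO3S (Hyp)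

universe u

variable {G : Type u} [Group G]

/-- `L` is a natural block over `B` with module `V`, `Z = [V, B]`. -/
structure NBlk (B L V Z : Subgroup G) (q : ℕ) : Prop where
  blk : Blk B L V
  one_lt : 1 < q
  VB : V ≤ B
  Vsq : ∀ v ∈ V, v ^ 2 = 1
  Vcomm : ∀ v ∈ V, ∀ w ∈ V, v * w = w * v
  ZV : Z ≤ V
  Zc : ∀ z ∈ Z, ∀ b ∈ B, b * z = z * b
  quad : ∀ v ∈ V, ∀ b ∈ B, b * v * b⁻¹ * v⁻¹ ∈ Z
  cardV : Nat.card V = q * q
  cardZ : Nat.card Z = q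
  /-- `C_V(b) = Z` if `b ∈ B` acts nontrivially -/
  cb : ∀ b ∈ B, (∃ v ∈ V, b * v ≠ v * b) → ∀ v ∈ V, b * v = v * b → v ∈ Z
  off : ∀ A ∈ AA B, ¬ A ≤ centralizer (V : Set G) →
    Nat.card A = Nat.card ↥(A ⊓ centralizer (V : Set G)) * q
  nle : ¬ jj B ≤ centralizer (V : Set G)
  /-- the conjugates of `Z` under `L` are TI -/
  ti : ∀ l ∈ L, ∀ z ∈ Z, z ≠ 1 → l * z * l⁻¹ ∈ Z → l ∈ normalizer (Z : Set G)
  mv : ∃ l ∈ L, l ∉ normalizer (Z : Set G)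
  /-- `N_L(B)` is irreducible on `Z` -/
  irr : ∀ X : Subgroup G, X ≤ Z → (∀ l ∈ L, l ∈ normalizer (B : Set G) → l ∈ normalizer (X : Set G)) →
    X = ⊥ ∨ X = Z

/-- The line `V_P` is a product of modules of natural blocks over `B = bau S`. -/
structure Sit [Finite G] (S : Sylow 2 G) (P : Subgroup G) {ι : Type} (L V Z A : ι → Subgroup G) (q : ℕ) :
    Prop where
  hyp : Hyp S P
  blk : ∀ i, NBlk (bau (S : Subgroup G)) (L i) (V i) (Z i) q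
  LP : ∀ i, L i ≤ P
  LV : ∀ i j, i ≠ j → L j ≤ centralizer (V i : Set G)
  sup : zl (S : Subgroup G) P = ⨆ i, V i
  indep : iSupIndep V
  zj_eq : zj (S : Subgroup G) = ⨆ i, Z i
  core : o2 P ≤ bau (S : Subgroup G)
  AS : ∀ i, A i ∈ AA (S : Subgroup G)
  Ac : ∀ i j, i ≠ j → A i ≤ centralizer (V j : Set G)
  /-- every `b ∈ B` acts on `V i` like an element of `A i` -/
  full : ∀ i, ∀ b ∈ bau (S : Subgroup G), ∃ a ∈ A i, ∀ v ∈ V i, a * v * a⁻¹ = b * v * b⁻¹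
  off : ∀ E ∈ AA (S : Subgroup G),
    Nat.card E * Nat.card ↥(zl (S : Subgroup G) P ⊓ centralizer (E : Set G)) =
      Nat.card ↥(E ⊓ centralizer (zl (S : Subgroup G) P : Set G)) * Nat.card (zl (S : Subgroup G) P)
  perm : ∀ s ∈ (S : Subgroup G), ∀ i, ∃ j, cj s (V i) = V j
  trans : ∀ i j, ∃ s ∈ (S : Subgroup G), cj s (V i) = V j

/-- The torus of the blocks, `q ≥ 4`: `tor` = every element of `N_G(B)` which acts on `Z i` and
`V i Z_J / Z_J` like a pair of inverse scalars acts there like an element of `L i ∩ N_G(B)`; `ex` = such an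
element without fixed points exists. -/
structure Tor (B ZJ L V Z : Subgroup G) : Prop where
  tor : ∀ g ∈ normalizer (B : Set G), g ∈ normalizer (Z : Set G) → (∀ v ∈ V, g * v * g⁻¹ ∈ V ⊔ ZJ) →
    (∀ v ∈ V, ∀ b ∈ B, g * (b * (g * v * g⁻¹) * b⁻¹ * (g * v * g⁻¹)⁻¹) * g⁻¹ = b * v * b⁻¹ * v⁻¹) →
      ∃ d ∈ L, d ∈ normalizer (B : Set G) ∧ (∀ z ∈ Z, d * z * d⁻¹ = g * z * g⁻¹) ∧
        ∀ v ∈ V, (d * v * d⁻¹)⁻¹ * (g * v * g⁻¹) ∈ ZJ
  ex : ∃ d ∈ L, d ∈ normalizer (B : Set G) ∧ Odd (orderOf d) ∧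
    (∀ v ∈ V, ∀ b ∈ B, d * (b * (d * v * d⁻¹) * b⁻¹ * (d * v * d⁻¹)⁻¹) * d⁻¹ = b * v * b⁻¹ * v⁻¹) ∧
    ∀ v ∈ V, d * v = v * d → v = 1

end Cfsg.Agent.Omega.OM
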