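import Cfsg.Agent.Omega.NO3b.Ineq
import Cfsg.Agent.ZN.ChoiceBase
import Cfsg.Agent.ZN.Facts

/-!
# The counting argument behind LEMMA U and the PAIR LEMMA (NO-3S, `q ≥ 4`)

Paper: helper997 #14470 ((U), (PL)), abstract form, K-free.

* `Root S B W Z q` : `B ≤ S` contains all members of `AA S` and acts on the elementary abelian group `W ≤ S` of order
  `q²` like the root group of `SL₂(q)` with centre `Z`; members of `AA S` act trivially or as the full root group.
* `Cfg S B P Q V W Z q'` : `Q ≤ B ≤ P`, `P` normalises `Q` and `V`, `Q` and `W` centralise `V`, `Z ≤ V`, the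
  `P`-conjugates of `W` are in `S` and commute; `yy P V W = V ⟨W^P⟩`.  (`S = B` in the applications with `B`, `B = J(S)`
  in the `J`-version of #15564 (A).)
* `MinA S Y A` : `A ∈ AA S` moves `Y`, with `|A : C_A(Y)|` minimal.
* `Cfg.caseOne` : if some `MinA` is not in `Q` and `Q` moves `W`, then `Z` is centralised by a conjugate of it.
* `Cfg.exists_min` : if `AA S` has a member acting on `V` as a root group which moves `Z` after conjugation
  (`q ≥ 3`), then not all `MinA` are in `Q`.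
-/

set_option autoImplicit false

namespace Cfsg.Agent.Omega.OM.ThreeCore

open Subgroup Cfsg Cfsg.Agent.ZN Cfsg.Agent.ZN.ChoiceBase Cfsg.Agent.PLocal.ThompsonJ
open Cfsg.Agent.Omega.NO3b.Ineq (cidx cidx_inf cidx_chain cidx_pos cidx_eq_one_iff cidx_mono_left rel_ne)

universe u

variable {G : Type u} [Group G]

/-! ### Products of commuting subgroups -/

theorem cent_norm (H : Subgroup G) : centralizer (H : Set G) ≤ normalizer (H : Set G) := by
  intro x hx
  rw [mem_normalizer_iff_cj]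
  ext y
  rw [mem_cj]
  constructor
  · intro h
    have h1 := mem_centralizer_iff.1 hx _ h
    have h2 : y = x⁻¹ * y * x := by
      have : x⁻¹ * y * x * x = x * (x⁻¹ * y * x) := h1
      calc y = x * (x⁻¹ * y * x) * x⁻¹ := by group
        _ = (x⁻¹ * y * x * x) * x⁻¹ := by rw [this]
        _ = x⁻¹ * y * x := by group
    rw [h2]; exact h
  · intro h
    have h1 := mem_centralizer_iff.1 hx _ h
    have h2 : x⁻¹ * y * x = y := by rw [mul_assoc, h1]; group
    rw [h2]; exact h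

theorem mem_sup_comm {X D : Subgroup G} (h : X ≤ centralizer (D : Set G)) {x : G} (hx : x ∈ X ⊔ D) :
    ∃ a ∈ X, ∃ d ∈ D, x = a * d := by
  have h1 : x ∈ ((X ⊔ D : Subgroup G) : Set G) := hx
  rw [coe_mul_of_left_le_normalizer_right X D (h.trans (cent_norm D))] at h1
  obtain ⟨a, ha, d, hd, e⟩ := Set.mem_mul.mp h1
  exact ⟨a, ha, d, hd, e.symm⟩

theorem card_eq_relIndex [Finite G] (K H : Subgroup G) :
    Nat.card H = K.relIndex H * Nat.card ↥(H ⊓ K) := by
  have e := relIndex_inf_mul_relIndex (⊥ : Subgroup G) K H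
  rw [relIndex_bot_left, bot_inf_eq, relIndex_bot_left, mul_comm, inf_comm] at e
  exact e.symm

theorem card_sup_comm [Finite G] {X D : Subgroup G} (h : X ≤ centralizer (D : Set G)) :
    Nat.card (X ⊔ D : Subgroup G) * Nat.card (X ⊓ D : Subgroup G) = Nat.card X * Nat.card D := by
  have hn : X ≤ normalizer (D : Set G) := h.trans (cent_norm D)
  have hKn : (D.subgroupOf (D ⊔ X)).Normal :=
    normal_subgroupOf_of_le_normalizer (sup_le le_normalizer hn)
  have h1 := relIndex_sup_left (X.subgroupOf (D ⊔ X)) (D.subgroupOf (D ⊔ X))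
  rw [← Subgroup.subgroupOf_sup le_sup_left le_sup_right, Subgroup.subgroupOf_self,
    Subgroup.relIndex_subgroupOf le_sup_right, relIndex_top_right] at h1
  have h2 : D.relIndex (D ⊔ X) = D.relIndex X := h1
  have h3 := card_eq_relIndex D (D ⊔ X)
  have h4 := card_eq_relIndex D X
  have h5 : (D ⊔ X) ⊓ D = D := inf_eq_right.2 le_sup_left
  rw [h5, h2] at h3
  rw [sup_comm X D, h3, h4]
  ring

theorem elem_sup {X D : Subgroup G} (hX : IsElementaryAbelian 2 X) (hD : IsElementaryAbelian 2 D)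
    (h : X ≤ centralizer (D : Set G)) : IsElementaryAbelian 2 (X ⊔ D : Subgroup G) := by
  rw [isElementaryAbelian_iff] at *
  have hc : ∀ x ∈ X, ∀ d ∈ D, x * d = d * x := fun x hx d hd => (mem_centralizer_iff.1 (h hx) d hd).symm
  constructor
  · intro x hx y hy
    obtain ⟨a, ha, d, hd, rfl⟩ := mem_sup_comm h hx
    obtain ⟨b, hb, e, he, rfl⟩ := mem_sup_comm h hy
    calc a * d * (b * e) = a * (d * b) * e := by group
      _ = a * (b * d) * e := by rw [hc b hb d hd]
      _ = (a * b) * (d * e) := by group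
      _ = (b * a) * (e * d) := by rw [hX.1 a ha b hb, hD.1 d hd e he]
      _ = b * (a * e) * d := by group
      _ = b * (e * a) * d := by rw [hc a ha e he]
      _ = b * e * (a * d) := by group
  · intro x hx
    obtain ⟨a, ha, d, hd, rfl⟩ := mem_sup_comm h hx
    rw [(show Commute a d from hc a ha d hd).mul_pow, hX.2 a ha, hD.2 d hd, one_mul]

/-- `|W D : K ∩ W D| ≤ |D : K ∩ D|` for `W ≤ K`. -/
theorem relIndex_sup_le [Finite G] {W D K : Subgroup G} (hWD : W ≤ centralizer (D : Set G)) (hWK : W ≤ K) :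
    K.relIndex (W ⊔ D) ≤ K.relIndex D := by
  have h1 := card_sup_comm hWD
  have h2 := card_sup_comm (X := W) (D := D ⊓ K)
    (hWD.trans (centralizer_le (by exact_mod_cast (inf_le_left : D ⊓ K ≤ D))))
  have h3 : W ⊓ (D ⊓ K) = W ⊓ D := by rw [← inf_assoc, inf_eq_left]; exact inf_le_left.trans hWK
  rw [h3] at h2
  have h4 := card_eq_relIndex K (W ⊔ D)
  have h5 := card_eq_relIndex K D
  have h6 : Nat.card (W ⊔ (D ⊓ K) : Subgroup G) ≤ Nat.card ↥((W ⊔ D) ⊓ K) :=
    Subgroup.card_le_of_le (le_inf (sup_le_sup_left inf_le_left _) (sup_le hWK inf_le_right))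
  have hi : 0 < Nat.card (W ⊓ D : Subgroup G) := Nat.card_pos
  have ha : 0 < Nat.card W := Nat.card_pos
  have hk : 0 < Nat.card ↥(D ⊓ K) := Nat.card_pos
  set r := K.relIndex (W ⊔ D)
  set c := K.relIndex D
  have h7 : r * (Nat.card W * Nat.card ↥(D ⊓ K)) ≤ c * (Nat.card W * Nat.card ↥(D ⊓ K)) := by
    calc r * (Nat.card W * Nat.card ↥(D ⊓ K))
        = r * (Nat.card (W ⊔ (D ⊓ K) : Subgroup G) * Nat.card (W ⊓ D : Subgroup G)) := by rw [h2]
      _ ≤ r * (Nat.card ↥((W ⊔ D) ⊓ K) * Nat.card (W ⊓ D : Subgroup G)) := by gcongr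
      _ = (r * Nat.card ↥((W ⊔ D) ⊓ K)) * Nat.card (W ⊓ D : Subgroup G) := by ring
      _ = Nat.card W * Nat.card D := by rw [← h4, h1]
      _ = c * (Nat.card W * Nat.card ↥(D ⊓ K)) := by rw [h5]; ring
  exact Nat.le_of_mul_le_mul_right h7 (Nat.mul_pos ha hk)

/-! ### `AA B` -/

theorem AA.mem_of_comm [Finite G] {B A : Subgroup G} (hA : A ∈ AA B) {x : G} (hx : x ∈ B) (hx2 : x ^ 2 = 1)
    (hc : ∀ a ∈ A, a * x = x * a) : x ∈ A :=
  IsMaxIn.mem_of_comm (T := B) ⟨hA.2.1, hA.1, fun B' h1 h2 => hA.2.2 B' h2 h1⟩ hx hx2 hc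

/-- `|Y : C_Y(A)| ≤ |A : C_A(Y)|` for `A ∈ AA B` and every elementary abelian `Y ≤ B`. -/
theorem off_le [Finite G] {B A Y : Subgroup G} (hA : A ∈ AA B) (hY : IsElementaryAbelian 2 Y) (hYB : Y ≤ B) :
    cidx Y A ≤ cidx A Y := by
  have hc : Y ≤ centralizer ((A ⊓ centralizer (Y : Set G) : Subgroup G) : Set G) := by
    rw [Subgroup.le_centralizer_iff]; exact inf_le_right
  have h1 := card_sup_comm hc
  have h2 : Nat.card (Y ⊔ (A ⊓ centralizer (Y : Set G)) : Subgroup G) ≤ Nat.card A :=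
    hA.2.2 _ (elem_sup hY (isElementaryAbelian_mono hA.1 inf_le_left) hc)
      (sup_le hYB (inf_le_left.trans hA.2.1))
  have h3 : Nat.card (Y ⊓ (A ⊓ centralizer (Y : Set G)) : Subgroup G) ≤
      Nat.card ↥(Y ⊓ centralizer (A : Set G)) := by
    refine Subgroup.card_le_of_le (inf_le_inf_left _ ?_)
    have h4 : A ≤ centralizer (A : Set G) := fun a ha =>
      mem_centralizer_iff.2 fun b hb => (isElementaryAbelian_iff.1 hA.1).1 b hb a ha
    exact inf_le_left.trans h4
  have h5 := card_eq_relIndex (centralizer (A : Set G)) Y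
  have h6 := card_eq_relIndex (centralizer (Y : Set G)) A
  have ha : 0 < Nat.card ↥(A ⊓ centralizer (Y : Set G)) := Nat.card_pos
  have hb : 0 < Nat.card ↥(Y ⊓ centralizer (A : Set G)) := Nat.card_pos
  change (centralizer (A : Set G)).relIndex Y ≤ (centralizer (Y : Set G)).relIndex A
  set r := (centralizer (A : Set G)).relIndex Y
  set c := (centralizer (Y : Set G)).relIndex A
  have h7 : r * (Nat.card ↥(A ⊓ centralizer (Y : Set G)) * Nat.card ↥(Y ⊓ centralizer (A : Set G))) ≤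
      c * (Nat.card ↥(A ⊓ centralizer (Y : Set G)) * Nat.card ↥(Y ⊓ centralizer (A : Set G))) := by
    calc r * (Nat.card ↥(A ⊓ centralizer (Y : Set G)) * Nat.card ↥(Y ⊓ centralizer (A : Set G)))
        = (r * Nat.card ↥(Y ⊓ centralizer (A : Set G))) * Nat.card ↥(A ⊓ centralizer (Y : Set G)) := by ring
      _ = Nat.card (Y ⊔ (A ⊓ centralizer (Y : Set G)) : Subgroup G) *
          Nat.card (Y ⊓ (A ⊓ centralizer (Y : Set G)) : Subgroup G) := by rw [← h5, h1]
      _ ≤ Nat.card A * Nat.card ↥(Y ⊓ centralizer (A : Set G)) := Nat.mul_le_mul h2 h3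
      _ = c * (Nat.card ↥(A ⊓ centralizer (Y : Set G)) * Nat.card ↥(Y ⊓ centralizer (A : Set G))) := by
          rw [h6]; ring
  exact Nat.le_of_mul_le_mul_right h7 (Nat.mul_pos ha hb)

/-- `B` acts on `W` as the root group of `SL₂(q)` with centre `Z`; the members of `AA S` act trivially or as
the full root group. -/
structure Root (S B W Z : Subgroup G) (q : ℕ) : Prop where
  BS : B ≤ S
  AB : ∀ A ∈ AA S, A ≤ B
  comm : W ≤ centralizer (W : Set G)
  sq : ∀ w ∈ W, w ^ 2 = 1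
  WS : W ≤ S
  ZW : Z ≤ W
  cardZ : Nat.card Z = q
  cardW : Nat.card W = q * q
  norm : B ≤ normalizer (W : Set G)
  cent : B ≤ centralizer (Z : Set G)
  fix : ∀ b ∈ B, b ∉ centralizer (W : Set G) → ∀ w ∈ W, b * w = w * b → w ∈ Z
  into : ∀ b ∈ B, ∀ w ∈ W, w * b * w⁻¹ * b⁻¹ ∈ Z
  onto : ∀ b ∈ B, b ∉ centralizer (W : Set G) → ∀ z ∈ Z, ∃ w ∈ W, w * b * w⁻¹ * b⁻¹ = z
  idx : (centralizer (W : Set G)).relIndex B ≤ q
  full : ∀ A ∈ AA S, ¬ A ≤ centralizer (W : Set G) → (centralizer (W : Set G)).relIndex A = q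

namespace Root

variable {S B W Z A Y : Subgroup G} {q : ℕ}

theorem elem (R : Root S B W Z q) : IsElementaryAbelian 2 W :=
  isElementaryAbelian_iff.2 ⟨fun _ ha b hb => (mem_centralizer_iff.1 (R.comm ha) b hb).symm, R.sq⟩

theorem qpos [Finite G] (R : Root S B W Z q) : 0 < q := by
  rw [← R.cardZ]; exact Nat.card_pos

theorem inf_cent (R : Root S B W Z q) (hA : A ≤ B) (hn : ¬ A ≤ centralizer (W : Set G)) :
    W ⊓ centralizer (A : Set G) = Z := by
  apply le_antisymm
  · rintro w ⟨hw, hc⟩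
    obtain ⟨a, ha, hna⟩ := SetLike.not_le_iff_exists.1 hn
    exact R.fix a (hA ha) hna w hw (mem_centralizer_iff.1 hc a ha)
  · refine le_inf R.ZW ?_
    rw [Subgroup.le_centralizer_iff]
    exact hA.trans R.cent

theorem inf_eq [Finite G] (R : Root S B W Z q) (hA : A ∈ AA S) (hn : ¬ A ≤ centralizer (W : Set G)) :
    W ⊓ A = Z := by
  apply le_antisymm
  · rw [← R.inf_cent (R.AB A hA) hn]
    refine inf_le_inf_left _ fun a ha =>
      mem_centralizer_iff.2 fun b hb => (isElementaryAbelian_iff.1 hA.1).1 b hb a ha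
  · refine le_inf R.ZW fun z hz => AA.mem_of_comm hA (R.WS (R.ZW hz)) (R.sq z (R.ZW hz)) fun a ha => ?_
    exact (mem_centralizer_iff.1 (R.cent (R.AB A hA ha)) z hz).symm

/-- `W C_A(W) ∈ AA S`. -/
theorem swap [Finite G] (R : Root S B W Z q) (hA : A ∈ AA S) (hn : ¬ A ≤ centralizer (W : Set G)) :
    W ⊔ (A ⊓ centralizer (W : Set G)) ∈ AA S := by
  have hc : W ≤ centralizer ((A ⊓ centralizer (W : Set G) : Subgroup G) : Set G) := by
    rw [Subgroup.le_centralizer_iff]; exact inf_le_right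
  have h1 := card_sup_comm hc
  have h2 : W ⊓ (A ⊓ centralizer (W : Set G)) = Z := by
    rw [← inf_assoc, R.inf_eq hA hn, inf_eq_left]
    exact R.ZW.trans R.comm
  have h3 := card_eq_relIndex (centralizer (W : Set G)) A
  rw [R.full A hA hn] at h3
  rw [h2, R.cardZ, R.cardW] at h1
  have h4 : Nat.card (W ⊔ (A ⊓ centralizer (W : Set G)) : Subgroup G) = Nat.card A := by
    apply Nat.eq_of_mul_eq_mul_right R.qpos
    rw [h1, h3]; ring
  refine ⟨elem_sup R.elem (isElementaryAbelian_mono hA.1 inf_le_left) hc,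
    sup_le R.WS (inf_le_left.trans hA.2.1), fun B' h5 h6 => ?_⟩
  rw [h4]
  exact hA.2.2 B' h5 h6

end Root

/-- `A ∈ AA S` moves `Y` and `|A : C_A(Y)|` is minimal. -/
structure MinA (S Y A : Subgroup G) : Prop where
  mem : A ∈ AA S
  ne : ¬ A ≤ centralizer (Y : Set G)
  min : ∀ A' ∈ AA S, ¬ A' ≤ centralizer (Y : Set G) → cidx A Y ≤ cidx A' Y

theorem MinA.exists [Finite G] {S Y A' : Subgroup G} (hA : A' ∈ AA S) (hn : ¬ A' ≤ centralizer (Y : Set G)) :
    ∃ A, MinA S Y A := by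
  obtain ⟨A, ⟨h1, h2⟩, h3⟩ := Set.exists_min_image {A : Subgroup G | A ∈ AA S ∧ ¬ A ≤ centralizer (Y : Set G)}
    (fun A => cidx A Y) (Set.toFinite _) ⟨A', hA, hn⟩
  exact ⟨A, h1, h2, fun A'' h4 h5 => h3 A'' ⟨h4, h5⟩⟩

namespace MinA

variable {S B W Z A Y : Subgroup G} {q : ℕ}

/-- A minimal `A` which moves the root module `W ≤ Y` has `C_A(W) ≤ C(Y)`. -/
theorem red [Finite G] (hA : MinA S Y A) (R : Root S B W Z q) (hq : 2 ≤ q) (hWY : W ≤ Y)
    (hY : Y ≤ centralizer (Y : Set G)) (hn : ¬ A ≤ centralizer (W : Set G)) :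
    A ⊓ centralizer (W : Set G) ≤ centralizer (Y : Set G) := by
  by_contra h
  have h1 := R.swap hA.mem hn
  have h2 := hA.min _ h1 fun h3 => h (le_sup_right.trans h3)
  have h3 : cidx (W ⊔ (A ⊓ centralizer (W : Set G))) Y ≤ cidx (A ⊓ centralizer (W : Set G)) Y :=
    relIndex_sup_le (by rw [Subgroup.le_centralizer_iff]; exact inf_le_right) (hWY.trans hY)
  have h4 := cidx_chain (A := A) (B := Y) (E := A ⊓ centralizer (W : Set G)) inf_le_left
    (inf_le_inf_left _ (centralizer_le (by exact_mod_cast hWY)))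
  rw [cidx_inf, show cidx A W = q from R.full A hA.mem hn] at h4
  have h5 := cidx_pos (A ⊓ centralizer (W : Set G)) Y
  nlinarith

theorem cidx_eq [Finite G] (hA : MinA S Y A) (R : Root S B W Z q) (hq : 2 ≤ q) (hWY : W ≤ Y)
    (hY : Y ≤ centralizer (Y : Set G)) (hn : ¬ A ≤ centralizer (W : Set G)) : cidx A Y = q := by
  rw [← R.full A hA.mem hn, ← cidx_inf A Y]
  change _ = cidx A W
  rw [← cidx_inf A W]
  congr 1
  exact le_antisymm (inf_le_inf_left _ (centralizer_le (by exact_mod_cast hWY)))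
    (le_inf inf_le_left (hA.red R hq hWY hY hn))

/-- `Y = W C_Y(A)`. -/
theorem split [Finite G] (hA : MinA S Y A) (R : Root S B W Z q) (hq : 2 ≤ q) (hWY : W ≤ Y)
    (hY : IsElementaryAbelian 2 Y) (hYB : Y ≤ S) (hn : ¬ A ≤ centralizer (W : Set G)) {y : G} (hy : y ∈ Y) :
    ∃ w ∈ W, ∃ c ∈ Y, (∀ a ∈ A, a * c = c * a) ∧ y = w * c := by
  have hYc : Y ≤ centralizer (Y : Set G) := fun y hy =>
    mem_centralizer_iff.2 fun b hb => (isElementaryAbelian_iff.1 hY).1 b hb y hy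
  have h1 := off_le hA.mem hY hYB
  rw [hA.cidx_eq R hq hWY hYc hn] at h1
  set D : Subgroup G := Y ⊓ centralizer (A : Set G) with hD
  have hWD : W ≤ centralizer (D : Set G) :=
    (hWY.trans hYc).trans (centralizer_le (by exact_mod_cast (inf_le_left : D ≤ Y)))
  have h2 := card_sup_comm hWD
  have h3 : W ⊓ D = Z := by
    rw [hD, ← inf_assoc, inf_eq_left.2 hWY, R.inf_cent (R.AB A hA.mem) hn]
  rw [h3, R.cardZ, R.cardW] at h2
  have h4 := card_eq_relIndex (centralizer (A : Set G)) Y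
  have h5 : Nat.card Y ≤ Nat.card (W ⊔ D : Subgroup G) := by
    apply Nat.le_of_mul_le_mul_right _ R.qpos
    rw [h2, h4, mul_assoc]
    have : (centralizer (A : Set G)).relIndex Y ≤ q := h1
    calc (centralizer (A : Set G)).relIndex Y * (Nat.card ↥(Y ⊓ centralizer (A : Set G)) * q)
        ≤ q * (Nat.card ↥(Y ⊓ centralizer (A : Set G)) * q) := by gcongr
      _ = q * q * Nat.card D := by rw [hD]; ring
  have h6 : W ⊔ D = Y := Subgroup.eq_of_le_of_card_ge (sup_le hWY inf_le_left) h5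
  rw [← h6] at hy
  obtain ⟨w, hw, c, hc, e⟩ := mem_sup_comm hWD hy
  exact ⟨w, hw, c, hc.1, fun a ha => mem_centralizer_iff.1 hc.2 a ha, e⟩

/-- `[y, a] ∈ Z`. -/
theorem comm_mem [Finite G] (hA : MinA S Y A) (R : Root S B W Z q) (hq : 2 ≤ q) (hWY : W ≤ Y)
    (hY : IsElementaryAbelian 2 Y) (hYB : Y ≤ S) (hn : ¬ A ≤ centralizer (W : Set G)) {y a : G} (hy : y ∈ Y)
    (ha : a ∈ A) : y * a * y⁻¹ * a⁻¹ ∈ Z := by
  obtain ⟨w, hw, c, -, hc, rfl⟩ := hA.split R hq hWY hY hYB hn hy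
  have h1 : w * c * a * (w * c)⁻¹ * a⁻¹ = w * a * w⁻¹ * a⁻¹ := by
    calc w * c * a * (w * c)⁻¹ * a⁻¹ = w * (c * a) * c⁻¹ * w⁻¹ * a⁻¹ := by group
      _ = w * (a * c) * c⁻¹ * w⁻¹ * a⁻¹ := by rw [hc a ha]
      _ = w * a * w⁻¹ * a⁻¹ := by group
  rw [h1]
  exact R.into a (R.AB A hA.mem ha) w hw

end MinA

theorem relIndex_cj (g : G) (A B : Subgroup G) : (cj g A).relIndex (cj g B) = A.relIndex B :=
  relIndex_map_map_of_injective _ _ (MulAut.conj g).injective

theorem cidx_cj {g : G} {A Y : Subgroup G} (hY : cj g Y = Y) : cidx (cj g A) Y = cidx A Y := by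
  change (centralizer (Y : Set G)).relIndex (cj g A) = (centralizer (Y : Set G)).relIndex A
  rw [← relIndex_cj g (centralizer (Y : Set G)) A, cj_centralizer, hY]

theorem cj_mem_AA' {g : G} {A B : Subgroup G} (hA : A ∈ AA B) (hg : cj g A ≤ B) : cj g A ∈ AA B :=
  ⟨isElementaryAbelian_cj g hA.1, hg, fun B' h1 h2 => by rw [card_cj]; exact hA.2.2 B' h1 h2⟩

theorem cj_le_cent {g : G} {A Y : Subgroup G} :
    cj g A ≤ centralizer (Y : Set G) ↔ A ≤ centralizer ((cj g⁻¹ Y : Subgroup G) : Set G) := by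
  rw [cj_le_iff, cj_centralizer]

theorem MinA.cj {S Y A : Subgroup G} (hA : MinA S Y A) {g : G} (hY : ChoiceBase.cj g Y = Y)
    (hg : ChoiceBase.cj g A ≤ S) : MinA S Y (ChoiceBase.cj g A) := by
  refine ⟨cj_mem_AA' hA.mem hg, fun h => hA.ne ?_, fun A' h1 h2 => ?_⟩
  · rw [cj_le_cent] at h
    have : ChoiceBase.cj g⁻¹ Y = Y := by
      conv_lhs => rw [← hY]
      rw [cj_inv_cj]
    rwa [this] at h
  · rw [cidx_cj hY]
    exact hA.min A' h1 h2

/-! ### The configuration -/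

/-- `V ⟨W^P⟩`. -/
def yy (P V W : Subgroup G) : Subgroup G := V ⊔ ⨆ x : P, cj (x : G) W

/-- The configuration: see the header of the file. -/
structure Cfg (S B P Q V W Z : Subgroup G) (q' : ℕ) : Prop where
  root : Root S B W Z q'
  two : 2 ≤ q'
  BP : B ≤ P
  PQ : P ≤ normalizer (Q : Set G)
  PV : P ≤ normalizer (V : Set G)
  QB : Q ≤ B
  QV : Q ≤ centralizer (V : Set G)
  VV : V ≤ centralizer (V : Set G)
  Vsq : ∀ v ∈ V, v ^ 2 = 1
  VS : V ≤ S
  WV : W ≤ centralizer (V : Set G)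
  WS : ∀ x ∈ P, cj x W ≤ S
  ZV : Z ≤ V
  com : ∀ x ∈ P, cj x W ≤ centralizer (W : Set G)

namespace Cfg

variable {S B P Q V W Z A : Subgroup G} {q q' : ℕ} (h : Cfg S B P Q V W Z q')

theorem V_le_yy : V ≤ yy P V W := le_sup_left

theorem cjW_le_yy {x : G} (hx : x ∈ P) : cj x W ≤ yy P V W :=
  (le_iSup (fun x : P => cj (x : G) W) ⟨x, hx⟩).trans le_sup_right

theorem W_le_yy : W ≤ yy P V W := by
  have := cjW_le_yy (V := V) (W := W) (one_mem P)
  rwa [cj_one] at this

theorem yy_le_of {K : Subgroup G} (hV : V ≤ K) (hW : ∀ x ∈ P, cj x W ≤ K) : yy P V W ≤ K :=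
  sup_le hV (iSup_le fun x => hW x x.2)

include h

theorem cjQ {x : G} (hx : x ∈ P) : cj x Q = Q := cj_eq_of_mem_normalizer (h.PQ hx)

theorem cjV {x : G} (hx : x ∈ P) : cj x V = V := cj_eq_of_mem_normalizer (h.PV hx)

theorem cjWV {x : G} (hx : x ∈ P) : cj x W ≤ centralizer (V : Set G) := by
  have h1 := cj_mono x h.WV
  rwa [cj_centralizer, h.cjV hx] at h1

theorem yy_le_S : yy P V W ≤ S := yy_le_of h.VS fun _ hx => h.WS _ hx

theorem yy_le_cV : yy P V W ≤ centralizer (V : Set G) := yy_le_of h.VV fun _ hx => h.cjWV hx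

theorem cj_yy_le {x : G} (hx : x ∈ P) : cj x (yy P V W) ≤ yy P V W := by
  rw [cj_le_iff]
  refine yy_le_of ?_ fun y hy => ?_
  · rw [← cj_le_iff]
    exact (h.cjV hx).le.trans V_le_yy
  · rw [← cj_le_iff, cj_cj]
    exact cjW_le_yy (P.mul_mem hx hy)

theorem cj_yy {x : G} (hx : x ∈ P) : cj x (yy P V W) = yy P V W := by
  refine le_antisymm (h.cj_yy_le hx) ?_
  have := h.cj_yy_le (P.inv_mem hx)
  rwa [cj_le_iff, inv_inv] at this

theorem comW {x y : G} (hx : x ∈ P) (hy : y ∈ P) : cj y W ≤ centralizer ((cj x W : Subgroup G) : Set G) := by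
  have h1 := h.com (x⁻¹ * y) (P.mul_mem (P.inv_mem hx) hy)
  have h2 := cj_mono x h1
  rwa [cj_cj, cj_centralizer, mul_inv_cancel_left] at h2

theorem yy_comm : yy P V W ≤ centralizer (yy P V W : Set G) := by
  refine yy_le_of ?_ fun x hx => ?_
  · rw [Subgroup.le_centralizer_iff]
    exact h.yy_le_cV
  · rw [Subgroup.le_centralizer_iff]
    refine yy_le_of ?_ fun y hy => h.comW hx hy
    rw [Subgroup.le_centralizer_iff]
    exact h.cjWV hx

theorem yy_elem : IsElementaryAbelian 2 (yy P V W) := by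
  have hc : ∀ a ∈ yy P V W, ∀ b ∈ yy P V W, a * b = b * a := fun a ha b hb =>
    (mem_centralizer_iff.1 (h.yy_comm ha) b hb).symm
  refine isElementaryAbelian_iff.2 ⟨hc, ?_⟩
  let E : Subgroup G :=
    { carrier := {y | y ∈ yy P V W ∧ y ^ 2 = 1}
      mul_mem' := by
        rintro a b ⟨ha, ha2⟩ ⟨hb, hb2⟩
        exact ⟨mul_mem ha hb, by rw [(show Commute a b from hc a ha b hb).mul_pow, ha2, hb2, one_mul]⟩
      one_mem' := ⟨one_mem _, one_pow _⟩
      inv_mem' := by
        rintro a ⟨ha, ha2⟩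
        exact ⟨inv_mem ha, by rw [inv_pow, ha2, inv_one]⟩ }
  have hE : yy P V W ≤ E := by
    refine yy_le_of (fun v hv => ⟨V_le_yy hv, h.Vsq v hv⟩) fun x hx w hw => ⟨cjW_le_yy hx hw, ?_⟩
    obtain ⟨w, hw, rfl⟩ := hw
    rw [← map_pow, h.root.sq w hw, map_one]
  exact fun y hy => (hE hy).2

/-- **Case (I).** -/
theorem caseOne [Finite G] (hA : MinA S (yy P V W) A) {Vj Zj : Subgroup G} (hj : Root S B Vj Zj q) (hq : 2 ≤ q)
    (hV : Vj ≤ V) (hAj : ¬ A ≤ centralizer (Vj : Set G)) {x : G} (hx : x ∈ P)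
    (hxV : x ∈ normalizer (Vj : Set G)) (hxZ : Zj ⊓ cj x Zj = ⊥) {a : G} (ha : a ∈ Q)
    (haW : a ∉ centralizer (W : Set G)) : Z ≤ centralizer ((cj x A : Subgroup G) : Set G) := by
  have hVY : Vj ≤ yy P V W := hV.trans V_le_yy
  have hZY : Z ≤ yy P V W := h.root.ZW.trans W_le_yy
  intro z hz
  rw [mem_centralizer_iff]
  intro e he
  have he' := mem_cj.1 he
  -- `[y, e] ∈ Zj^x` for all `y ∈ Y`
  have key : ∀ y ∈ yy P V W, y * e * y⁻¹ * e⁻¹ ∈ cj x Zj := by
    intro y hy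
    rw [mem_cj]
    have hy' : x⁻¹ * y * x ∈ yy P V W := by
      rw [← mem_cj, h.cj_yy hx]; exact hy
    have := hA.comm_mem hj hq hVY h.yy_elem h.yy_le_S hAj hy' he'
    have e1 : x⁻¹ * (y * e * y⁻¹ * e⁻¹) * x =
        x⁻¹ * y * x * (x⁻¹ * e * x) * (x⁻¹ * y * x)⁻¹ * (x⁻¹ * e * x)⁻¹ := by group
    rw [e1]; exact this
  have hcjZ : cj x Zj ≤ Vj := (cj_mono x hj.ZW).trans (cj_eq_of_mem_normalizer hxV).le
  have heP : e ∈ P := by
    have h1 : cj x A ≤ P := by
      rw [cj_le_iff]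
      refine ((h.root.AB A hA.mem).trans h.BP).trans ?_
      intro y hy
      rw [mem_cj]
      exact P.mul_mem (P.mul_mem (P.inv_mem (P.inv_mem hx)) hy) (P.inv_mem hx)
    exact h1 he
  -- `e` normalises `Z`
  have hnorm : e * z * e⁻¹ ∈ Z := by
    obtain ⟨w, hw, hwz⟩ := h.root.onto a (h.QB ha) haW z hz
    have ha' : e * a * e⁻¹ ∈ Q := by
      have : e * a * e⁻¹ ∈ cj e Q := by
        rw [mem_cj]
        have : e⁻¹ * (e * a * e⁻¹) * e = a := by group
        rw [this]; exact ha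
      rwa [h.cjQ heP] at this
    set a' := e * a * e⁻¹ with ha'def
    set u := e * w * e⁻¹ * w⁻¹ with hudef
    have hu : u ∈ V := by
      have h1 := key w (W_le_yy hw)
      have h2 : u = (w * e * w⁻¹ * e⁻¹)⁻¹ := by rw [hudef]; group
      rw [h2]
      exact V.inv_mem (hV (hcjZ h1))
    set t := w * a' * w⁻¹ * a'⁻¹ with htdef
    have ht : t ∈ Z := h.root.into a' (h.QB ha') w hw
    have hc1 : a' * u⁻¹ = u⁻¹ * a' := (mem_centralizer_iff.1 (h.QV ha') _ (V.inv_mem hu)).symm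
    have hc2 : u * t = t * u := mem_centralizer_iff.1 (h.VV (h.ZV ht)) _ hu
    have h3 : e * z * e⁻¹ = t := by
      rw [← hwz]
      calc e * (w * a * w⁻¹ * a⁻¹) * e⁻¹ = u * w * a' * w⁻¹ * (u⁻¹ * a'⁻¹) := by
            rw [hudef, ha'def]; group
        _ = u * w * a' * w⁻¹ * (a'⁻¹ * (a' * u⁻¹) * a'⁻¹) := by group
        _ = u * w * a' * w⁻¹ * (a'⁻¹ * (u⁻¹ * a') * a'⁻¹) := by rw [hc1]
        _ = u * t * u⁻¹ := by rw [htdef]; group
        _ = t := by rw [hc2]; group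
    rw [h3]; exact ht
  have hk1 := key z (hZY hz)
  have hk2 : z * e * z⁻¹ * e⁻¹ ∈ Z := by
    have : z * e * z⁻¹ * e⁻¹ = z * (e * z * e⁻¹)⁻¹ := by group
    rw [this]
    exact Z.mul_mem hz (Z.inv_mem hnorm)
  have hk3 : z * e * z⁻¹ * e⁻¹ ∈ Zj := by
    rw [← hj.inf_cent (hj.AB A hA.mem) hAj]
    refine ⟨hcjZ hk1, ?_⟩
    have : Z ≤ centralizer (A : Set G) := by
      rw [Subgroup.le_centralizer_iff]; exact (h.root.AB A hA.mem).trans h.root.cent
    exact this hk2
  have hk4 : z * e * z⁻¹ * e⁻¹ ∈ Zj ⊓ cj x Zj := ⟨hk3, hk1⟩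
  rw [hxZ, mem_bot] at hk4
  calc e * z = (z * e * z⁻¹ * e⁻¹)⁻¹ * (z * e) := by group
    _ = z * e := by rw [hk4]; group

/-- Conjugates of a minimal `A ≤ Q` which moves `W`. -/
theorem le_cent [Finite G] (hA : MinA S (yy P V W) A) (hAQ : A ≤ Q) (hAW : ¬ A ≤ centralizer (W : Set G)) {g : G}
    (hg : g ∈ P) (hgZ : g ∉ normalizer (Z : Set G)) : cj g A ≤ centralizer (W : Set G) := by
  intro c hc
  by_contra hcW
  apply hgZ
  have hcQ : c ∈ Q := ((cj_mono g hAQ).trans (h.cjQ hg).le) hc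
  have hc' := mem_cj.1 hc
  have hle : Z ≤ cj g Z := by
    intro z hz
    obtain ⟨w, hw, rfl⟩ := h.root.onto c (h.QB hcQ) hcW z hz
    rw [mem_cj]
    have hw' : g⁻¹ * w * g ∈ yy P V W := by
      rw [← mem_cj, h.cj_yy hg]; exact W_le_yy hw
    have := hA.comm_mem h.root h.two W_le_yy h.yy_elem h.yy_le_S hAW hw' hc'
    have e1 : g⁻¹ * (w * c * w⁻¹ * c⁻¹) * g =
        g⁻¹ * w * g * (g⁻¹ * c * g) * (g⁻¹ * w * g)⁻¹ * (g⁻¹ * c * g)⁻¹ := by group
    rw [e1]; exact this
  have heq : Z = cj g Z := Subgroup.eq_of_le_of_card_ge hle (card_cj g Z).le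
  exact mem_normalizer_iff_cj.2 heq.symm

omit h in
/-- Representatives of the nontrivial cosets of `A' ∩ Q` in `A'`. -/
theorem exists_reps [Finite G] {A' : Subgroup G} (hidx : Q.relIndex A' = q) : ∃ s : Finset G, s.card = q - 1 ∧
    (∀ a ∈ s, a ∈ A' ∧ a ∉ Q) ∧ ∀ a ∈ s, ∀ b ∈ s, a ≠ b → a⁻¹ * b ∉ Q := by
  classical
  have : Fintype (A' ⧸ Q.subgroupOf A') := Fintype.ofFinite _
  let one : A' ⧸ Q.subgroupOf A' := QuotientGroup.mk 1
  have hinj : Function.Injective fun c : A' ⧸ Q.subgroupOf A' => ((Quotient.out c : A') : G) := by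
    intro c d hcd
    have h1 : (Quotient.out c : A') = Quotient.out d := Subtype.ext hcd
    rw [← Quotient.out_eq c, ← Quotient.out_eq d, h1]
  have hmem : ∀ c d : A' ⧸ Q.subgroupOf A', ((Quotient.out c : A') : G)⁻¹ * ((Quotient.out d : A') : G) ∈ Q →
      c = d := by
    intro c d hcd
    have h1 : (Quotient.out c)⁻¹ * (Quotient.out d) ∈ Q.subgroupOf A' := by
      rw [mem_subgroupOf]; simpa using hcd
    have h2 := QuotientGroup.eq.2 h1
    have e1 : (QuotientGroup.mk (Quotient.out c) : A' ⧸ Q.subgroupOf A') = c := Quotient.out_eq c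
    have e2 : (QuotientGroup.mk (Quotient.out d) : A' ⧸ Q.subgroupOf A') = d := Quotient.out_eq d
    rw [e1, e2] at h2
    exact h2
  refine ⟨((Finset.univ.erase one).image fun c => ((Quotient.out c : A') : G)), ?_, ?_, ?_⟩
  · refine (Finset.card_image_of_injective _ hinj).trans ?_
    rw [Finset.card_erase_of_mem (Finset.mem_univ _), Finset.card_univ, ← Nat.card_eq_fintype_card, ← hidx]
    rfl
  · intro a ha
    rw [Finset.mem_image] at ha
    obtain ⟨c, hc, rfl⟩ := ha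
    refine ⟨(Quotient.out c).2, fun hQ => ?_⟩
    apply (Finset.mem_erase.1 hc).1
    have h1 : (1 : A')⁻¹ * (Quotient.out c) ∈ Q.subgroupOf A' := by
      rw [mem_subgroupOf]; simpa using hQ
    have h2 := QuotientGroup.eq.2 h1
    have e1 : (QuotientGroup.mk (Quotient.out c) : A' ⧸ Q.subgroupOf A') = c := Quotient.out_eq c
    rw [e1] at h2
    exact h2.symm
  · intro a ha b hb hab hQ
    rw [Finset.mem_image] at ha hb
    obtain ⟨c, hc, rfl⟩ := ha
    obtain ⟨d, hd, rfl⟩ := hb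
    exact hab (by rw [hmem c d hQ])

/-- **Case (II) is impossible for `q ≥ 3`**: not all minimal `A` are in `Q`. -/
theorem exists_min [Finite G] {A' : Subgroup G} (hA' : A' ∈ AA S) (hidx : Q.relIndex A' = q) (hq : 3 ≤ q)
    (hV : q ≤ cidx V A') {x : G} (hx : x ∈ P)
    (hmove : ∀ a ∈ A', a ∉ Q → x⁻¹ * a * x ∉ normalizer (Z : Set G)) :
    ∃ A, MinA S (yy P V W) A ∧ ¬ A ≤ Q := by
  by_contra hcon
  push Not at hcon
  have hA'P : A' ≤ P := (h.root.AB A' hA').trans h.BP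
  -- a minimal `A₁ ≤ Q` which moves `W`
  have hn : ¬ A' ≤ centralizer (yy P V W : Set G) := by
    intro hc
    have h1 : V ≤ centralizer (A' : Set G) := by
      rw [Subgroup.le_centralizer_iff]
      exact hc.trans (centralizer_le (by exact_mod_cast (V_le_yy : V ≤ yy P V W)))
    rw [cidx_eq_one_iff.2 h1] at hV
    omega
  obtain ⟨A, hA⟩ := MinA.exists hA' hn
  have hAQ := hcon A hA
  obtain ⟨g, hg, hgA⟩ : ∃ g ∈ P, ¬ A ≤ centralizer ((cj g W : Subgroup G) : Set G) := by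
    by_contra hc
    push Not at hc
    apply hA.ne
    rw [Subgroup.le_centralizer_iff]
    refine yy_le_of ?_ fun y hy => ?_
    · rw [Subgroup.le_centralizer_iff]; exact hAQ.trans h.QV
    · rw [Subgroup.le_centralizer_iff]; exact hc y hy
  have hgi : g⁻¹ ∈ P := P.inv_mem hg
  obtain ⟨A₁, hA₁, hA₁Q, hA₁W⟩ : ∃ A₁, MinA S (yy P V W) A₁ ∧ A₁ ≤ Q ∧ ¬ A₁ ≤ centralizer (W : Set G) := by
    have h1 : cj g⁻¹ A ≤ Q := (cj_mono _ hAQ).trans (h.cjQ hgi).le
    refine ⟨cj g⁻¹ A, hA.cj (h.cj_yy hgi) ((h1.trans h.QB).trans h.root.BS), h1, ?_⟩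
    rw [cj_le_cent, inv_inv]
    exact hgA
  clear hA hAQ hgA hg hgi
  have hA'c : ∀ a ∈ A', ∀ b ∈ A', a * b = b * a := (isElementaryAbelian_iff.1 hA'.1).1
  -- the subgroups `D b`, `W b`, `Z b`
  have dQ : ∀ b ∈ A', cj (b * x) A₁ ≤ Q := fun b hb =>
    (cj_mono _ hA₁Q).trans (h.cjQ (P.mul_mem (hA'P hb) hx)).le
  have dV : ∀ b ∈ A', cj (b * x) A₁ ≤ centralizer (V : Set G) := fun b hb => (dQ b hb).trans h.QV
  have dW : ∀ a ∈ A', ∀ b ∈ A', a⁻¹ * b ∉ Q → cj (b * x) A₁ ≤ centralizer ((cj (a * x) W : Subgroup G) : Set G) := by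
    intro a ha b hb hab
    have h1 : x⁻¹ * (a⁻¹ * b) * x ∈ P :=
      P.mul_mem (P.mul_mem (P.inv_mem hx) (P.mul_mem (P.inv_mem (hA'P ha)) (hA'P hb))) hx
    have h2 := h.le_cent hA₁ hA₁Q hA₁W h1 (hmove _ (A'.mul_mem (A'.inv_mem ha) hb) hab)
    have h3 := cj_mono (a * x) h2
    rw [cj_cj, cj_centralizer] at h3
    have e : a * x * (x⁻¹ * (a⁻¹ * b) * x) = b * x := by group
    rwa [e] at h3
  have wD : ∀ b : G, cj (b * x) W ⊓ centralizer ((cj (b * x) A₁ : Subgroup G) : Set G) = cj (b * x) Z := by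
    intro b
    rw [← cj_centralizer, ← cj_inf, h.root.inf_cent (h.root.AB A₁ hA₁.mem) hA₁W]
  have zV : ∀ b ∈ A', cj (b * x) Z ≤ V := fun b hb =>
    (cj_mono _ h.ZV).trans (h.cjV (P.mul_mem (hA'P hb) hx)).le
  have wY : ∀ b ∈ A', cj (b * x) W ≤ yy P V W := fun b hb => cjW_le_yy (P.mul_mem (hA'P hb) hx)
  obtain ⟨s, hs, hsA, hsn⟩ := exists_reps hidx
  classical
  -- the products
  let H : Finset G → Subgroup G := fun t => V ⊔ ⨆ a ∈ t, cj (a * x) W
  have H_le : ∀ {t : Finset G} {K : Subgroup G}, V ≤ K → (∀ a ∈ t, cj (a * x) W ≤ K) → H t ≤ K :=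
    fun h1 h2 => sup_le h1 (iSup₂_le h2)
  have V_le_H : ∀ t, V ≤ H t := fun t => le_sup_left
  have HY : ∀ t : Finset G, (∀ a ∈ t, a ∈ A') → H t ≤ yy P V W := fun t ht =>
    H_le V_le_yy fun a ha => wY a (ht a ha)
  have H_insert : ∀ (b : G) (t : Finset G), H (insert b t) = cj (b * x) W ⊔ H t := by
    intro b t
    change V ⊔ ⨆ a ∈ insert b t, cj (a * x) W = cj (b * x) W ⊔ (V ⊔ ⨆ a ∈ t, cj (a * x) W)
    rw [Finset.iSup_insert, ← sup_assoc, ← sup_assoc, sup_comm V]
  have D_cent : ∀ (b : G) (t : Finset G), b ∈ A' → (∀ a ∈ t, a ∈ A') → (∀ a ∈ t, a⁻¹ * b ∉ Q) →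
      H t ≤ centralizer ((cj (b * x) A₁ : Subgroup G) : Set G) := by
    intro b t hb ht hn
    refine H_le ?_ fun a ha => ?_
    · rw [Subgroup.le_centralizer_iff]; exact dV b hb
    · rw [Subgroup.le_centralizer_iff]; exact dW a (ht a ha) b hb (hn a ha)
  -- the order of `H t`
  have hcard : ∀ t : Finset G, (∀ a ∈ t, a ∈ A') → (∀ a ∈ t, ∀ b ∈ t, a ≠ b → a⁻¹ * b ∉ Q) →
      Nat.card (H t) = Nat.card V * q' ^ t.card := by
    intro t
    induction t using Finset.induction_on with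
    | empty =>
      intro _ _
      have : H ∅ = V := le_antisymm (H_le le_rfl (by simp)) (V_le_H _)
      rw [this]; simp
    | insert b t hbt ih =>
      intro ht hn
      have hb := ht b (Finset.mem_insert_self _ _)
      have ht' : ∀ a ∈ t, a ∈ A' := fun a ha => ht a (Finset.mem_insert_of_mem ha)
      have ih' := ih ht' fun a ha c hc =>
        hn a (Finset.mem_insert_of_mem ha) c (Finset.mem_insert_of_mem hc)
      have h1 : H t ≤ centralizer ((cj (b * x) A₁ : Subgroup G) : Set G) :=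
        D_cent b t hb ht' fun a ha => hn a (Finset.mem_insert_of_mem ha) b (Finset.mem_insert_self _ _)
          (by rintro rfl; exact hbt ha)
      have h2 : cj (b * x) W ⊓ H t = cj (b * x) Z := by
        apply le_antisymm
        · rw [← wD b]
          exact inf_le_inf_left _ h1
        · exact le_inf (cj_mono _ h.root.ZW) ((zV b hb).trans (V_le_H t))
      have h3 : cj (b * x) W ≤ centralizer (H t : Set G) :=
        ((wY b hb).trans h.yy_comm).trans (centralizer_le (by exact_mod_cast HY t ht'))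
      have h4 := card_sup_comm h3
      rw [h2, card_cj, card_cj, h.root.cardZ, h.root.cardW, ← H_insert] at h4
      apply Nat.eq_of_mul_eq_mul_right h.root.qpos
      rw [h4, ih', Finset.card_insert_of_notMem hbt, pow_succ]
      ring
  -- fixed points
  have hfix : ∀ t : Finset G, (∀ a ∈ t, a ∈ A') → (∀ a ∈ t, ∀ b ∈ t, a ≠ b → a⁻¹ * b ∉ Q) →
      ∀ y ∈ H t, (∀ b ∈ t, y ∈ centralizer ((cj (b * x) A₁ : Subgroup G) : Set G)) → y ∈ V := by
    intro t
    induction t using Finset.induction_on with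
    | empty =>
      intro _ _ y hy _
      have : H ∅ = V := le_antisymm (H_le le_rfl (by simp)) (V_le_H _)
      rwa [this] at hy
    | insert b t hbt ih =>
      intro ht hn y hy hyc
      have hb := ht b (Finset.mem_insert_self _ _)
      have ht' : ∀ a ∈ t, a ∈ A' := fun a ha => ht a (Finset.mem_insert_of_mem ha)
      have h1 : H t ≤ centralizer ((cj (b * x) A₁ : Subgroup G) : Set G) :=
        D_cent b t hb ht' fun a ha => hn a (Finset.mem_insert_of_mem ha) b (Finset.mem_insert_self _ _)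
          (by rintro rfl; exact hbt ha)
      have h3 : cj (b * x) W ≤ centralizer (H t : Set G) :=
        ((wY b hb).trans h.yy_comm).trans (centralizer_le (by exact_mod_cast HY t ht'))
      rw [H_insert] at hy
      obtain ⟨w, hw, y', hy', rfl⟩ := mem_sup_comm h3 hy
      have hwV : w ∈ V := by
        apply zV b hb
        rw [← wD b]
        refine ⟨hw, ?_⟩
        have h4 := hyc b (Finset.mem_insert_self _ _)
        have h5 := h1 hy'
        have h6 := mul_mem h4 (inv_mem h5)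
        rwa [mul_inv_cancel_right] at h6
      refine V.mul_mem hwV (ih ht' (fun a ha c hc =>
        hn a (Finset.mem_insert_of_mem ha) c (Finset.mem_insert_of_mem hc)) y' hy' fun c hc => ?_)
      have h4 := hyc c (Finset.mem_insert_of_mem hc)
      have h5 : w ∈ centralizer ((cj (c * x) A₁ : Subgroup G) : Set G) := by
        have : V ≤ centralizer ((cj (c * x) A₁ : Subgroup G) : Set G) := by
          rw [Subgroup.le_centralizer_iff]; exact dV c (ht' c hc)
        exact this hwV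
      have h6 := mul_mem (inv_mem h5) h4
      rwa [inv_mul_cancel_left] at h6
  have hsA' : ∀ a ∈ s, a ∈ A' := fun a ha => (hsA a ha).1
  -- `C_H(A') ≤ V`
  have hC : H s ⊓ centralizer (A' : Set G) ≤ V ⊓ centralizer (A' : Set G) := by
    refine le_inf (fun y hy => hfix s hsA' hsn y hy.1 fun b hb => ?_) inf_le_right
    have h1 : y ∈ centralizer ((cj (1 * x) A₁ : Subgroup G) : Set G) :=
      D_cent 1 s (one_mem _) hsA' (fun a ha hQ => (hsA a ha).2 (by
        rw [mul_one] at hQ; exact (Subgroup.inv_mem_iff _).1 hQ)) hy.1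
    have h2 : b * y * b⁻¹ ∈ centralizer ((cj (b * x) A₁ : Subgroup G) : Set G) := by
      have : cj (b * x) A₁ = cj b (cj (1 * x) A₁) := by rw [cj_cj, one_mul]
      rw [this, ← cj_centralizer, mem_cj]
      have : b⁻¹ * (b * y * b⁻¹) * b = y := by group
      rw [this]; exact h1
    have h3 : b * y * b⁻¹ = y := by
      rw [mem_centralizer_iff.1 hy.2 b (hsA' b hb)]; group
    rwa [h3] at h2
  -- lower bound
  have hlow : q * q' ^ (q - 1) ≤ cidx (H s) A' := by
    have h1 := hcard s hsA' hsn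
    rw [card_eq_relIndex (centralizer (A' : Set G)) (H s), card_eq_relIndex (centralizer (A' : Set G)) V, hs] at h1
    change cidx (H s) A' * _ = cidx V A' * _ * _ at h1
    have h2 := Subgroup.card_le_of_le hC
    have h3 : 0 < Nat.card ↥(V ⊓ centralizer (A' : Set G)) := Nat.card_pos
    have h4 : cidx V A' * q' ^ (q - 1) * Nat.card ↥(V ⊓ centralizer (A' : Set G)) ≤
        cidx (H s) A' * Nat.card ↥(V ⊓ centralizer (A' : Set G)) := by
      calc cidx V A' * q' ^ (q - 1) * Nat.card ↥(V ⊓ centralizer (A' : Set G))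
          = cidx (H s) A' * Nat.card ↥(H s ⊓ centralizer (A' : Set G)) := by rw [h1]; ring
        _ ≤ _ := by gcongr
    have h5 := Nat.le_of_mul_le_mul_right h4 h3
    exact (Nat.mul_le_mul_right _ hV).trans h5
  -- upper bound
  have hup : cidx (H s) A' ≤ q * q' := by
    have h1 := off_le hA' (isElementaryAbelian_mono h.yy_elem (HY s hsA')) ((HY s hsA').trans h.yy_le_S)
    refine h1.trans ?_
    have h2 : (A' ⊓ Q) ⊓ centralizer ((cj x W : Subgroup G) : Set G) ≤ centralizer (H s : Set G) := by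
      rw [Subgroup.le_centralizer_iff]
      refine H_le ?_ fun a ha => ?_
      · rw [Subgroup.le_centralizer_iff]
        exact (inf_le_left.trans inf_le_right).trans h.QV
      · rw [Subgroup.le_centralizer_iff, ← cj_cj]
        intro c hc
        rw [← cj_centralizer, mem_cj, hA'c _ (A'.inv_mem (hsA' a ha)) c hc.1.1, inv_mul_cancel_right]
        exact hc.2
    have h3 : cidx A' (H s) ≤ ((A' ⊓ Q) ⊓ centralizer ((cj x W : Subgroup G) : Set G)).relIndex A' :=
      Subgroup.relIndex_le_of_le_left h2 (rel_ne _ _)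
    refine h3.trans ?_
    rw [← Subgroup.relIndex_mul_relIndex _ (A' ⊓ Q) A' inf_le_left inf_le_left, Subgroup.inf_relIndex_left]
    have h4 : (A' ⊓ Q).relIndex A' = q := by rw [inf_comm, Subgroup.inf_relIndex_right, hidx]
    rw [h4, mul_comm]
    refine Nat.mul_le_mul_left _ ?_
    rw [← cj_centralizer, ← relIndex_cj x⁻¹, cj_inv_cj]
    refine le_trans (Subgroup.relIndex_le_of_le_right ?_ (rel_ne _ _)) h.root.idx
    exact ((cj_mono _ inf_le_right).trans (h.cjQ (P.inv_mem hx)).le).trans h.QB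
  -- contradiction
  have h1 := hlow.trans hup
  have h2 := Nat.le_of_mul_le_mul_left h1 (by omega : 0 < q)
  have h3 : q' ^ 2 ≤ q' ^ (q - 1) := Nat.pow_le_pow_right (by have := h.two; omega) (by omega)
  have h4 := h.two
  nlinarith

end Cfg

end Cfsg.Agent.Omega.OM.ThreeCore
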