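import Cfsg.Agent.Omega.OM.ThreeNat


/-!
# NO-3S, `k` natural modules, `q ≥ 4`: LEMMA U and `N_G(B)` permutes the summands

Paper: helper997 #14470 (U), (V); base (R1) = `OM.NatOut` (helper687).  `B = bau T`.

* `Sit.lemU : n ∈ N_G(bau T) → cj n V = V` (LEMMA U);
* `Sit.norm_le : N_G(bau T) ≤ N_G(V)`.
-/

set_option autoImplicit false

namespace Cfsg.Agent.Omega.OM.ThreeLem

open Subgroup Cfsg Cfsg.Agent.PLocal.ThompsonJ Cfsg.Agent.ZN.ChoiceBase
open Cfsg.Agent.ZN hiding mem_zc bau_le jj_le_bau jj_le mem_zj jj_bau zj_le zj_bau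
open Cfsg.Agent.Omega.NatPair (ext2 ap ap_zero' ap_one' ap_mul ap_one)
open Cfsg.Agent.Lib.SL2Mat
open Cfsg.Agent.Omega.FFThm (NatK ActsSL Off)
open Cfsg.Agent.Omega.OM.ThreeCore Cfsg.Agent.Omega.OM.ThreeNat
open Cfsg.Agent.Omega.NO3b.Ineq (cidx cidx_mono_left rel_ne)

universe u

variable {G : Type u} [Group G]

theorem Root.cj {S B W Z : Subgroup G} {q : ℕ} (R : Root S B W Z q) (n : G) :
    Root (ChoiceBase.cj n S) (ChoiceBase.cj n B) (ChoiceBase.cj n W) (ChoiceBase.cj n Z) q where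
  BS := cj_mono n R.BS
  AB := by
    intro A hA
    have h1 : ChoiceBase.cj n⁻¹ A ∈ AA S := by
      have := cj_mem_AA n⁻¹ hA
      rwa [cj_inv_cj] at this
    have h2 := R.AB _ h1
    rwa [cj_le_iff, inv_inv] at h2
  comm := by rw [← cj_centralizer]; exact cj_mono n R.comm
  sq := by
    rintro _ ⟨w, hw, rfl⟩
    rw [← map_pow, R.sq w hw, map_one]
  WS := cj_mono n R.WS
  ZW := cj_mono n R.ZW
  cardZ := by rw [card_cj, R.cardZ]
  cardW := by rw [card_cj, R.cardW]
  norm := by rw [← cj_normalizer]; exact cj_mono n R.norm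
  cent := by rw [← cj_centralizer]; exact cj_mono n R.cent
  fix := by
    intro b hb hbW w hw hc
    rw [← cj_centralizer, mem_cj] at hbW
    rw [mem_cj] at hb hw ⊢
    refine R.fix _ hb hbW _ hw ?_
    have e1 : n⁻¹ * b * n * (n⁻¹ * w * n) = n⁻¹ * (b * w) * n := by group
    have e2 : n⁻¹ * w * n * (n⁻¹ * b * n) = n⁻¹ * (w * b) * n := by group
    rw [e1, e2, hc]
  into := by
    intro b hb w hw
    rw [mem_cj] at hb hw ⊢
    have := R.into _ hb _ hw
    have e : n⁻¹ * (w * b * w⁻¹ * b⁻¹) * n =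
        n⁻¹ * w * n * (n⁻¹ * b * n) * (n⁻¹ * w * n)⁻¹ * (n⁻¹ * b * n)⁻¹ := by group
    rw [e]; exact this
  onto := by
    intro b hb hbW z hz
    rw [← cj_centralizer, mem_cj] at hbW
    rw [mem_cj] at hb hz
    obtain ⟨w, hw, e⟩ := R.onto _ hb hbW _ hz
    refine ⟨n * w * n⁻¹, ?_, ?_⟩
    · rw [mem_cj]
      have : n⁻¹ * (n * w * n⁻¹) * n = w := by group
      rw [this]; exact hw
    · have : n * w * n⁻¹ * b * (n * w * n⁻¹)⁻¹ * b⁻¹ = n * (w * (n⁻¹ * b * n) * w⁻¹ * (n⁻¹ * b * n)⁻¹) * n⁻¹ := by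
        group
      rw [this, e]; group
  idx := by rw [← cj_centralizer, relIndex_cj]; exact R.idx
  full := by
    intro A hA hn
    have h1 : ChoiceBase.cj n⁻¹ A ∈ AA S := by
      have := cj_mem_AA n⁻¹ hA
      rwa [cj_inv_cj] at this
    have h2 : ¬ ChoiceBase.cj n⁻¹ A ≤ centralizer (W : Set G) := by
      rw [cj_le_cent, inv_inv]; exact hn
    have h3 := R.full _ h1 h2
    rwa [← relIndex_cj n, cj_centralizer, cj_cj_inv] at h3

theorem upd_one {F : Type*} [Field F] {k : ℕ} (j : Fin k) :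
    Function.update (1 : Fin k → Matrix.SpecialLinearGroup (Fin 2) F) j 1 = 1 :=
  Function.update_eq_self_iff.2 rfl

/-- No two conjugates of `V` normalise each other without commuting. -/
def Noff (V : Subgroup G) : Prop :=
  ∀ g h : G, cj g V ≤ normalizer ((cj h V : Subgroup G) : Set G) →
    cj h V ≤ normalizer ((cj g V : Subgroup G) : Set G) → cj g V ≤ centralizer ((cj h V : Subgroup G) : Set G)

/-- The situation of #14470: (R1), NOFF for `V^G`, `q ≥ 4`. -/
structure Sit {F : Type} [Field F] {T H V D : Subgroup G} {k : ℕ} (M : NatK F T H V D k) : Prop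
    extends Bas M where
  noff : Noff V
  q4 : 4 ≤ Nat.card F

namespace Sit

variable {F : Type} [Field F] {T H V D : Subgroup G} {k : ℕ} {M : NatK F T H V D k}

/-- elements acting on the `j`-th summand only -/
theorem exists_single (O : Bas M) (j : Fin k) (A : Matrix.SpecialLinearGroup (Fin 2) F) :
    ∃ x ∈ H, ∀ v ∈ V, x * v * x⁻¹ ∈ V ∧ (∀ l, l ≠ j → M.e (x * v * x⁻¹) l = M.e v l) ∧
      M.e (x * v * x⁻¹) j = ap A (M.e v j) := by
  classical
  obtain ⟨x, hx, h, -⟩ := M.lift (Function.update 1 j A)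
  refine ⟨x, hx, fun v hv => ⟨O.Vn x hx v hv, fun l hl => ?_, ?_⟩⟩
  · rw [h v hv l, Function.update_of_ne hl, Pi.one_apply, ap_one]
  · rw [h v hv j, Function.update_self]

theorem nB {n : G} (hn : n ∈ normalizer (bau T : Set G)) : cj n (bau T) = bau T :=
  cj_eq_of_mem_normalizer hn

theorem nZ [Finite G] {n : G} (hn : n ∈ normalizer (bau T : Set G)) : cj n (zj T) = zj T := by
  have := normalizer_le_of_cj (F := zj) zj_cj (bau T) hn
  rw [zj_bau] at this
  exact cj_eq_of_mem_normalizer this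

theorem zcomp_le_zj (O : Bas M) (i : Fin k) : zcomp M i ≤ zj T := fun v hv => by
  rw [O.mem_zj]
  refine ⟨hv.1.1, fun l => ?_⟩
  by_cases hl : l = i
  · subst hl; exact hv.2
  · rw [hv.1.2 l hl]; rfl

theorem T_norm (T : Subgroup G) : T ≤ normalizer (bau T : Set G) :=
  le_normalizer.trans (normalizer_le_bau T)

/-- An element of `T` which maps `comp i` to `comp j`. -/
theorem exists_trans [Finite G] [Finite F] (O : Bas M) (i j : Fin k) :
    ∃ s ∈ T, cj s (comp M i) = comp M j := by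
  obtain ⟨s, hs, h⟩ := M.trans i j
  obtain ⟨σ, hσ⟩ := M.perm s (O.TH hs)
  have hij : σ i = j := by
    by_contra hne
    obtain ⟨i', rfl⟩ := σ.surjective j
    have hii : i' ≠ i := by rintro rfl; exact hne rfl
    obtain ⟨v, hv, e⟩ := exists_comp M i ![1, 0]
    have h1 := (hσ v hv.1 i').2 (hv.2 i' hii)
    have h2 := (h v hv.1).1 h1
    rw [h2] at e
    have := congrFun e 0
    simp at this
  refine ⟨s, hs, ?_⟩
  refine Subgroup.eq_of_le_of_card_ge ?_ (by rw [card_cj, O.card_comp, O.card_comp])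
  rintro _ ⟨v, hv, rfl⟩
  refine ⟨O.Vn s (O.TH hs) v hv.1, fun l hl => ?_⟩
  obtain ⟨i', rfl⟩ := σ.surjective l
  exact (hσ v hv.1 i').2 (hv.2 i' fun h => hl (by rw [h, hij]))

variable (h : Sit M)
include h

theorem cfg [Finite G] [Finite F] {n : G} (hn : n ∈ normalizer (bau T : Set G)) (i : Fin k) :
    Cfg (bau T) (bau T) H (o2 H) V (cj n (comp M i)) (cj n (zcomp M i)) (Nat.card F) := by
  have O := h.toBas
  have hB := nB hn
  have hVB : cj n V ≤ bau T := by rw [← hB]; exact cj_mono n O.VB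
  have hBV : bau T ≤ normalizer (V : Set G) := O.BH.trans O.HV
  have hBV' : bau T ≤ normalizer ((cj n V : Subgroup G) : Set G) := by
    rw [← cj_normalizer]
    conv_lhs => rw [← hB]
    exact cj_mono n hBV
  have hc : cj n V ≤ centralizer (V : Set G) := by
    have := h.noff n 1
    rw [cj_one] at this
    exact this (hVB.trans hBV) (O.VB.trans hBV')
  have hVQ : cj n V ≤ o2 H := fun x hx =>
    (O.mem_o2 x).2 ⟨bau_le T (hVB hx), fun v hv => (mem_centralizer_iff.1 (hc hx) v hv).symm⟩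
  have hQ : ∀ x ∈ H, cj x (o2 H) = o2 H := fun x hx =>
    cj_eq_of_mem_normalizer (Cfsg.Agent.ZN.le_normalizer_o2 H hx)
  refine
    { root := by
        have := Root.cj (O.root i) n
        rwa [hB] at this
      two := by have := h.q4; omega
      BP := O.BH
      PQ := Cfsg.Agent.ZN.le_normalizer_o2 H
      PV := O.HV
      QB := O.o2_le
      QV := O.QV
      VV := O.comm
      Vsq := O.sq
      VS := O.VB
      WV := ((cj_mono n (Bas.comp_le i)).trans hVQ).trans O.QV
      WS := fun x hx =>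
        ((cj_mono x ((cj_mono n (Bas.comp_le i)).trans hVQ)).trans (hQ x hx).le).trans O.o2_le
      ZV := (cj_mono n (zcomp_le_zj O i)).trans ((nZ hn).le.trans O.zj_le)
      com := ?_ }
  intro x hx
  have h1 : cj (x * n) V ≤ centralizer ((cj n V : Subgroup G) : Set G) := by
    refine h.noff (x * n) n ?_ ?_
    · rw [← cj_cj]
      exact ((cj_mono x hVQ).trans (hQ x hx).le).trans (O.o2_le.trans hBV')
    · rw [← cj_cj, ← cj_normalizer]
      refine (hVQ.trans (hQ x hx).ge).trans (cj_mono x (O.o2_le.trans hBV'))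
  rw [cj_cj]
  exact ((cj_mono _ (Bas.comp_le i)).trans h1).trans
    (centralizer_le (by exact_mod_cast cj_mono n (Bas.comp_le i)))

/-- There is `A' ∈ AA (bau T)` acting on the `j`-th summand only. -/
theorem exists_A [Finite G] [Finite F] (j : Fin k) : ∃ A ∈ AA (bau T),
    (∀ a ∈ A, ∃ c : F, ActsSL M.e V D a (Function.update 1 j (up c))) ∧ (o2 H).relIndex A = Nat.card F ∧
      Nat.card F ≤ cidx V A := by
  classical
  have O := h.toBas
  obtain ⟨A, hA, h1, h2⟩ := O.AA_up j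
  have hA' := AA_bau.2 hA
  have hn : ¬ A ≤ centralizer (comp M j : Set G) := by
    intro hc
    obtain ⟨a, ha, h3⟩ := h2 1
    obtain ⟨v, hv, e⟩ := exists_comp M j ![0, 1]
    have h4 := mem_centralizer_iff.1 (hc ha) v hv
    have h5 : a * v * a⁻¹ = v := by rw [← h4]; group
    have h6 := h3.1 v hv.1 j
    rw [h5, Function.update_self, e] at h6
    have := congrFun h6 0
    rw [ap_zero', up_00, up_01] at this
    simp at this
  have R := O.root j
  refine ⟨A, hA', h1, ?_, ?_⟩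
  · rw [← R.full A hA' hn, ← Subgroup.inf_relIndex_right, ← Subgroup.inf_relIndex_right (centralizer _)]
    congr 1
    ext a
    simp only [mem_inf, and_congr_left_iff]
    intro ha
    constructor
    · intro h3
      exact mem_centralizer_iff.2 fun v hv => (((O.mem_o2 a).1 h3).2 v hv.1).symm
    · intro h3
      refine (O.mem_o2 a).2 ⟨hA.2.1 ha, fun v hv => ?_⟩
      obtain ⟨c, hc⟩ := h1 a ha
      obtain ⟨w, hw, e⟩ := exists_comp M j ![0, 1]
      have h4 := mem_centralizer_iff.1 h3 w hw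
      have h5 : a * w * a⁻¹ = w := by rw [← h4]; group
      have h6 := hc.1 w hw.1 j
      rw [h5, Function.update_self, e] at h6
      have h7 := congrFun h6 0
      rw [ap_zero', up_00, up_01] at h7
      have h8 : c = 0 := by simpa using h7.symm
      have h9 : a * v * a⁻¹ = v := by
        refine O.inj _ (O.Vn a (O.TH (hA.2.1 ha)) v hv) _ hv (funext fun l => ?_)
        rw [hc.1 v hv l, h8, up_zero, upd_one, Pi.one_apply, ap_one]
      have h10 := congrArg (fun t => t * a) h9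
      simpa [mul_assoc] using h10
  · refine le_trans ?_ (cidx_mono_left (Bas.comp_le (M := M) j) A)
    have h3 := card_eq_relIndex (centralizer (A : Set G)) (comp M j)
    rw [R.inf_cent hA'.2.1 hn, R.cardZ, R.cardW] at h3
    exact (Nat.eq_of_mul_eq_mul_right R.qpos h3).le

/-- **LEMMA U** (helper997 #14470). -/
theorem lemU [Finite G] [Finite F] {n : G} (hn : n ∈ normalizer (bau T : Set G)) : cj n V = V := by
  classical
  have O := h.toBas
  suffices hi : ∀ i, cj n (comp M i) ≤ V by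
    refine Subgroup.eq_of_le_of_card_ge ?_ (by rw [card_cj])
    rw [cj_le_iff]
    exact V_le_of M O.inj fun i => by rw [← cj_le_iff]; exact hi i
  intro i
  have C := h.cfg hn i
  set W := cj n (comp M i) with hW
  set Z := cj n (zcomp M i) with hZ
  have hZz : Z ≤ zj T := (cj_mono n (zcomp_le_zj O i)).trans (nZ hn).le
  have hZ1 : ∀ z ∈ Z, ∀ l, M.e z l 1 = 0 := fun z hz => ((O.mem_zj z).1 (hZz hz)).2
  have hq := h.q4
  -- the Weyl elements
  choose x hxH hx using fun j => exists_single O j (wm (1 : F) one_ne_zero)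
  -- `e v j` in terms of `e (x⁻¹ v x) j`
  have hxi : ∀ j, ∀ v ∈ V, (x j)⁻¹ * v * x j ∈ V ∧ M.e v j 0 = M.e ((x j)⁻¹ * v * x j) j 1 ∧
      M.e v j 1 = - M.e ((x j)⁻¹ * v * x j) j 0 := by
    intro j v hv
    have h1 := O.Vn _ (inv_mem (hxH j)) v hv
    rw [inv_inv] at h1
    have h2 := (hx j _ h1).2.2
    have e : x j * ((x j)⁻¹ * v * x j) * (x j)⁻¹ = v := by group
    rw [e] at h2
    refine ⟨h1, ?_, ?_⟩
    · rw [h2, ap_zero', wm_00, wm_01]; simp
    · rw [h2, ap_one', wm_10, wm_11]; simp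
  -- some `z ∈ Z` has a nontrivial component
  obtain ⟨z₀, hz₀, hz₀1⟩ : ∃ z ∈ Z, z ≠ 1 := by
    by_contra hc
    push Not at hc
    have : Z = ⊥ := (eq_bot_iff_forall _).2 hc
    have h2 := C.root.cardZ
    rw [this, Subgroup.card_bot] at h2
    omega
  obtain ⟨j, hj⟩ : ∃ j, M.e z₀ j 0 ≠ 0 := by
    by_contra hc
    push Not at hc
    apply hz₀1
    refine O.ext (C.ZV hz₀) (one_mem _) (fun l => ?_) fun l => ?_
    · rw [hc l, e_one]; rfl
    · rw [hZ1 z₀ hz₀ l, e_one]; rfl
  obtain ⟨A', hA', hA'1, hA'2, hA'3⟩ := h.exists_A j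
  obtain ⟨A, hA, hAQ⟩ := C.exists_min hA' hA'2 (by omega) hA'3 (hxH j) (by
    intro a ha haQ hnorm
    obtain ⟨c, hc⟩ := hA'1 a ha
    have haH : a ∈ H := O.BH (hA'.2.1 ha)
    have hc0 : c ≠ 0 := by
      rintro rfl
      apply haQ
      refine (O.mem_o2 a).2 ⟨bau_le T (hA'.2.1 ha), fun v hv => ?_⟩
      have h9 : a * v * a⁻¹ = v := by
        refine O.inj _ (O.Vn a haH v hv) _ hv (funext fun l => ?_)
        rw [hc.1 v hv l, up_zero, upd_one, Pi.one_apply, ap_one]
      have h10 := congrArg (fun t => t * a) h9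
      simpa [mul_assoc] using h10
    set z' := (x j)⁻¹ * a * x j * z₀ * ((x j)⁻¹ * a * x j)⁻¹ with hz'
    have h1 : z' ∈ Z := (mem_normalizer_iff.1 hnorm z₀).1 hz₀
    -- `x z' x⁻¹ = a (x z₀ x⁻¹) a⁻¹`
    have h2 := (hx j z' (C.ZV h1)).2.2
    have h3 := (hx j z₀ (C.ZV hz₀))
    have h4 := hc.1 _ h3.1 j
    have e : a * (x j * z₀ * (x j)⁻¹) * a⁻¹ = x j * z' * (x j)⁻¹ := by rw [hz']; group
    rw [e, h2, Function.update_self, h3.2.2] at h4
    have h5 := congrFun h4 0
    simp only [ap_zero', ap_one', wm_00, wm_01, wm_10, wm_11, up_00, up_01] at h5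
    rw [hZ1 z' h1, hZ1 z₀ hz₀] at h5
    have h6 : c * M.e z₀ j 0 = 0 := by simpa using h5
    exact hj ((mul_eq_zero.1 h6).resolve_left hc0))
  -- case (I)
  have hQW : o2 H ≤ centralizer (W : Set G) := by
    by_contra hcon
    obtain ⟨a, ha, haW⟩ := SetLike.not_le_iff_exists.1 hcon
    have key : ∀ A, MinA (bau T) (yy H V W) A → ∀ j, ¬ A ≤ centralizer (comp M j : Set G) →
        ∀ z ∈ Z, M.e z j 0 = 0 := by
      intro A hA j hAj z hz
      have hxn : x j ∈ normalizer (comp M j : Set G) := mem_normalizer_of_cj_le (by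
        rintro _ ⟨v, hv, rfl⟩
        exact ⟨(hx j v hv.1).1, fun l hl => ((hx j v hv.1).2.1 l hl).trans (hv.2 l hl)⟩)
      have hdisj : zcomp M j ⊓ cj (x j) (zcomp M j) = ⊥ := by
        rw [eq_bot_iff_forall]
        rintro v ⟨hv, hv'⟩
        replace hv' := mem_cj.1 hv'
        have h1 := hxi j v hv.1.1
        refine O.ext hv.1.1 (one_mem _) (fun l => ?_) fun l => ?_
        · rw [e_one]
          by_cases hl : l = j
          · subst hl; rw [h1.2.1, hv'.2]; rfl
          · rw [hv.1.2 l hl]; rfl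
        · rw [e_one]
          by_cases hl : l = j
          · subst hl; rw [hv.2]; rfl
          · rw [hv.1.2 l hl]; rfl
      have h1 := C.caseOne hA (O.root j) (by omega) (Bas.comp_le j) hAj (hxH j) hxn hdisj ha haW
      obtain ⟨a', ha', ha'n⟩ := SetLike.not_le_iff_exists.1 hAj
      obtain ⟨c, hc⟩ := O.act (hA.mem.2.1 ha')
      rw [O.mem_cent_iff hc] at ha'n
      have h2 := mem_centralizer_iff.1 (h1 hz) (x j * a' * (x j)⁻¹) (by
        rw [SetLike.mem_coe, mem_cj]
        have : (x j)⁻¹ * (x j * a' * (x j)⁻¹) * x j = a' := by group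
        rw [this]; exact ha')
      have h3 := hxi j z (C.ZV hz)
      have h4 : a' * ((x j)⁻¹ * z * x j) * a'⁻¹ = (x j)⁻¹ * z * x j := by
        calc a' * ((x j)⁻¹ * z * x j) * a'⁻¹ =
            (x j)⁻¹ * (x j * a' * (x j)⁻¹ * z) * (x j * a' * (x j)⁻¹)⁻¹ * x j := by group
          _ = (x j)⁻¹ * z * x j := by rw [h2]; group
      have h5 := ((hc _ h3.1).2 j).1
      rw [h4] at h5
      rw [h3.2.1]
      exact (mul_eq_zero.1 (left_eq_add.1 h5)).resolve_left ha'n
    obtain ⟨j₀, hj₀⟩ : ∃ j₀, ¬ A ≤ centralizer (comp M j₀ : Set G) := by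
      by_contra hc
      push Not at hc
      apply hAQ
      have h1 : V ≤ centralizer (A : Set G) := V_le_of M O.inj fun l => by
        rw [Subgroup.le_centralizer_iff]; exact hc l
      intro b hb
      exact (O.mem_o2 b).2 ⟨bau_le T (hA.mem.2.1 hb), fun v hv => mem_centralizer_iff.1 (h1 hv) b hb⟩
    obtain ⟨s, hs, hsj⟩ := exists_trans O j₀ j
    have hsH : s ∈ H := O.TH hs
    have h1 : cj s A ≤ bau T := (cj_mono s hA.mem.2.1).trans (nB (T_norm T hs)).le
    refine hj (key (cj s A) (hA.cj (C.cj_yy hsH) h1) j ?_ z₀ hz₀)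
    rw [cj_le_cent, ← hsj, cj_inv_cj]
    exact hj₀
  intro w hw
  have hwQ : w ∈ o2 H := (O.mem_o2 w).2 ⟨bau_le T (C.root.WS hw), fun v hv =>
    (mem_centralizer_iff.1 (C.WV hw) v hv).symm⟩
  have h1 : w ∈ zc (o2 H) := mem_zc.2 ⟨hwQ, C.root.sq w hw, fun y hy =>
    (mem_centralizer_iff.1 (hQW hy) w hw).symm⟩
  rwa [O.zc_eq] at h1

/-- `N_G(B) ≤ N_G(V)`. -/
theorem norm_le [Finite G] [Finite F] : normalizer (bau T : Set G) ≤ normalizer (V : Set G) :=
  fun _ hn => mem_normalizer_iff_cj.2 (h.lemU hn)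

end Sit

end Cfsg.Agent.Omega.OM.ThreeLem
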