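import Cfsg.Agent.Omega.OM.ROneNat
import Cfsg.Agent.Omega.OM.ThreeCore

/-!
# The summands of a natural module as root modules for `B = bau T`

`M : NatK F T H V D k` with the output `NatOut M` of (R1); `comp M i` = the `i`-th summand, `zcomp M i` = its line
`{x | x 1 = 0}`.  `Bas.root : Root (bau T) (bau T) (comp M i) (zcomp M i) |F|`.
-/

set_option autoImplicit false

namespace Cfsg.Agent.Omega.OM.ThreeNat

open Subgroup Cfsg Cfsg.Agent.PLocal.ThompsonJ Cfsg.Agent.ZN.ChoiceBase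
open Cfsg.Agent.ZN hiding mem_zc bau_le jj_le_bau jj_le mem_zj jj_bau zj_le
open Cfsg.Agent.ZN.ChoiceSit (Syl)
open Cfsg.Agent.Omega.NatPair (ext2 ap ap_zero' ap_one' ap_mul ap_one)
open Cfsg.Agent.Lib.SL2Mat
open Cfsg.Agent.Omega.FFThm (NatK ActsSL Off)
open Cfsg.Agent.Omega.OM.ThreeCore
open Cfsg.Agent.Omega.NO3b.Ineq (cidx rel_ne)

universe u

variable {G : Type u} [Group G]

/-! ### Indices by functions -/

theorem relIndex_le_of_fun [Finite G] {X : Type*} [Finite X] {A C : Subgroup G} (f : G → X)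
    (hf : ∀ a ∈ A, ∀ b ∈ A, f a = f b → a⁻¹ * b ∈ C) : C.relIndex A ≤ Nat.card X := by
  refine Nat.card_le_card_of_injective (fun c : A ⧸ C.subgroupOf A => f ((Quotient.out c : A) : G)) ?_
  intro c d hcd
  have h1 := hf _ (Quotient.out c).2 _ (Quotient.out d).2 hcd
  have h2 : (Quotient.out c)⁻¹ * (Quotient.out d) ∈ C.subgroupOf A := by
    rw [mem_subgroupOf]; simpa using h1
  have h3 := QuotientGroup.eq.2 h2
  have e1 : (QuotientGroup.mk (Quotient.out c) : A ⧸ C.subgroupOf A) = c := Quotient.out_eq c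
  have e2 : (QuotientGroup.mk (Quotient.out d) : A ⧸ C.subgroupOf A) = d := Quotient.out_eq d
  rw [e1, e2] at h3
  exact h3

theorem le_relIndex_of_fun [Finite G] {X : Type*} {A C : Subgroup G} (f : G → X)
    (hf : ∀ a ∈ A, ∀ b ∈ A, a⁻¹ * b ∈ C → f a = f b) (hs : ∀ x, ∃ a ∈ A, f a = x) : Nat.card X ≤ C.relIndex A := by
  choose g hg hfg using hs
  refine Nat.card_le_card_of_injective (fun x : X => (QuotientGroup.mk (⟨g x, hg x⟩ : A) : A ⧸ C.subgroupOf A)) ?_
  intro x y hxy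
  have h1 := QuotientGroup.eq.1 hxy
  rw [mem_subgroupOf] at h1
  have h2 := hf _ (hg x) _ (hg y) (by simpa using h1)
  rw [hfg, hfg] at h2
  exact h2

section comp

variable {F : Type} [Field F] {T H V D : Subgroup G} {k : ℕ} (M : NatK F T H V D k)

theorem e_one : M.e 1 = 0 := by
  have := M.mul 1 (one_mem V) 1 (one_mem V)
  rw [one_mul] at this
  exact left_eq_add.1 this

theorem e_inv {v : G} (hv : v ∈ V) : M.e v⁻¹ = - M.e v := by
  have := M.mul v hv v⁻¹ (inv_mem hv)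
  rw [mul_inv_cancel, e_one] at this
  exact (neg_eq_of_add_eq_zero_right this.symm).symm

/-- The `i`-th summand of `V`. -/
def comp (i : Fin k) : Subgroup G where
  carrier := {v | v ∈ V ∧ ∀ l, l ≠ i → M.e v l = 0}
  mul_mem' := by
    rintro a b ⟨ha, ha'⟩ ⟨hb, hb'⟩
    refine ⟨mul_mem ha hb, fun l hl => ?_⟩
    rw [M.mul a ha b hb, Pi.add_apply, ha' l hl, hb' l hl, add_zero]
  one_mem' := ⟨one_mem _, fun l _ => by rw [e_one]; rfl⟩
  inv_mem' := by
    rintro a ⟨ha, ha'⟩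
    refine ⟨inv_mem ha, fun l hl => ?_⟩
    rw [e_inv M ha, Pi.neg_apply, ha' l hl, neg_zero]

theorem mem_comp {i : Fin k} {v : G} : v ∈ comp M i ↔ v ∈ V ∧ ∀ l, l ≠ i → M.e v l = 0 := Iff.rfl

/-- The line `{x | x 1 = 0}` of the `i`-th summand. -/
def zcomp (i : Fin k) : Subgroup G where
  carrier := {v | v ∈ comp M i ∧ M.e v i 1 = 0}
  mul_mem' := by
    rintro a b ⟨ha, ha'⟩ ⟨hb, hb'⟩
    refine ⟨mul_mem ha hb, ?_⟩
    rw [M.mul a ha.1 b hb.1, Pi.add_apply, Pi.add_apply, ha', hb', add_zero]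
  one_mem' := ⟨one_mem _, by rw [e_one]; rfl⟩
  inv_mem' := by
    rintro a ⟨ha, ha'⟩
    refine ⟨inv_mem ha, ?_⟩
    rw [e_inv M ha.1, Pi.neg_apply, Pi.neg_apply, ha', neg_zero]

theorem mem_zcomp {i : Fin k} {v : G} : v ∈ zcomp M i ↔ v ∈ comp M i ∧ M.e v i 1 = 0 := Iff.rfl

theorem exists_comp (i : Fin k) (x : Fin 2 → F) : ∃ v ∈ comp M i, M.e v i = x := by
  classical
  obtain ⟨v, hv, e⟩ := M.surj (Function.update 0 i x)
  refine ⟨v, ⟨hv, fun l hl => ?_⟩, ?_⟩
  · rw [e, Function.update_of_ne hl]; rfl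
  · rw [e, Function.update_self]

/-- A subgroup containing all summands contains `V`. -/
theorem V_le_of (hinj : ∀ v ∈ V, ∀ v' ∈ V, M.e v = M.e v' → v = v') {K : Subgroup G}
    (hK : ∀ i, comp M i ≤ K) : V ≤ K := by
  classical
  have key : ∀ s : Finset (Fin k), ∀ v ∈ V, (∀ i, i ∉ s → M.e v i = 0) → v ∈ K := by
    intro s
    induction s using Finset.induction_on with
    | empty =>
      intro v hv h
      have : v = 1 := hinj v hv 1 (one_mem _) (by rw [e_one]; funext i; exact h i (by simp))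
      rw [this]; exact one_mem _
    | insert i s hi ih =>
      intro v hv h
      obtain ⟨w, hw, e⟩ := exists_comp M i (M.e v i)
      have h1 : v * w⁻¹ ∈ K := by
        refine ih _ (mul_mem hv (inv_mem hw.1)) fun l hl => ?_
        rw [M.mul v hv _ (inv_mem hw.1), e_inv M hw.1, Pi.add_apply, Pi.neg_apply]
        by_cases hli : l = i
        · subst hli; rw [e, add_neg_cancel]
        · rw [hw.2 l hli, h l (by simp [hli, hl]), neg_zero, add_zero]
      have h2 := K.mul_mem h1 (hK i hw)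
      rwa [inv_mul_cancel_right] at h2
  exact fun v hv => key Finset.univ v hv (by simp)

end comp

theorem AA_bau [Finite G] {T A : Subgroup G} : A ∈ AA (bau T) ↔ A ∈ AA T := by
  constructor
  · intro h
    rw [mem_AA_iff] at h ⊢
    exact ⟨h.1, h.2.1.trans (bau_le T), by rw [← mm_bau T]; exact h.2.2⟩
  · intro h
    have h1 := (le_jj h).trans (jj_le_bau T)
    rw [mem_AA_iff] at h ⊢
    exact ⟨h.1, h1, by rw [mm_bau T]; exact h.2.2⟩

/-- (R1), `T ≤ H`, and `H` normalises `V`. -/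
structure Bas {F : Type} [Field F] {T H V D : Subgroup G} {k : ℕ} (M : NatK F T H V D k) : Prop
    extends NatOut M where
  TH : T ≤ H
  Vn : ∀ h ∈ H, ∀ v ∈ V, h * v * h⁻¹ ∈ V

namespace Bas

variable {F : Type} [Field F] {T H V D : Subgroup G} {k : ℕ} {M : NatK F T H V D k} (O : Bas M)

include O

theorem VQ : V ≤ o2 H := by
  have := zc_le (o2 H)
  rwa [O.zc_eq] at this

theorem QV : o2 H ≤ centralizer (V : Set G) := fun x hx =>
  mem_centralizer_iff.2 fun v hv => (((O.mem_o2 x).1 hx).2 v hv).symm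

theorem comm : V ≤ centralizer (V : Set G) := O.VQ.trans O.QV

theorem sq : ∀ v ∈ V, v ^ 2 = 1 := by
  intro v hv
  rw [← O.zc_eq] at hv
  exact (mem_zc.1 hv).2.1

theorem VB : V ≤ bau T := O.VQ.trans O.o2_le

theorem BH : bau T ≤ H := (bau_le T).trans O.TH

theorem HV [Finite G] : H ≤ normalizer (V : Set G) := fun x hx =>
  mem_normalizer_of_cj_le (by
    rintro _ ⟨v, hv, rfl⟩
    exact O.Vn x hx v hv)


theorem ext {v w : G} (hv : v ∈ V) (hw : w ∈ V) (h0 : ∀ i, M.e v i 0 = M.e w i 0)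
    (h1 : ∀ i, M.e v i 1 = M.e w i 1) : v = w :=
  O.inj v hv w hw (funext fun i => ext2 (h0 i) (h1 i))

/-- the action of `bau T` -/
theorem act {b : G} (hb : b ∈ bau T) : ∃ c : Fin k → F, ∀ v ∈ V, b * v * b⁻¹ ∈ V ∧
    ∀ l, M.e (b * v * b⁻¹) l 0 = M.e v l 0 + c l * M.e v l 1 ∧ M.e (b * v * b⁻¹) l 1 = M.e v l 1 := by
  obtain ⟨c, hc, -⟩ := O.bau_up b hb
  refine ⟨c, fun v hv => ⟨O.Vn b (O.BH hb) v hv, fun l => ?_⟩⟩
  have := hc v hv l
  constructor
  · rw [this, ap_zero', up_00, up_01, one_mul]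
  · rw [this, ap_one', up_10, up_11, zero_mul, zero_add, one_mul]

theorem mem_cent_iff {b : G} {i : Fin k} {c : Fin k → F} (hc : ∀ v ∈ V, b * v * b⁻¹ ∈ V ∧
    ∀ l, M.e (b * v * b⁻¹) l 0 = M.e v l 0 + c l * M.e v l 1 ∧ M.e (b * v * b⁻¹) l 1 = M.e v l 1) :
    b ∈ centralizer (comp M i : Set G) ↔ c i = 0 := by
  constructor
  · intro h
    obtain ⟨v, hv, e⟩ := exists_comp M i ![0, 1]
    have h1 := mem_centralizer_iff.1 h v hv
    have h2 : b * v * b⁻¹ = v := by rw [← h1]; group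
    have h3 := ((hc v hv.1).2 i).1
    rw [h2, e] at h3
    simpa using h3.symm
  · intro h
    refine mem_centralizer_iff.2 fun v hv => ?_
    have h2 : b * v * b⁻¹ = v := by
      refine O.ext (hc v hv.1).1 hv.1 (fun l => ?_) fun l => ((hc v hv.1).2 l).2
      rw [((hc v hv.1).2 l).1]
      by_cases hl : l = i
      · subst hl; rw [h, zero_mul, add_zero]
      · rw [hv.2 l hl]; simp
    have h3 := congrArg (fun t => t * b) h2
    simpa [mul_assoc] using h3.symm

theorem card_comp [Finite G] [Finite F] (i : Fin k) : Nat.card (comp M i) = Nat.card F * Nat.card F := by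
  have h1 : Nat.card (comp M i) = Nat.card (Fin 2 → F) := by
    refine Nat.card_congr (Equiv.ofBijective (fun v : comp M i => M.e v i) ⟨?_, ?_⟩)
    · rintro ⟨v, hv⟩ ⟨w, hw⟩ h
      have h' : M.e v i = M.e w i := h
      refine Subtype.ext (O.inj v hv.1 w hw.1 (funext fun l => ?_))
      by_cases hl : l = i
      · subst hl; exact h'
      · rw [hv.2 l hl, hw.2 l hl]
    · intro x
      obtain ⟨v, hv, e⟩ := exists_comp M i x
      exact ⟨⟨v, hv⟩, e⟩
  rw [h1, Nat.card_fun, Nat.card_eq_fintype_card (α := Fin 2), Fintype.card_fin, pow_two]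

theorem card_zcomp [Finite G] [Finite F] (i : Fin k) : Nat.card (zcomp M i) = Nat.card F := by
  refine Nat.card_congr (Equiv.ofBijective (fun v : zcomp M i => M.e v i 0) ⟨?_, ?_⟩)
  · rintro ⟨v, hv⟩ ⟨w, hw⟩ h
    have h' : M.e v i 0 = M.e w i 0 := h
    refine Subtype.ext (O.ext hv.1.1 hw.1.1 (fun l => ?_) fun l => ?_)
    · by_cases hl : l = i
      · subst hl; exact h'
      · rw [hv.1.2 l hl, hw.1.2 l hl]
    · by_cases hl : l = i
      · subst hl; rw [hv.2, hw.2]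
      · rw [hv.1.2 l hl, hw.1.2 l hl]
  · intro x
    obtain ⟨v, hv, e⟩ := exists_comp M i ![x, 0]
    exact ⟨⟨v, hv, by rw [e]; rfl⟩, by show M.e v i 0 = x; rw [e]; rfl⟩

omit O in
theorem comp_le (i : Fin k) : comp M i ≤ V := fun _ hv => hv.1

theorem norm [Finite G] (i : Fin k) : bau T ≤ normalizer (comp M i : Set G) := fun b hb =>
  mem_normalizer_of_cj_le (by
    obtain ⟨c, hc⟩ := O.act hb
    rintro _ ⟨v, hv, rfl⟩
    refine ⟨(hc v hv.1).1, fun l hl => ?_⟩
    refine ext2 ?_ ?_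
    · refine (((hc v hv.1).2 l).1).trans ?_
      rw [hv.2 l hl]; simp
    · refine (((hc v hv.1).2 l).2).trans ?_
      rw [hv.2 l hl])

/-- the members of `AA T` act on `comp M i` trivially or as the full root group -/
theorem full [Finite G] [Finite F] (i : Fin k) {A : Subgroup G} (hA : A ∈ AA (bau T))
    (hn : ¬ A ≤ centralizer (comp M i : Set G)) :
    ∀ c : F, ∃ a ∈ A, ∃ b : Fin k → F, b i = c ∧ ∀ v ∈ V, a * v * a⁻¹ ∈ V ∧
      ∀ l, M.e (a * v * a⁻¹) l 0 = M.e v l 0 + b l * M.e v l 1 ∧ M.e (a * v * a⁻¹) l 1 = M.e v l 1 := by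
  classical
  have hAT := AA_bau.1 hA
  have hoff : Off V A := by
    refine ⟨hA.1, fun h => hn (h.trans (centralizer_le (by exact_mod_cast comp_le i))), ?_⟩
    have h1 := off_le hA (isElementaryAbelian_iff.2 ⟨fun a ha b hb =>
      (mem_centralizer_iff.1 (O.comm ha) b hb).symm, O.sq⟩) O.VB
    have h2 := card_eq_relIndex (centralizer (A : Set G)) V
    have h3 := card_eq_relIndex (centralizer (V : Set G)) A
    change (centralizer (A : Set G)).relIndex V ≤ (centralizer (V : Set G)).relIndex A at h1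
    calc Nat.card V * Nat.card ↥(A ⊓ centralizer (V : Set G))
        = (centralizer (A : Set G)).relIndex V * (Nat.card ↥(V ⊓ centralizer (A : Set G)) *
          Nat.card ↥(A ⊓ centralizer (V : Set G))) := by
            conv_lhs => rw [h2]
            ring
      _ ≤ (centralizer (V : Set G)).relIndex A * (Nat.card ↥(V ⊓ centralizer (A : Set G)) *
          Nat.card ↥(A ⊓ centralizer (V : Set G))) := by gcongr
      _ = Nat.card A * Nat.card ↥(V ⊓ centralizer (A : Set G)) := by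
            conv_rhs => rw [h3]
            ring
  obtain ⟨I, h1, h2⟩ := M.off A hAT.2.1 hoff
  have conv : ∀ a ∈ A, ∀ b : Fin k → F, ActsSL M.e V D a (fun i => up (b i)) → ∀ v ∈ V, a * v * a⁻¹ ∈ V ∧
      ∀ l, M.e (a * v * a⁻¹) l 0 = M.e v l 0 + b l * M.e v l 1 ∧ M.e (a * v * a⁻¹) l 1 = M.e v l 1 := by
    intro a ha b hb v hv
    refine ⟨O.Vn a (O.BH (hA.2.1 ha)) v hv, fun l => ?_⟩
    have := hb.1 v hv l
    constructor
    · rw [this, ap_zero', up_00, up_01, one_mul]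
    · rw [this, ap_one', up_10, up_11, zero_mul, zero_add, one_mul]
  have hi : i ∈ I := by
    by_contra hi
    apply hn
    intro a ha
    obtain ⟨b, hb, hab⟩ := h1 a ha
    rw [O.mem_cent_iff (conv a ha b hab)]
    exact hb i hi
  intro c
  obtain ⟨a, ha, hab⟩ := h2 (Function.update 0 i c) (fun l hl => by
    have hli : l ≠ i := by rintro rfl; exact hl hi
    rw [Function.update_of_ne hli]; rfl)
  exact ⟨a, ha, _, Function.update_self _ _ _, conv a ha _ hab⟩

theorem root [Finite G] [Finite F] (i : Fin k) : Root (bau T) (bau T) (comp M i) (zcomp M i) (Nat.card F) := by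
  classical
  obtain ⟨v₀, hv₀, e₀⟩ := exists_comp M i ![0, 1]
  have key : ∀ b ∈ bau T, ∀ c : Fin k → F, (∀ v ∈ V, b * v * b⁻¹ ∈ V ∧
      ∀ l, M.e (b * v * b⁻¹) l 0 = M.e v l 0 + c l * M.e v l 1 ∧ M.e (b * v * b⁻¹) l 1 = M.e v l 1) →
      M.e (b * v₀ * b⁻¹) i 0 = c i := by
    intro b _ c hc
    rw [((hc v₀ hv₀.1).2 i).1, e₀]
    simp
  have mulc : ∀ b ∈ bau T, ∀ b' ∈ bau T, ∀ c c' : Fin k → F, (∀ v ∈ V, b * v * b⁻¹ ∈ V ∧
      ∀ l, M.e (b * v * b⁻¹) l 0 = M.e v l 0 + c l * M.e v l 1 ∧ M.e (b * v * b⁻¹) l 1 = M.e v l 1) →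
      (∀ v ∈ V, b' * v * b'⁻¹ ∈ V ∧
      ∀ l, M.e (b' * v * b'⁻¹) l 0 = M.e v l 0 + c' l * M.e v l 1 ∧ M.e (b' * v * b'⁻¹) l 1 = M.e v l 1) →
      (b⁻¹ * b' ∈ centralizer (comp M i : Set G) ↔ c i = c' i) := by
    intro b hb b' hb' c c' hc hc'
    obtain ⟨d, hd⟩ := O.act (mul_mem (inv_mem hb) hb')
    rw [O.mem_cent_iff hd]
    -- `b (b⁻¹ b') = b'`
    have h1 := (hc _ (hd v₀ hv₀.1).1).2 i
    have e : b * (b⁻¹ * b' * v₀ * (b⁻¹ * b')⁻¹) * b⁻¹ = b' * v₀ * b'⁻¹ := by group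
    rw [e, ((hd v₀ hv₀.1).2 i).1, ((hd v₀ hv₀.1).2 i).2, ((hc' v₀ hv₀.1).2 i).1, e₀] at h1
    have h2 : c' i = d i + c i := by simpa using h1.1
    constructor
    · intro h3; rw [h2, h3, zero_add]
    · intro h3; rw [h3] at h2; exact (add_eq_right.1 h2.symm)
  have hidx : ∀ A : Subgroup G, A ≤ bau T → (centralizer (comp M i : Set G)).relIndex A ≤ Nat.card F := by
    intro A hA
    refine relIndex_le_of_fun (fun b => M.e (b * v₀ * b⁻¹) i 0) fun a ha b hb hab => ?_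
    obtain ⟨c, hc⟩ := O.act (hA ha)
    obtain ⟨c', hc'⟩ := O.act (hA hb)
    rw [key a (hA ha) c hc, key b (hA hb) c' hc'] at hab
    exact (mulc a (hA ha) b (hA hb) c c' hc hc').2 hab
  refine
    { BS := le_rfl
      AB := fun A hA => hA.2.1
      comm := ((comp_le i).trans O.comm).trans (centralizer_le (by exact_mod_cast comp_le i))
      sq := fun w hw => O.sq w hw.1
      WS := (comp_le i).trans O.VB
      ZW := fun _ hz => hz.1
      cardZ := O.card_zcomp i
      cardW := O.card_comp i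
      norm := O.norm i
      cent := ?_
      fix := ?_
      into := ?_
      onto := ?_
      idx := hidx _ le_rfl
      full := ?_ }
  · intro b hb
    obtain ⟨c, hc⟩ := O.act hb
    refine mem_centralizer_iff.2 fun v hv => ?_
    have h2 : b * v * b⁻¹ = v := by
      refine O.ext (hc v hv.1.1).1 hv.1.1 (fun l => ?_) fun l => ((hc v hv.1.1).2 l).2
      rw [((hc v hv.1.1).2 l).1]
      by_cases hl : l = i
      · subst hl; rw [hv.2, mul_zero, add_zero]
      · rw [hv.1.2 l hl]; simp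
    have h3 := congrArg (fun t => t * b) h2
    simpa [mul_assoc] using h3.symm
  · intro b hb hbn v hv hbv
    obtain ⟨c, hc⟩ := O.act hb
    rw [O.mem_cent_iff hc] at hbn
    refine ⟨hv, ?_⟩
    have h2 : b * v * b⁻¹ = v := by rw [hbv]; group
    have h3 := ((hc v hv.1).2 i).1
    rw [h2] at h3
    exact (mul_eq_zero.1 (left_eq_add.1 h3)).resolve_left hbn
  · intro b hb v hv
    obtain ⟨c, hc⟩ := O.act hb
    have h1 := (hc v hv.1).1
    have e : v * b * v⁻¹ * b⁻¹ = v * (b * v * b⁻¹)⁻¹ := by group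
    have h2 : M.e (v * (b * v * b⁻¹)⁻¹) = M.e v - M.e (b * v * b⁻¹) := by
      rw [M.mul v hv.1 _ (inv_mem h1), e_inv M h1, sub_eq_add_neg]
    rw [e]
    refine ⟨⟨mul_mem hv.1 (inv_mem h1), fun l hl => ?_⟩, ?_⟩
    · rw [h2, Pi.sub_apply]
      refine ext2 ?_ ?_
      · rw [Pi.sub_apply, ((hc v hv.1).2 l).1, hv.2 l hl]; simp
      · rw [Pi.sub_apply, ((hc v hv.1).2 l).2, hv.2 l hl]; simp
    · rw [h2, Pi.sub_apply, Pi.sub_apply, ((hc v hv.1).2 i).2, sub_self]
  · intro b hb hbn z hz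
    obtain ⟨c, hc⟩ := O.act hb
    rw [O.mem_cent_iff hc] at hbn
    obtain ⟨v, hv, ev⟩ := exists_comp M i ![0, -(M.e z i 0) / c i]
    refine ⟨v, hv, ?_⟩
    have h1 := (hc v hv.1).1
    have e : v * b * v⁻¹ * b⁻¹ = v * (b * v * b⁻¹)⁻¹ := by group
    have h2 : M.e (v * (b * v * b⁻¹)⁻¹) = M.e v - M.e (b * v * b⁻¹) := by
      rw [M.mul v hv.1 _ (inv_mem h1), e_inv M h1, sub_eq_add_neg]
    rw [e]
    refine O.ext (mul_mem hv.1 (inv_mem h1)) hz.1.1 (fun l => ?_) fun l => ?_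
    · rw [h2, Pi.sub_apply, Pi.sub_apply, ((hc v hv.1).2 l).1]
      by_cases hl : l = i
      · subst hl
        rw [ev]
        simp only [Matrix.cons_val_zero, Matrix.cons_val_one]
        field_simp
        ring
      · rw [hv.2 l hl, hz.1.2 l hl]; simp
    · rw [h2, Pi.sub_apply, Pi.sub_apply, ((hc v hv.1).2 l).2, sub_self]
      by_cases hl : l = i
      · subst hl; exact hz.2.symm
      · rw [hz.1.2 l hl]; rfl
  · intro A hA hn
    refine le_antisymm (hidx A hA.2.1) ?_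
    refine le_relIndex_of_fun (fun b => M.e (b * v₀ * b⁻¹) i 0) (fun a ha b hb hab => ?_) fun x => ?_
    · obtain ⟨c, hc⟩ := O.act (hA.2.1 ha)
      obtain ⟨c', hc'⟩ := O.act (hA.2.1 hb)
      show M.e (a * v₀ * a⁻¹) i 0 = M.e (b * v₀ * b⁻¹) i 0
      rw [key a (hA.2.1 ha) c hc, key b (hA.2.1 hb) c' hc']
      exact (mulc a (hA.2.1 ha) b (hA.2.1 hb) c c' hc hc').1 hab
    · obtain ⟨a, ha, b, hb, h⟩ := O.full i hA hn x
      exact ⟨a, ha, by
        show M.e (a * v₀ * a⁻¹) i 0 = x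
        rw [key a (hA.2.1 ha) b h, hb]⟩

end Bas

end Cfsg.Agent.Omega.OM.ThreeNat
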