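import Cfsg.Agent.Omega.OM.ThreeNat

/-!
# The PAIR LEMMA for blocks, `q ≥ 3` (NO-3S, FF lines)

Paper: helper997 #14470 (r2), (PL), #15564 (A); referee helper114.

* `Blk S B Q L V Z R q` : `L ≥ B` acts on the root module `V` (`Root S B V Z q`), normalises `Q ≤ B ∩ C(V)`, where
  `A ∩ C(V) ≤ Q` for `A ∈ AA S`, and centralises `R`; `Z ∩ Z^x = 1` for some `x ∈ L`.
* `Par S L V R W` : `W` and its `L`-conjugates are in `S`, commute with each other and with `V`, `R`.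
* `Blk.pair` : `Z_W ≤ R`, or `Q` centralises `W`.
* `Blk.pair_lt` : if `|Z_W| < |Z_V|` and `AA S` moves `W`, then `Z_W ≤ R`.
* `Blk.mem_sup` (r2) : an involution of `S` which centralises `B ∩ C(V)` is in `V Ω₁(Z(B))`.
-/

set_option autoImplicit false

namespace Cfsg.Agent.Omega.OM.ThreePair

open Subgroup Cfsg Cfsg.Agent.PLocal.ThompsonJ Cfsg.Agent.ZN.ChoiceBase
open Cfsg.Agent.ZN hiding mem_zc bau_le jj_le_bau jj_le mem_zj jj_bau zj_le zj_bau
open Cfsg.Agent.Omega.OM.ThreeCore Cfsg.Agent.Omega.OM.ThreeNat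
open Cfsg.Agent.Omega.NO3b.Ineq (cidx cidx_mono_left rel_ne)

universe u

variable {G : Type u} [Group G]

/-- A natural block `L` over `B` with module `V`, centralising `R`. -/
structure Blk (S B Q L V Z R : Subgroup G) (q : ℕ) : Prop where
  root : Root S B V Z q
  BL : B ≤ L
  QB : Q ≤ B
  QV : Q ≤ centralizer (V : Set G)
  AQ : ∀ A ∈ AA S, A ⊓ centralizer (V : Set G) ≤ Q
  LQ : L ≤ normalizer (Q : Set G)
  LV : L ≤ normalizer (V : Set G)
  LR : L ≤ centralizer (R : Set G)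
  RS : R ≤ S
  RR : R ≤ centralizer (R : Set G)
  Rsq : ∀ r ∈ R, r ^ 2 = 1
  RV : R ≤ centralizer (V : Set G)
  weyl : ∃ x ∈ L, Z ⊓ cj x Z = ⊥
  moves : ∃ A ∈ AA S, ¬ A ≤ centralizer (V : Set G)

/-- The conditions on the partner `W`. -/
structure Par (S L V R W ZW : Subgroup G) : Prop where
  WV : W ≤ centralizer (V : Set G)
  WR : W ≤ centralizer (R : Set G)
  WS : ∀ x ∈ L, cj x W ≤ S
  com : ∀ x ∈ L, cj x W ≤ centralizer (W : Set G)
  ZVR : ZW ≤ V ⊔ R

namespace Blk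

variable {S B Q L V Z R W ZW : Subgroup G} {q q' : ℕ} (b : Blk S B Q L V Z R q)
include b

theorem VR : V ≤ centralizer (R : Set G) := by
  rw [Subgroup.le_centralizer_iff]; exact b.RV

theorem relIndex [Finite G] {A : Subgroup G} (hA : A ∈ AA S) (hn : ¬ A ≤ centralizer (V : Set G)) :
    Q.relIndex A = q := by
  rw [← b.root.full A hA hn, ← Subgroup.inf_relIndex_right, ← Subgroup.inf_relIndex_right (centralizer _)]
  congr 1
  exact le_antisymm (inf_le_inf_right _ b.QV)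
    (le_inf ((le_of_eq (inf_comm _ _)).trans (b.AQ A hA)) inf_le_right)

theorem cidx_le [Finite G] {A : Subgroup G} (hA : A ∈ AA S) (hn : ¬ A ≤ centralizer (V : Set G)) :
    q ≤ cidx (V ⊔ R) A := by
  refine le_trans ?_ (cidx_mono_left (le_sup_left : V ≤ V ⊔ R) A)
  have h3 := card_eq_relIndex (centralizer (A : Set G)) V
  rw [b.root.inf_cent (b.root.AB A hA) hn, b.root.cardZ, b.root.cardW] at h3
  exact (Nat.eq_of_mul_eq_mul_right b.root.qpos h3).le

theorem cfg (RW : Root S B W ZW q') (hq' : 2 ≤ q') (p : Par S L V R W ZW) :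
    Cfg S B L Q (V ⊔ R) W ZW q' := by
  have hVR := b.VR
  have hc1 : V ⊔ R ≤ centralizer ((V ⊔ R : Subgroup G) : Set G) := by
    refine sup_le ?_ ?_
    · rw [Subgroup.le_centralizer_iff]; exact sup_le b.root.comm b.RV
    · rw [Subgroup.le_centralizer_iff]; exact sup_le hVR b.RR
  have hQR : Q ≤ centralizer (R : Set G) := (b.QB.trans b.BL).trans b.LR
  refine
    { root := RW
      two := hq'
      BP := b.BL
      PQ := b.LQ
      PV := ?_
      QB := b.QB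
      QV := ?_
      VV := hc1
      Vsq := ?_
      VS := sup_le b.root.WS b.RS
      WV := ?_
      WS := p.WS
      ZV := p.ZVR
      com := p.com }
  · intro x hx
    have h1 : cj x (V ⊔ R) = cj x V ⊔ cj x R := Subgroup.map_sup _ _ _
    rw [mem_normalizer_iff_cj, h1, cj_eq_of_mem_normalizer (b.LV hx),
      cj_eq_of_mem_normalizer (cent_norm R (b.LR hx))]
  · rw [Subgroup.le_centralizer_iff]
    refine sup_le ?_ ?_
    · rw [Subgroup.le_centralizer_iff]; exact b.QV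
    · rw [Subgroup.le_centralizer_iff]; exact hQR
  · intro v hv
    obtain ⟨a, ha, r, hr, rfl⟩ := mem_sup_comm hVR hv
    have hc : Commute a r := ((mem_centralizer_iff.1 (hVR ha)) r hr).symm
    rw [hc.mul_pow, b.root.sq a ha, b.Rsq r hr, one_mul]
  · rw [Subgroup.le_centralizer_iff]
    refine sup_le ?_ ?_
    · rw [Subgroup.le_centralizer_iff]; exact p.WV
    · rw [Subgroup.le_centralizer_iff]; exact p.WR

/-- **PAIR LEMMA**, first form. -/
theorem pair [Finite G] (hq : 3 ≤ q) (RW : Root S B W ZW q') (hq' : 2 ≤ q') (p : Par S L V R W ZW) :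
    ZW ≤ R ∨ Q ≤ centralizer (W : Set G) := by
  have C := b.cfg RW hq' p
  obtain ⟨x, hx, hxZ⟩ := b.weyl
  obtain ⟨A', hA', hn'⟩ := b.moves
  by_contra hcon
  push Not at hcon
  obtain ⟨h1, h2⟩ := hcon
  obtain ⟨z₀, hz₀, hz₀R⟩ := SetLike.not_le_iff_exists.1 h1
  -- the `V`-part of an element of `ZW` is in `Z`
  have hZ : ∀ z ∈ ZW, ∃ v ∈ Z, ∃ r ∈ R, z = v * r := by
    intro z hz
    obtain ⟨v, hv, r, hr, e⟩ := mem_sup_comm b.VR (p.ZVR hz)
    refine ⟨v, ?_, r, hr, e⟩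
    rw [← b.root.inf_cent (b.root.AB A' hA') hn']
    refine ⟨hv, mem_centralizer_iff.2 fun a ha => ?_⟩
    have h3 : a * z = z * a := (mem_centralizer_iff.1 (RW.cent (b.root.AB A' hA' ha)) z hz).symm
    have h4 : r * a = a * r := mem_centralizer_iff.1 (b.LR (b.BL (b.root.AB A' hA' ha))) r hr
    have h5 : v = z * r⁻¹ := by rw [e]; group
    have h6 : a * r⁻¹ = r⁻¹ * a := by
      calc a * r⁻¹ = r⁻¹ * (r * a) * r⁻¹ := by group
        _ = r⁻¹ * a := by rw [h4]; group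
    rw [h5, ← mul_assoc, h3, mul_assoc, h6, ← mul_assoc]
  have hxZ' : Z ⊓ cj x⁻¹ Z = ⊥ := by
    have h3 := congrArg (cj x⁻¹) hxZ
    rw [cj_inf, cj_inv_cj, inf_comm] at h3
    rw [h3]
    exact Subgroup.map_bot _
  -- an element of `Z` which commutes with a conjugate of some `a ∉ C(V)` is trivial
  have key : ∀ y : G, (Z ⊓ cj y Z = ⊥) → y ∈ L → ∀ a ∈ B, a ∉ centralizer (V : Set G) → ∀ v ∈ Z,
      y * a * y⁻¹ * v = v * (y * a * y⁻¹) → v = 1 := by
    intro y hy hyL a ha haV v hv hc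
    have h3 : a * (y⁻¹ * v * y) = (y⁻¹ * v * y) * a := by
      calc a * (y⁻¹ * v * y) = y⁻¹ * (y * a * y⁻¹ * v) * y := by group
        _ = (y⁻¹ * v * y) * a := by rw [hc]; group
    have h4 : y⁻¹ * v * y ∈ V := by
      rw [← mem_cj, cj_eq_of_mem_normalizer (b.LV hyL)]
      exact b.root.ZW hv
    have h5 := b.root.fix a ha haV _ h4 h3
    have h6 : v ∈ Z ⊓ cj y Z := ⟨hv, mem_cj.2 h5⟩
    rwa [hy, mem_bot] at h6
  obtain ⟨A, hA, hAQ⟩ := C.exists_min hA' (b.relIndex hA' hn') hq (b.cidx_le hA' hn') hx (by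
    intro a ha haQ hnorm
    have haB := b.root.AB A' hA' ha
    have haV : a ∉ centralizer (V : Set G) := fun hc => haQ (b.AQ A' hA' ⟨ha, hc⟩)
    obtain ⟨v, hv, r, hr, e⟩ := hZ z₀ hz₀
    have hv1 : v ≠ 1 := by
      rintro rfl
      exact hz₀R (by rw [e, one_mul]; exact hr)
    set g := x⁻¹ * a * x with hg
    have hgL : g ∈ L := L.mul_mem (L.mul_mem (L.inv_mem hx) (b.BL haB)) hx
    -- `k = [g, z₀] = [g, v]`
    have hk1 : g * z₀ * g⁻¹ * z₀⁻¹ ∈ ZW := ZW.mul_mem ((mem_normalizer_iff.1 hnorm z₀).1 hz₀) (ZW.inv_mem hz₀)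
    have hgr : r * g = g * r := mem_centralizer_iff.1 (b.LR hgL) r hr
    have hk2 : g * z₀ * g⁻¹ * z₀⁻¹ = g * v * g⁻¹ * v⁻¹ := by
      rw [e]
      calc g * (v * r) * g⁻¹ * (v * r)⁻¹ = g * v * (r * g⁻¹) * r⁻¹ * v⁻¹ := by group
        _ = g * v * (g⁻¹ * (g * r) * g⁻¹) * r⁻¹ * v⁻¹ := by group
        _ = g * v * (g⁻¹ * (r * g) * g⁻¹) * r⁻¹ * v⁻¹ := by rw [hgr]
        _ = g * v * g⁻¹ * v⁻¹ := by group
    rw [hk2] at hk1
    have hvV : v ∈ V := b.root.ZW hv
    -- `k ∈ cj x⁻¹ Z`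
    have hxv : x * v * x⁻¹ ∈ V := (mem_normalizer_iff.1 (b.LV hx) v).1 hvV
    have hk3 : g * v * g⁻¹ * v⁻¹ ∈ cj x⁻¹ Z := by
      rw [mem_cj, inv_inv]
      have h3 := b.root.into a haB _ hxv
      have h4 : x * (g * v * g⁻¹ * v⁻¹) * x⁻¹ = (x * v * x⁻¹ * a * (x * v * x⁻¹)⁻¹ * a⁻¹)⁻¹ := by
        rw [hg]; group
      rw [h4]
      exact Z.inv_mem h3
    have hk4 : g * v * g⁻¹ * v⁻¹ ∈ V := by
      have h3 : cj x⁻¹ Z ≤ V := (cj_mono _ b.root.ZW).trans
        (cj_eq_of_mem_normalizer (b.LV (L.inv_mem hx))).le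
      exact h3 hk3
    have hk5 : g * v * g⁻¹ * v⁻¹ ∈ Z := by
      rw [← b.root.inf_cent (b.root.AB A' hA') hn']
      have h3 : ZW ≤ centralizer (A' : Set G) := by
        rw [Subgroup.le_centralizer_iff]; exact (b.root.AB A' hA').trans RW.cent
      exact ⟨hk4, h3 hk1⟩
    have hk6 : g * v * g⁻¹ * v⁻¹ ∈ Z ⊓ cj x⁻¹ Z := ⟨hk5, hk3⟩
    rw [hxZ', mem_bot] at hk6
    apply hv1
    refine key x⁻¹ hxZ' (L.inv_mem hx) a haB haV v hv ?_
    have h3 : g * v = v * g := by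
      calc g * v = (g * v * g⁻¹ * v⁻¹) * (v * g) := by group
        _ = v * g := by rw [hk6, one_mul]
    rw [inv_inv]
    exact h3)
  have hAV : ¬ A ≤ centralizer (V : Set G) := fun hc => hAQ fun a ha => b.AQ A hA.mem ⟨ha, hc ha⟩
  obtain ⟨a, ha, haW⟩ := SetLike.not_le_iff_exists.1 h2
  have h3 := C.caseOne hA b.root (by omega) le_sup_left hAV hx (b.LV hx) hxZ ha haW
  obtain ⟨c, hc, hcV⟩ := SetLike.not_le_iff_exists.1 hAV
  obtain ⟨v, hv, r, hr, e⟩ := hZ z₀ hz₀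
  have hcB := b.root.AB A hA.mem hc
  have h4 : x * c * x⁻¹ ∈ cj x A := by
    rw [mem_cj]
    have : x⁻¹ * (x * c * x⁻¹) * x = c := by group
    rw [this]; exact hc
  have h5 := mem_centralizer_iff.1 (h3 hz₀) _ h4
  have h6 : x * c * x⁻¹ ∈ L := L.mul_mem (L.mul_mem hx (b.BL hcB)) (L.inv_mem hx)
  have h7 : r * (x * c * x⁻¹) = x * c * x⁻¹ * r := mem_centralizer_iff.1 (b.LR h6) r hr
  have hv1 : v = 1 := by
    refine key x hxZ hx c hcB hcV v hv ?_
    rw [e] at h5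
    calc x * c * x⁻¹ * v = (x * c * x⁻¹ * (v * r)) * r⁻¹ := by group
      _ = v * (r * (x * c * x⁻¹)) * r⁻¹ := by rw [h5]; group
      _ = v * (x * c * x⁻¹) := by rw [h7]; group
  apply hz₀R
  rw [e, hv1, one_mul]
  exact hr

/-- an involution of `S` which centralises `V` and `Q` is in `V (A ∩ C(V))` -/
theorem split_of_cent [Finite G] {A : Subgroup G} (hA : A ∈ AA S) (hn : ¬ A ≤ centralizer (V : Set G)) {y : G}
    (hy : y ∈ S) (hy2 : y ^ 2 = 1) (hyV : y ∈ centralizer (V : Set G)) (hyQ : y ∈ centralizer (Q : Set G)) :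
    ∃ v ∈ V, ∃ a ∈ A, a ∈ centralizer (V : Set G) ∧ y = v * a := by
  have h1 := b.root.swap hA hn
  have hc : V ≤ centralizer ((A ⊓ centralizer (V : Set G) : Subgroup G) : Set G) := by
    rw [Subgroup.le_centralizer_iff]; exact inf_le_right
  have h2 : y ∈ V ⊔ (A ⊓ centralizer (V : Set G)) := by
    refine AA.mem_of_comm h1 hy hy2 fun c hc' => ?_
    obtain ⟨v, hv, a, ha, rfl⟩ := mem_sup_comm hc hc'
    have h3 : v * y = y * v := mem_centralizer_iff.1 hyV v hv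
    have h4 : a * y = y * a := mem_centralizer_iff.1 hyQ a (b.AQ A hA ha)
    rw [mul_assoc, h4, ← mul_assoc, h3, mul_assoc]
  obtain ⟨v, hv, a, ha, e⟩ := mem_sup_comm hc h2
  exact ⟨v, hv, a, ha.1, ha.2, e⟩

/-- **PAIR LEMMA for `q' < q`.** -/
theorem pair_lt [Finite G] (hq : 3 ≤ q) (RW : Root S B W ZW q') (hq' : 2 ≤ q') (p : Par S L V R W ZW)
    (hlt : q' < q) (hW : ∃ A ∈ AA S, ¬ A ≤ centralizer (W : Set G)) : ZW ≤ R := by
  rcases b.pair hq RW hq' p with h | h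
  · exact h
  exfalso
  obtain ⟨A, hA, hAW⟩ := hW
  have hAV : ¬ A ≤ centralizer (V : Set G) := fun hc => hAW fun a ha => h (b.AQ A hA ⟨ha, hc ha⟩)
  have hAB := b.root.AB A hA
  -- some `w ∈ W` does not commute with `A`
  obtain ⟨w, hw, hwA⟩ : ∃ w ∈ W, w ∉ centralizer (A : Set G) := by
    by_contra hc
    push Not at hc
    exact hAW (by rw [Subgroup.le_centralizer_iff]; exact hc)
  obtain ⟨v, hv, a, ha, haV, e⟩ := b.split_of_cent hA hAV (RW.WS hw) (RW.sq w hw) (p.WV hw)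
    (by
      have : W ≤ centralizer (Q : Set G) := by rw [Subgroup.le_centralizer_iff]; exact h
      exact this hw)
  have hAc := (isElementaryAbelian_iff.1 hA.1).1
  have hvZ : v ∉ Z := by
    intro hvZ
    apply hwA
    refine mem_centralizer_iff.2 fun c hc => ?_
    have h3 : c * v = v * c := (mem_centralizer_iff.1 (b.root.cent (hAB hc)) v hvZ).symm
    rw [e, ← mul_assoc, h3, mul_assoc, hAc c hc a ha, ← mul_assoc]
  -- `c ↦ [w, c]` is injective on `A / C_A(V)`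
  classical
  have h4 := relIndex_le_of_fun (A := A) (C := centralizer (V : Set G))
    (fun c => if hh : w * c * w⁻¹ * c⁻¹ ∈ ZW then (⟨_, hh⟩ : ZW) else 1) fun c hc d hd hcd => by
      have hcW : w * c * w⁻¹ * c⁻¹ ∈ ZW := RW.into c (hAB hc) w hw
      have hdW : w * d * w⁻¹ * d⁻¹ ∈ ZW := RW.into d (hAB hd) w hw
      rw [dif_pos hcW, dif_pos hdW] at hcd
      have h5 : w * c * w⁻¹ * c⁻¹ = w * d * w⁻¹ * d⁻¹ := congrArg Subtype.val hcd
      have hwv : ∀ c ∈ A, w * c * w⁻¹ * c⁻¹ = v * c * v⁻¹ * c⁻¹ := by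
        intro c hc
        rw [e]
        calc v * a * c * (v * a)⁻¹ * c⁻¹ = v * (a * c) * a⁻¹ * v⁻¹ * c⁻¹ := by group
          _ = v * (c * a) * a⁻¹ * v⁻¹ * c⁻¹ := by rw [hAc a ha c hc]
          _ = v * c * v⁻¹ * c⁻¹ := by group
      rw [hwv c hc, hwv d hd] at h5
      by_contra hcon
      apply hvZ
      refine b.root.fix _ (hAB (A.mul_mem (A.inv_mem hc) hd)) hcon v hv ?_
      have h6 : c * v⁻¹ * c⁻¹ = d * v⁻¹ * d⁻¹ := by
        have h7 := congrArg (fun t => v⁻¹ * t) h5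
        simpa [mul_assoc] using h7
      calc c⁻¹ * d * v = c⁻¹ * (d * v⁻¹ * d⁻¹)⁻¹ * d := by group
        _ = c⁻¹ * (c * v⁻¹ * c⁻¹)⁻¹ * d := by rw [h6]
        _ = v * (c⁻¹ * d) := by group
  rw [b.root.full A hA hAV, RW.cardZ] at h4
  omega

omit b in
/-- `B = A C_B(V)` for `A ∈ AA S` moving `V`. -/
theorem sup_eq [Finite G] (R' : Root S B V Z q) {A : Subgroup G} (hA : A ∈ AA S)
    (hn : ¬ A ≤ centralizer (V : Set G)) : A ⊔ (B ⊓ centralizer (V : Set G)) = B := by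
  have hAB := R'.AB A hA
  refine Subgroup.eq_of_le_of_card_ge (sup_le hAB inf_le_left) ?_
  have h1 := card_eq_relIndex (centralizer (V : Set G)) B
  have h2 := card_eq_relIndex (centralizer (V : Set G)) (A ⊔ (B ⊓ centralizer (V : Set G)))
  have h3 : q ≤ (centralizer (V : Set G)).relIndex (A ⊔ (B ⊓ centralizer (V : Set G))) := by
    rw [← R'.full A hA hn]
    exact Subgroup.relIndex_le_of_le_right le_sup_left (rel_ne _ _)
  rw [h1, h2]
  exact Nat.mul_le_mul (R'.idx.trans h3)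
    (Subgroup.card_le_of_le (le_inf le_sup_right inf_le_right))

/-- **(r2)**: an involution of `S` which centralises `V` and `B ∩ C(V)` is in `V Ω₁(Z(B))`. -/
theorem mem_sup [Finite G] (hQ : Q = B ⊓ centralizer (V : Set G)) (hVB : V ≤ B) {y : G} (hy : y ∈ S)
    (hy2 : y ^ 2 = 1) (hyQ : y ∈ centralizer (Q : Set G)) : y ∈ V ⊔ zc B := by
  obtain ⟨A, hA, hn⟩ := b.moves
  have hVQ : V ≤ Q := by rw [hQ]; exact le_inf hVB b.root.comm
  have hyV : y ∈ centralizer (V : Set G) := centralizer_le (by exact_mod_cast hVQ) hyQ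
  obtain ⟨v, hv, a, ha, haV, e⟩ := b.split_of_cent hA hn hy hy2 hyV hyQ
  have hAB := b.root.AB A hA
  have h1 : a ∈ zc B := by
    refine mem_zc.2 ⟨hAB ha, (isElementaryAbelian_iff.1 hA.1).2 a ha, ?_⟩
    have h2 : B ≤ centralizer ({a} : Set G) := by
      rw [← sup_eq b.root hA hn]
      refine sup_le (fun c hc => ?_) fun c hc => ?_
      · exact mem_centralizer_singleton_iff.2 ((isElementaryAbelian_iff.1 hA.1).1 c hc a ha)
      · rw [← hQ] at hc
        have h3 : c * y = y * c := mem_centralizer_iff.1 hyQ c hc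
        have h4 : v * c = c * v := mem_centralizer_iff.1 (b.QV hc) v hv
        have h5 : a = v⁻¹ * y := by rw [e]; group
        refine mem_centralizer_singleton_iff.2 ?_
        rw [h5]
        calc c * (v⁻¹ * y) = v⁻¹ * (v * c) * v⁻¹ * y := by group
          _ = v⁻¹ * (c * v) * v⁻¹ * y := by rw [h4]
          _ = v⁻¹ * (c * y) := by group
          _ = v⁻¹ * y * c := by rw [h3]; group
    exact fun c hc => mem_centralizer_singleton_iff.1 (h2 hc)
  rw [e]
  exact mul_mem (mem_sup_left hv) (mem_sup_right h1)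

end Blk

end Cfsg.Agent.Omega.OM.ThreePair
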