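import Cfsg.Agent.Omega.OM.ThreeLem

/-!
# NO-3S, `k` natural modules, `q ≥ 4`: `N_G(B)` permutes the summands

Paper: helper997 #14470 (V).  `Sit.perm : n ∈ N_G(bau T) → cj n (comp M i) = comp M l` for some `l`.
Input besides `Sit M`: `bau T` is a Sylow 2-subgroup of `C_G(zj T)` (`syl_bau` for `T` Sylow in `G`).
-/

set_option autoImplicit false

namespace Cfsg.Agent.Omega.OM.ThreeLem

open Subgroup Cfsg Cfsg.Agent.PLocal.ThompsonJ Cfsg.Agent.ZN.ChoiceBase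
open Cfsg.Agent.ZN hiding mem_zc bau_le jj_le_bau jj_le mem_zj jj_bau zj_le zj_bau
open Cfsg.Agent.ZN.ChoiceSit (Syl syl_conj exists_syl)
open Cfsg.Agent.Omega.NatPair (ext2 ap ap_zero' ap_one' ap_mul ap_one)
open Cfsg.Agent.Lib.SL2Mat
open Cfsg.Agent.Omega.FFThm (NatK ActsSL Off)
open Cfsg.Agent.Omega.OM.ThreeCore Cfsg.Agent.Omega.OM.ThreeNat

universe u

variable {G : Type u} [Group G]

/-- An odd power of `f` is a 2-element. -/
theorem exists_two_part [Finite G] (f : G) : ∃ r : ℕ, IsPGroup 2 (zpowers (f ^ (2 * r + 1))) := by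
  obtain ⟨a, m, hm, e⟩ := Nat.exists_eq_two_pow_mul_odd (orderOf_pos f).ne'
  obtain ⟨r, rfl⟩ := hm
  refine ⟨r, IsPGroup.of_card (n := a) ?_⟩
  rw [Nat.card_zpowers, orderOf_pow_of_dvd (by omega) ⟨2 ^ a, by rw [e]; ring⟩, e]
  exact Nat.mul_div_cancel _ (by omega)

/-- `bau S` is a Sylow 2-subgroup of `C_G(zj S)`. -/
theorem syl_bau [Finite G] (S : Sylow 2 G) : Syl (bau (S : Subgroup G)) (centralizer (zj (S : Subgroup G) : Set G)) := by
  have hp : IsPGroup 2 (bau (S : Subgroup G)) := S.isPGroup'.to_le (bau_le _)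
  refine ⟨inf_le_right, hp, fun Q hQ hQp hle => ?_⟩
  have hQL : Q ≤ normalizer (zj (S : Subgroup G) : Set G) := hQ.trans (cent_norm _)
  obtain ⟨T, hT, hQT⟩ := exists_syl hQp hQL
  have hS : Syl (S : Subgroup G) (normalizer (zj (S : Subgroup G) : Set G)) := by
    refine ⟨le_normalizer.trans (normalizer_le_of_cj (F := zj) zj_cj _), S.isPGroup', fun R _ hR hSR => ?_⟩
    exact S.is_maximal' hR hSR
  obtain ⟨x, hx, hxT⟩ := syl_conj hT hS
  have h1 : cj x Q ≤ bau (S : Subgroup G) := by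
    refine le_inf ?_ ?_
    · rw [← hxT]; exact cj_mono x hQT
    · have h2 := cj_mono x hQ
      rwa [cj_centralizer, mem_normalizer_iff_cj.1 hx] at h2
  have h2 := card_le_of_le h1
  rw [card_cj] at h2
  exact (eq_of_le_of_card_ge hle h2).symm

namespace Sit

variable {F : Type} [Field F] {T H V D : Subgroup G} {k : ℕ} {M : NatK F T H V D k}

theorem zcomp_inj {i j : Fin k} (hij : zcomp M i = zcomp M j) : i = j := by
  by_contra hne
  obtain ⟨v, hv, e⟩ := exists_comp M i ![1, 0]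
  have h1 : v ∈ zcomp M j := by
    rw [← hij]
    exact ⟨hv, by rw [e]; rfl⟩
  have h2 := h1.1.2 i hne
  rw [e] at h2
  have := congrFun h2 0
  simp at this

/-- A subgroup which contains all `zcomp M i` contains `zj T`. -/
theorem zj_le_of (O : Bas M) {K : Subgroup G} (hK : ∀ i, zcomp M i ≤ K) : zj T ≤ K := by
  classical
  have key : ∀ s : Finset (Fin k), ∀ v ∈ zj T, (∀ i, i ∉ s → M.e v i = 0) → v ∈ K := by
    intro s
    induction s using Finset.induction_on with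
    | empty =>
      intro v hv h
      have : v = 1 := O.inj v ((O.mem_zj v).1 hv).1 1 (one_mem _) (by rw [e_one]; funext i; exact h i (by simp))
      rw [this]; exact one_mem _
    | insert i s hi ih =>
      intro v hv h
      obtain ⟨hvV, hv1⟩ := (O.mem_zj v).1 hv
      obtain ⟨w, hw, e⟩ := exists_comp M i (M.e v i)
      have hwz : w ∈ zcomp M i := ⟨hw, by rw [e]; exact hv1 i⟩
      have h1 : v * w⁻¹ ∈ K := by
        refine ih _ (mul_mem hv (inv_mem (zcomp_le_zj O i hwz))) fun l hl => ?_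
        rw [M.mul v hvV _ (inv_mem hw.1), e_inv M hw.1, Pi.add_apply, Pi.neg_apply]
        by_cases hli : l = i
        · subst hli; rw [e, add_neg_cancel]
        · rw [hw.2 l hli, h l (by simp [hli, hl]), neg_zero, add_zero]
      have h2 := K.mul_mem h1 (hK i hwz)
      rwa [inv_mul_cancel_right] at h2
  exact fun v hv => key Finset.univ v hv (by simp)

variable (h : Sit M)
include h

theorem nV [Finite G] [Finite F] {n : G} (hn : n ∈ normalizer (bau T : Set G)) {v : G} (hv : v ∈ V) :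
    n * v * n⁻¹ ∈ V := by
  have h1 : n * v * n⁻¹ ∈ cj n V := by
    rw [mem_cj]
    have : n⁻¹ * (n * v * n⁻¹) * n = v := by group
    rw [this]; exact hv
  rwa [h.lemU hn] at h1

/-- `n` maps `zcomp M i` to some `zcomp M l`, and `comp M i` into `comp M l * zj T`. -/
theorem exists_index [Finite G] [Finite F] {n : G} (hn : n ∈ normalizer (bau T : Set G)) (i : Fin k) :
    ∃ l, cj n (zcomp M i) = zcomp M l ∧ ∀ v ∈ comp M i, ∀ m, m ≠ l → M.e (n * v * n⁻¹) m 1 = 0 := by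
  classical
  have O := h.toBas
  have hnB := nB hn
  have key : ∀ v ∈ comp M i, ∀ m, M.e (n * v * n⁻¹) m 1 ≠ 0 → cj n (zcomp M i) = zcomp M m := by
    intro v hv m hm
    have hw := h.nV hn hv.1
    set w := n * v * n⁻¹ with hwdef
    symm
    refine Subgroup.eq_of_le_of_card_ge ?_ (by rw [card_cj, O.card_zcomp, O.card_zcomp])
    intro z hz
    obtain ⟨b, hb, hbc⟩ := O.jj_up (Pi.single m (M.e z m 0 / M.e w m 1))
    have hbB : b ∈ bau T := ChoiceBase.jj_le_bau T hb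
    have hbw := O.Vn b (O.BH hbB) w hw
    have h1 : z = b * w * b⁻¹ * w⁻¹ := by
      refine O.ext hz.1.1 (mul_mem hbw (inv_mem hw)) (fun l => ?_) fun l => ?_
      · rw [M.mul _ hbw _ (inv_mem hw), e_inv M hw, Pi.add_apply, Pi.add_apply, Pi.neg_apply, Pi.neg_apply,
          hbc.1 w hw l, ap_zero', up_00, up_01]
        by_cases hl : l = m
        · subst hl
          rw [Pi.single_eq_same, div_mul_cancel₀ _ hm]; ring
        · rw [Pi.single_eq_of_ne hl, hz.1.2 l hl]; simp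
      · rw [M.mul _ hbw _ (inv_mem hw), e_inv M hw, Pi.add_apply, Pi.add_apply, Pi.neg_apply, Pi.neg_apply,
          hbc.1 w hw l, ap_one', up_10, up_11]
        by_cases hl : l = m
        · subst hl; rw [hz.2]; ring
        · rw [hz.1.2 l hl]; simp
    have hb' : n⁻¹ * b * n ∈ bau T := by rw [← mem_cj, hnB]; exact hbB
    have h2 := (O.root i).into _ hb' v hv
    rw [mem_cj]
    have h3 : n⁻¹ * z * n = (v * (n⁻¹ * b * n) * v⁻¹ * (n⁻¹ * b * n)⁻¹)⁻¹ := by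
      rw [h1, hwdef]; group
    rw [h3]
    exact inv_mem h2
  obtain ⟨v₀, hv₀, e₀⟩ := exists_comp M i ![0, 1]
  obtain ⟨l, hl⟩ : ∃ l, M.e (n * v₀ * n⁻¹) l 1 ≠ 0 := by
    by_contra hc
    push Not at hc
    have h1 : n * v₀ * n⁻¹ ∈ zj T := (O.mem_zj _).2 ⟨h.nV hn hv₀.1, hc⟩
    have h2 : v₀ ∈ zj T := by
      rw [← nZ hn, mem_cj] at h1
      have : n⁻¹ * (n * v₀ * n⁻¹) * n = v₀ := by group
      rwa [this] at h1
    have h3 := ((O.mem_zj _).1 h2).2 i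
    rw [e₀] at h3
    simp at h3
  refine ⟨l, key v₀ hv₀ l hl, fun v hv m hm => ?_⟩
  by_contra hc
  exact hm (zcomp_inj ((key v hv m hc).symm.trans (key v₀ hv₀ l hl)))

omit h in
/-- An element which acts trivially on `zj T` and on `V / zj T` acts like an element of `bau T`. -/
theorem exists_bau [Finite G] (O : Bas M) (hS : Syl (bau T) (centralizer (zj T : Set G))) {f : G}
    (hfV : f ∈ normalizer (V : Set G)) (h1 : ∀ v ∈ V, ∀ l, M.e (f * v * f⁻¹) l 1 = M.e v l 1)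
    (h2 : f ∈ centralizer (zj T : Set G)) :
    ∃ c : Fin k → F, ∀ v ∈ V, ∀ l, M.e (f * v * f⁻¹) l 0 = M.e v l 0 + c l * M.e v l 1 := by
  have hVc : ∀ v ∈ V, ∀ w ∈ V, v * w = w * v := fun v hv w hw => (mem_centralizer_iff.1 (O.comm hv) w hw).symm
  let K : Subgroup G :=
    { carrier := {g | g ∈ centralizer (zj T : Set G) ∧ g ∈ normalizer (V : Set G) ∧
        ∀ v ∈ V, ∀ l, M.e (g * v * g⁻¹) l 1 = M.e v l 1}
      mul_mem' := by
        rintro a b ⟨ha, ha', ha''⟩ ⟨hb, hb', hb''⟩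
        refine ⟨mul_mem ha hb, mul_mem ha' hb', fun v hv l => ?_⟩
        have e : a * b * v * (a * b)⁻¹ = a * (b * v * b⁻¹) * a⁻¹ := by group
        rw [e, ha'' _ ((mem_normalizer_iff.1 hb' v).1 hv), hb'' v hv]
      one_mem' := ⟨one_mem _, one_mem _, fun v hv l => by simp⟩
      inv_mem' := by
        rintro a ⟨ha, ha', ha''⟩
        refine ⟨inv_mem ha, inv_mem ha', fun v hv l => ?_⟩
        have h3 := ha'' _ ((mem_normalizer_iff.1 (inv_mem ha') v).1 hv) l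
        have e : a * (a⁻¹ * v * a⁻¹⁻¹) * a⁻¹ = v := by group
        rw [e] at h3
        exact h3.symm }
  have hKV : ∀ g ∈ K, ∀ v ∈ V, g * v * g⁻¹ ∈ V := fun g hg v hv => (mem_normalizer_iff.1 hg.2.1 v).1 hv
  -- `φ g v = g v g⁻¹ v⁻¹ ∈ zj T`
  have hφ : ∀ g ∈ K, ∀ v ∈ V, g * v * g⁻¹ * v⁻¹ ∈ zj T := by
    intro g hg v hv
    rw [O.mem_zj]
    have h3 := hKV g hg v hv
    refine ⟨mul_mem h3 (inv_mem hv), fun l => ?_⟩
    rw [M.mul _ h3 _ (inv_mem hv), e_inv M hv, Pi.add_apply, Pi.add_apply, Pi.neg_apply, Pi.neg_apply,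
      hg.2.2 v hv l, add_neg_cancel]
  have hφc : ∀ g ∈ K, ∀ z ∈ zj T, g * z * g⁻¹ = z := fun g hg z hz => by
    rw [← mem_centralizer_iff.1 hg.1 z hz]; group
  have hmul : ∀ g ∈ K, ∀ g' ∈ K, ∀ v ∈ V,
      g * g' * v * (g * g')⁻¹ = (g' * v * g'⁻¹ * v⁻¹) * (g * v * g⁻¹ * v⁻¹) * v := by
    intro g hg g' hg' v hv
    have h3 := hφc g hg _ (hφ g' hg' v hv)
    calc g * g' * v * (g * g')⁻¹ = g * (g' * v * g'⁻¹ * v⁻¹) * g⁻¹ * (g * v * g⁻¹) := by group
      _ = (g' * v * g'⁻¹ * v⁻¹) * (g * v * g⁻¹) := by rw [h3]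
      _ = _ := by group
  have hcomm : ∀ g ∈ K, ∀ g' ∈ K, ∀ v ∈ V, g * g' * v * (g * g')⁻¹ = g' * g * v * (g' * g)⁻¹ := by
    intro g hg g' hg' v hv
    rw [hmul g hg g' hg' v hv, hmul g' hg' g hg v hv,
      hVc _ (O.zj_le (hφ g' hg' v hv)) _ (O.zj_le (hφ g hg v hv))]
  have hsq : ∀ g ∈ K, ∀ v ∈ V, g ^ 2 * v * (g ^ 2)⁻¹ = v := by
    intro g hg v hv
    have h3 := O.sq _ (O.zj_le (hφ g hg v hv))
    rw [pow_two, hmul g hg g hg v hv, ← pow_two, h3, one_mul]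
  have hf : f ∈ K := ⟨h2, hfV, h1⟩
  obtain ⟨r, hr⟩ := exists_two_part f
  have hact : ∀ v ∈ V, f ^ (2 * r + 1) * v * (f ^ (2 * r + 1))⁻¹ = f * v * f⁻¹ := by
    intro v hv
    have h3 : ∀ s : ℕ, (f ^ 2) ^ s * v * ((f ^ 2) ^ s)⁻¹ = v := by
      intro s
      induction s with
      | zero => simp
      | succ s ih =>
        have : (f ^ 2) ^ (s + 1) * v * ((f ^ 2) ^ (s + 1))⁻¹ =
            f ^ 2 * ((f ^ 2) ^ s * v * ((f ^ 2) ^ s)⁻¹) * (f ^ 2)⁻¹ := by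
          rw [pow_succ']; group
        rw [this, ih, hsq f hf v hv]
    have h4 : f ^ (2 * r + 1) * v * (f ^ (2 * r + 1))⁻¹ = f * ((f ^ 2) ^ r * v * ((f ^ 2) ^ r)⁻¹) * f⁻¹ := by
      rw [pow_succ', pow_mul]; group
    rw [h4, h3]
  -- `bau T` is Sylow in `K`
  have hBK : bau T ≤ K := by
    intro b hb
    obtain ⟨c, hc⟩ := O.act hb
    exact ⟨hS.1 hb, O.HV (O.BH hb), fun v hv l => ((hc v hv).2 l).2⟩
  have hSK : Syl (bau T) K := ⟨hBK, hS.2.1, fun Q hQ hp hle => hS.2.2 Q (hQ.trans fun g hg => hg.1) hp hle⟩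
  obtain ⟨Q, hQ, hfQ⟩ := exists_syl hr (zpowers_le.2 (K.pow_mem hf (2 * r + 1)))
  obtain ⟨x, hx, hxQ⟩ := syl_conj hQ hSK
  have hb : x * f ^ (2 * r + 1) * x⁻¹ ∈ bau T := by
    rw [← hxQ, mem_cj]
    have : x⁻¹ * (x * f ^ (2 * r + 1) * x⁻¹) * x = f ^ (2 * r + 1) := by group
    rw [this]
    exact hfQ (mem_zpowers _)
  obtain ⟨c, hc⟩ := O.act hb
  refine ⟨c, fun v hv l => ?_⟩
  have h3 := hKV x⁻¹ (inv_mem hx) v hv
  have h4 := hcomm x hx _ (K.pow_mem hf (2 * r + 1)) _ h3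
  have e1 : x * f ^ (2 * r + 1) * (x⁻¹ * v * x⁻¹⁻¹) * (x * f ^ (2 * r + 1))⁻¹ =
      x * f ^ (2 * r + 1) * x⁻¹ * v * (x * f ^ (2 * r + 1) * x⁻¹)⁻¹ := by group
  have e2 : f ^ (2 * r + 1) * x * (x⁻¹ * v * x⁻¹⁻¹) * (f ^ (2 * r + 1) * x)⁻¹ =
      f ^ (2 * r + 1) * v * (f ^ (2 * r + 1))⁻¹ := by group
  rw [e1, e2, hact v hv] at h4
  rw [← h4]
  exact ((hc v hv).2 l).1

omit h in
theorem exists_mu [Finite F] [CharP F 2] (hF : 4 ≤ Nat.card F) : ∃ μ : F, μ ≠ 0 ∧ μ ^ 2 ≠ 1 := by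
  by_contra hc
  push Not at hc
  have h1 : ∀ μ : F, μ = 0 ∨ μ = 1 := by
    intro μ
    by_cases h0 : μ = 0
    · exact Or.inl h0
    · right
      have h2 := hc μ h0
      have h3 : (μ - 1) ^ 2 = 0 := by rw [sub_sq, h2, CharTwo.two_eq_zero]; simp [CharTwo.add_self_eq_zero]
      exact sub_eq_zero.1 (pow_eq_zero_iff (by norm_num) |>.1 h3)
  have h2 : (Set.univ : Set F) ⊆ {0, 1} := fun μ _ => h1 μ
  have h3 := Set.ncard_le_ncard h2 (Set.toFinite _)
  rw [Set.ncard_univ, Set.ncard_pair zero_ne_one] at h3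
  omega

/-- **(V)** (helper997 #14470): `N_G(B)` permutes the summands of `V`. -/
theorem perm [Finite G] [Finite F] [CharP F 2] (hS : Syl (bau T) (centralizer (zj T : Set G))) {n : G}
    (hn : n ∈ normalizer (bau T : Set G)) (i : Fin k) : ∃ l, cj n (comp M i) = comp M l := by
  classical
  have O := h.toBas
  choose π hπ1 hπ2 using fun j => h.exists_index hn j
  have hπi : Function.Injective π := by
    intro a b hab
    have h1 : cj n (zcomp M a) = cj n (zcomp M b) := by rw [hπ1, hπ1, hab]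
    have h2 := congrArg (cj n⁻¹) h1
    rw [cj_inv_cj, cj_inv_cj] at h2
    exact zcomp_inj h2
  have hπs : Function.Surjective π := Finite.injective_iff_surjective.1 hπi
  set l := π i with hl
  refine ⟨l, Subgroup.eq_of_le_of_card_ge ?_ (by rw [card_cj, O.card_comp, O.card_comp])⟩
  have nV' : ∀ v ∈ V, n * v * n⁻¹ ∈ V := fun v hv => h.nV hn hv
  have cjn : ∀ {K : Subgroup G} {v : G}, v ∈ K → n * v * n⁻¹ ∈ cj n K := fun {K v} hv => by
    rw [mem_cj]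
    have : n⁻¹ * (n * v * n⁻¹) * n = v := by group
    rw [this]; exact hv
  have nzc : ∀ j, ∀ v ∈ zcomp M j, n * v * n⁻¹ ∈ zcomp M (π j) := fun j v hv => by
    rw [← hπ1 j]; exact cjn hv
  choose v hv ev using fun t : F => exists_comp M i ![0, t]
  choose z hz ez using fun t : F => exists_comp M i ![t, 0]
  have hzz : ∀ t, z t ∈ zcomp M i := fun t => ⟨hz t, by rw [ez]; rfl⟩
  obtain ⟨α, hα⟩ : ∃ α : F → F, ∀ t, α t = M.e (n * v t * n⁻¹) l 1 := ⟨_, fun _ => rfl⟩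
  obtain ⟨γ, hγ⟩ : ∃ γ : F → F, ∀ t, γ t = M.e (n * z t * n⁻¹) l 0 := ⟨_, fun _ => rfl⟩
  -- the coordinate of `n u n⁻¹` for arbitrary `u`
  have hαu : ∀ u ∈ comp M i, M.e (n * u * n⁻¹) l 1 = α (M.e u i 1) := by
    intro u hu
    have hc := hv (M.e u i 1)
    have h1 : u * (v (M.e u i 1))⁻¹ ∈ zcomp M i := by
      refine ⟨mul_mem hu (inv_mem hc), ?_⟩
      rw [M.mul u hu.1 _ (inv_mem hc.1), e_inv M hc.1, Pi.add_apply, Pi.add_apply, Pi.neg_apply, Pi.neg_apply, ev]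
      simp
    have h2 := (nzc i _ h1).2
    have e : n * (u * (v (M.e u i 1))⁻¹) * n⁻¹ = (n * u * n⁻¹) * (n * v (M.e u i 1) * n⁻¹)⁻¹ := by group
    rw [e, M.mul _ (nV' _ hu.1) _ (inv_mem (nV' _ hc.1)), e_inv M (nV' _ hc.1), Pi.add_apply, Pi.add_apply,
      Pi.neg_apply, Pi.neg_apply, ← hl, ← hα] at h2
    exact add_neg_eq_zero.1 h2
  have hγu : ∀ u ∈ zcomp M i, M.e (n * u * n⁻¹) l 0 = γ (M.e u i 0) := by
    intro u hu
    have : u = z (M.e u i 0) := by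
      refine O.ext hu.1.1 (hz _).1 (fun m => ?_) fun m => ?_
      · by_cases hm : m = i
        · subst hm; rw [ez]; rfl
        · rw [hu.1.2 m hm, (hz _).2 m hm]
      · by_cases hm : m = i
        · subst hm; rw [ez]; exact hu.2
        · rw [hu.1.2 m hm, (hz _).2 m hm]
    rw [hγ, ← this]
  -- `γ (c t) = c' α t`
  have rel : ∀ c : F, ∃ c' : F, ∀ t, γ (c * t) = c' * α t := by
    intro c
    obtain ⟨b, hb, hbc⟩ := O.jj_up (Pi.single i c)
    have hbB : b ∈ bau T := ChoiceBase.jj_le_bau T hb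
    have hb' : n * b * n⁻¹ ∈ bau T := by
      have := cjn hbB
      rwa [nB hn] at this
    obtain ⟨c', hc'⟩ := O.act hb'
    refine ⟨c' l, fun t => ?_⟩
    have h0 := O.Vn b (O.BH hbB) _ (hv t).1
    have h1 : b * v t * b⁻¹ = z (c * t) * v t := by
      refine O.inj _ h0 _ (mul_mem (hz _).1 (hv t).1) (funext fun m => ?_)
      have hbm : M.e (b * v t * b⁻¹) m = ap (up ((Pi.single i c : Fin k → F) m)) (M.e (v t) m) :=
        hbc.1 _ (hv t).1 m
      rw [M.mul _ (hz _).1 _ (hv t).1, Pi.add_apply, hbm]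
      by_cases hm : m = i
      · subst hm
        rw [ev, ez, Pi.single_eq_same]
        refine ext2 ?_ ?_
        · rw [ap_zero', up_00, up_01]; simp
        · rw [ap_one', up_10, up_11]; simp
      · rw [(hv t).2 m hm, (hz _).2 m hm, Pi.single_eq_of_ne hm, up_zero, ap_one, zero_add]
    have h2 := ((hc' _ (nV' _ (hv t).1)).2 l).1
    have e : n * b * n⁻¹ * (n * v t * n⁻¹) * (n * b * n⁻¹)⁻¹ = (n * z (c * t) * n⁻¹) * (n * v t * n⁻¹) := by
      calc n * b * n⁻¹ * (n * v t * n⁻¹) * (n * b * n⁻¹)⁻¹ = n * (b * v t * b⁻¹) * n⁻¹ := by group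
        _ = _ := by rw [h1]; group
    rw [e, M.mul _ (nV' _ (hz _).1) _ (nV' _ (hv t).1), Pi.add_apply, Pi.add_apply, ← hγ, ← hα] at h2
    exact add_right_cancel (h2.trans (add_comm _ _))
  have hα1 : α 1 ≠ 0 := by
    intro h0
    have h1 : n * v 1 * n⁻¹ ∈ zj T := by
      refine (O.mem_zj _).2 ⟨nV' _ (hv 1).1, fun m => ?_⟩
      by_cases hm : m = l
      · rw [hm, ← hα]; exact h0
      · exact hπ2 i _ (hv 1) m hm
    have h2 : v 1 ∈ zj T := by
      rw [← nZ hn, mem_cj] at h1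
      have : n⁻¹ * (n * v 1 * n⁻¹) * n = v 1 := by group
      rwa [this] at h1
    have h3 := ((O.mem_zj _).1 h2).2 i
    rw [ev] at h3
    simp at h3
  have hγ1 : γ 1 ≠ 0 := by
    intro h0
    have h1 := nzc i _ (hzz 1)
    have h2 : n * z 1 * n⁻¹ = 1 := by
      refine O.ext h1.1.1 (one_mem _) (fun m => ?_) fun m => ?_
      · rw [e_one]
        by_cases hm : m = l
        · rw [hm, ← hγ]; exact h0
        · rw [h1.1.2 m hm]; rfl
      · rw [e_one]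
        by_cases hm : m = l
        · rw [hm]; exact h1.2
        · rw [h1.1.2 m hm]; rfl
    have h3 : z 1 = 1 := by
      have : n⁻¹ * (n * z 1 * n⁻¹) * n = z 1 := by group
      rw [← this, h2]; group
    have h4 := ez 1
    rw [h3, e_one] at h4
    have := congrFun h4 0
    simp at this
  obtain ⟨c₁, hc₁⟩ := rel 1
  have hγt : ∀ t, γ t = c₁ * α t := fun t => by rw [← hc₁, one_mul]
  have hc₁0 : c₁ ≠ 0 := by
    rintro rfl
    exact hγ1 (by rw [hγt, zero_mul])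
  have mult : ∀ c t, γ (c * t) * γ 1 = γ c * γ t := by
    intro c t
    obtain ⟨c', hc'⟩ := rel c
    have h1 := hc' 1
    rw [mul_one] at h1
    rw [hc', h1, hγt 1, hγt t]
    ring
  have hαt : ∀ t, α t = c₁⁻¹ * γ t := fun t => by rw [hγt]; field_simp
  -- the torus element
  obtain ⟨μ, hμ, hμ2⟩ := exists_mu (F := F) h.q4
  have hμμ : γ μ * γ μ⁻¹ = γ 1 * γ 1 := by rw [← mult, mul_inv_cancel₀ hμ]
  have hγμ : γ μ ≠ 0 := fun h0 => by
    rw [h0, zero_mul] at hμμ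
    exact hγ1 (mul_self_eq_zero.1 hμμ.symm)
  have hν : γ μ / γ 1 ≠ 0 := div_ne_zero hγμ hγ1
  set ν := γ μ / γ 1 with hνdef
  have hνi : ν⁻¹ = γ μ⁻¹ / γ 1 := by
    rw [hνdef, inv_div, div_eq_div_iff hγμ hγ1, ← hμμ, mul_comm]
  have hγμt : ∀ t, γ (μ * t) = ν * γ t := fun t => by
    have h2 : γ (μ * t) = γ μ * γ t / γ 1 := eq_div_of_mul_eq hγ1 (mult _ _)
    rw [h2, hνdef]; ring
  have hαμt : ∀ t, α (μ⁻¹ * t) = ν⁻¹ * α t := fun t => by
    have h2 : γ (μ⁻¹ * t) = γ μ⁻¹ * γ t / γ 1 := eq_div_of_mul_eq hγ1 (mult _ _)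
    rw [hνi, hαt, hαt t, h2]; ring
  obtain ⟨d, hd, hdv⟩ := exists_single O i (dg μ hμ)
  obtain ⟨δ, hδ, hδv⟩ := exists_single O l (dg ν hν)
  have hδi : ∀ u ∈ V, δ⁻¹ * u * δ ∈ V ∧ (∀ m, m ≠ l → M.e (δ⁻¹ * u * δ) m = M.e u m) ∧
      M.e (δ⁻¹ * u * δ) l 0 = ν⁻¹ * M.e u l 0 ∧ M.e (δ⁻¹ * u * δ) l 1 = ν * M.e u l 1 := by
    intro u hu
    have h1 := O.Vn _ (inv_mem hδ) u hu
    rw [inv_inv] at h1
    have h2 := hδv _ h1
    have e : δ * (δ⁻¹ * u * δ) * δ⁻¹ = u := by group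
    rw [e] at h2
    refine ⟨h1, fun m hm => (h2.2.1 m hm).symm, ?_, ?_⟩
    · rw [h2.2.2, ap_zero', dg_00, dg_01]; field_simp; ring
    · rw [h2.2.2, ap_one', dg_10, dg_11]; field_simp; ring
  -- `E = n d n⁻¹`
  obtain ⟨E, hE⟩ : ∃ E, E = n * d * n⁻¹ := ⟨_, rfl⟩
  have hEconj : ∀ u, E * (n * u * n⁻¹) * E⁻¹ = n * (d * u * d⁻¹) * n⁻¹ := fun u => by rw [hE]; group
  have hEV : E ∈ normalizer (V : Set G) := by
    rw [hE]
    have hnV := h.norm_le hn
    exact mul_mem (mul_mem hnV (O.HV hd)) (inv_mem hnV)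
  have hEV' : ∀ u ∈ V, E * u * E⁻¹ ∈ V := fun u hu => (mem_normalizer_iff.1 hEV u).1 hu
  have hd1 : ∀ j, j ≠ i → ∀ u ∈ comp M j, d * u * d⁻¹ = u := by
    intro j hj u hu
    refine O.inj _ (hdv u hu.1).1 _ hu.1 (funext fun m => ?_)
    by_cases hm : m = i
    · subst hm
      rw [(hdv u hu.1).2.2, hu.2 m (Ne.symm hj)]
      exact ext2 (by rw [ap_zero']; simp) (by rw [ap_one']; simp)
    · exact (hdv u hu.1).2.1 m hm
  have hdi : ∀ u ∈ comp M i, d * u * d⁻¹ ∈ comp M i := fun u hu =>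
    ⟨(hdv u hu.1).1, fun m hm => by rw [(hdv u hu.1).2.1 m hm]; exact hu.2 m hm⟩
  -- (D1)
  let K1 : Subgroup G :=
    { carrier := {w | w ∈ V ∧ (∀ m, m ≠ l → M.e (E * w * E⁻¹) m 1 = M.e w m 1) ∧
        M.e (E * w * E⁻¹) l 1 = ν⁻¹ * M.e w l 1}
      mul_mem' := by
        rintro a b ⟨ha, ha', ha''⟩ ⟨hb, hb', hb''⟩
        have e : E * (a * b) * E⁻¹ = (E * a * E⁻¹) * (E * b * E⁻¹) := by group
        refine ⟨mul_mem ha hb, fun m hm => ?_, ?_⟩
        · rw [e, M.mul _ (hEV' a ha) _ (hEV' b hb), M.mul a ha b hb, Pi.add_apply, Pi.add_apply, Pi.add_apply,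
            Pi.add_apply, ha' m hm, hb' m hm]
        · rw [e, M.mul _ (hEV' a ha) _ (hEV' b hb), M.mul a ha b hb, Pi.add_apply, Pi.add_apply, Pi.add_apply,
            Pi.add_apply, ha'', hb'']
          ring
      one_mem' := ⟨one_mem _, fun m _ => by simp, by simp [e_one]⟩
      inv_mem' := by
        rintro a ⟨ha, ha', ha''⟩
        have e : E * a⁻¹ * E⁻¹ = (E * a * E⁻¹)⁻¹ := by group
        refine ⟨inv_mem ha, fun m hm => ?_, ?_⟩
        · rw [e, e_inv M (hEV' a ha), e_inv M ha, Pi.neg_apply, Pi.neg_apply, Pi.neg_apply, Pi.neg_apply, ha' m hm]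
        · rw [e, e_inv M (hEV' a ha), e_inv M ha, Pi.neg_apply, Pi.neg_apply, Pi.neg_apply, Pi.neg_apply, ha'']
          ring }
  have hK1 : V ≤ K1 := by
    have h1 : V ≤ cj n⁻¹ K1 := V_le_of M O.inj fun j u hu => by
      rw [mem_cj, inv_inv]
      refine ⟨nV' u hu.1, ?_⟩
      by_cases hj : j = i
      · subst hj
        refine ⟨fun m hm => ?_, ?_⟩
        · rw [hEconj, hπ2 _ _ (hdi u hu) m hm, hπ2 _ _ hu m hm]
        · rw [hEconj, hαu _ (hdi u hu), hαu u hu, (hdv u hu.1).2.2, ap_one', dg_10, dg_11, zero_mul, zero_add,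
            hαμt]
      · refine ⟨fun m _ => by rw [hEconj, hd1 j hj u hu], ?_⟩
        rw [hEconj, hd1 j hj u hu, hπ2 j u hu l (fun hc => hj (hπi (hl ▸ hc)).symm), mul_zero]
    have h2 := cj_mono n h1
    rwa [cj_cj_inv, h.lemU hn] at h2
  -- (D2)
  let K2 : Subgroup G :=
    { carrier := {w | w ∈ V ∧ (∀ m, m ≠ l → M.e (E * w * E⁻¹) m 0 = M.e w m 0) ∧
        M.e (E * w * E⁻¹) l 0 = ν * M.e w l 0}
      mul_mem' := by
        rintro a b ⟨ha, ha', ha''⟩ ⟨hb, hb', hb''⟩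
        have e : E * (a * b) * E⁻¹ = (E * a * E⁻¹) * (E * b * E⁻¹) := by group
        refine ⟨mul_mem ha hb, fun m hm => ?_, ?_⟩
        · rw [e, M.mul _ (hEV' a ha) _ (hEV' b hb), M.mul a ha b hb, Pi.add_apply, Pi.add_apply, Pi.add_apply,
            Pi.add_apply, ha' m hm, hb' m hm]
        · rw [e, M.mul _ (hEV' a ha) _ (hEV' b hb), M.mul a ha b hb, Pi.add_apply, Pi.add_apply, Pi.add_apply,
            Pi.add_apply, ha'', hb'']
          ring
      one_mem' := ⟨one_mem _, fun m _ => by simp, by simp [e_one]⟩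
      inv_mem' := by
        rintro a ⟨ha, ha', ha''⟩
        have e : E * a⁻¹ * E⁻¹ = (E * a * E⁻¹)⁻¹ := by group
        refine ⟨inv_mem ha, fun m hm => ?_, ?_⟩
        · rw [e, e_inv M (hEV' a ha), e_inv M ha, Pi.neg_apply, Pi.neg_apply, Pi.neg_apply, Pi.neg_apply, ha' m hm]
        · rw [e, e_inv M (hEV' a ha), e_inv M ha, Pi.neg_apply, Pi.neg_apply, Pi.neg_apply, Pi.neg_apply, ha'']
          ring }
  have hK2 : zj T ≤ K2 := by
    have h1 : zj T ≤ cj n⁻¹ K2 := zj_le_of O fun j u hu => by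
      rw [mem_cj, inv_inv]
      refine ⟨nV' u hu.1.1, ?_⟩
      by_cases hj : j = i
      · subst hj
        have hdu : d * u * d⁻¹ ∈ zcomp M j := ⟨hdi u hu.1, by
          rw [(hdv u hu.1.1).2.2, ap_one', dg_10, dg_11, hu.2]; ring⟩
        refine ⟨fun m hm => ?_, ?_⟩
        · rw [hEconj, (nzc _ _ hdu).1.2 m hm, (nzc _ _ hu).1.2 m hm]
        · rw [hEconj, hγu _ hdu, hγu u hu, (hdv u hu.1.1).2.2, ap_zero', dg_00, dg_01, zero_mul, add_zero, hγμt]
      · refine ⟨fun m _ => by rw [hEconj, hd1 j hj u hu.1], ?_⟩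
        rw [hEconj, hd1 j hj u hu.1, (nzc j u hu).1.2 l (fun hc => hj (hπi (hl ▸ hc)).symm)]
        simp
    have h2 := cj_mono n h1
    rwa [cj_cj_inv, nZ hn] at h2
  -- `f = δ⁻¹ E`
  have hfconj : ∀ w, δ⁻¹ * E * w * (δ⁻¹ * E)⁻¹ = δ⁻¹ * (E * w * E⁻¹) * δ := fun w => by group
  obtain ⟨c, hc⟩ := exists_bau O hS (f := δ⁻¹ * E) (mul_mem (inv_mem (O.HV hδ)) hEV) (fun w hw m => by
    rw [hfconj]
    have h1 := hδi _ (hEV' w hw)
    by_cases hm : m = l
    · subst hm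
      rw [h1.2.2.2, (hK1 hw).2.2]; field_simp
    · rw [h1.2.1 m hm, (hK1 hw).2.1 m hm]) (mem_centralizer_iff.2 fun w hw => by
    obtain ⟨hwV, hw1⟩ := (O.mem_zj w).1 hw
    have h1 := hδi _ (hEV' w hwV)
    have h2 : δ⁻¹ * E * w * (δ⁻¹ * E)⁻¹ = w := by
      rw [hfconj]
      refine O.ext h1.1 hwV (fun m => ?_) fun m => ?_
      · by_cases hm : m = l
        · subst hm
          rw [h1.2.2.1, (hK2 hw).2.2]; field_simp
        · rw [h1.2.1 m hm, (hK2 hw).2.1 m hm]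
      · by_cases hm : m = l
        · subst hm
          rw [h1.2.2.2, (hK1 hwV).2.2]; field_simp
        · rw [h1.2.1 m hm, (hK1 hwV).2.1 m hm]
    have h3 := congrArg (fun t => t * (δ⁻¹ * E)) h2
    simpa [mul_assoc] using h3.symm)
  -- `E` acts on the other components like `up (c m)`, so `E²` trivially
  have hE0 : ∀ w ∈ V, ∀ m, m ≠ l → M.e (E * w * E⁻¹) m 0 = M.e w m 0 + c m * M.e w m 1 := by
    intro w hw m hm
    rw [← hc w hw m, hfconj, (hδi _ (hEV' w hw)).2.1 m hm]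
  have hE2 : ∀ w ∈ V, ∀ m, m ≠ l → M.e (E * (E * w * E⁻¹) * E⁻¹) m = M.e w m := by
    intro w hw m hm
    refine ext2 ?_ ?_
    · rw [hE0 _ (hEV' w hw) m hm, hE0 w hw m hm, (hK1 hw).2.1 m hm, add_assoc, CharTwo.add_self_eq_zero, add_zero]
    · rw [(hK1 (hEV' w hw)).2.1 m hm, (hK1 hw).2.1 m hm]
  -- the end
  rintro _ ⟨x, hx, rfl⟩
  have hμi : (μ⁻¹) ^ 2 ≠ 1 := by
    intro h1
    apply hμ2
    rw [inv_pow, inv_eq_one] at h1
    exact h1
  obtain ⟨u, hu, eu⟩ := exists_comp M i ![M.e x i 0 / (1 - μ ^ 2), M.e x i 1 / (1 - (μ⁻¹) ^ 2)]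
  have hne1 : (1 : F) - μ ^ 2 ≠ 0 := fun h1 => hμ2 (sub_eq_zero.1 h1).symm
  have hne2 : (1 : F) - (μ⁻¹) ^ 2 ≠ 0 := fun h1 => hμi (sub_eq_zero.1 h1).symm
  have hdu := hdi u hu
  have hddu := hdi _ hdu
  have hx' : x = u * (d * (d * u * d⁻¹) * d⁻¹)⁻¹ := by
    refine O.inj _ hx.1 _ (mul_mem hu.1 (inv_mem hddu.1)) (funext fun m => ?_)
    rw [M.mul _ hu.1 _ (inv_mem hddu.1), e_inv M hddu.1, Pi.add_apply, Pi.neg_apply]
    by_cases hm : m = i
    · subst hm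
      rw [(hdv _ hdu.1).2.2, (hdv u hu.1).2.2, eu]
      refine ext2 ?_ ?_
      · rw [Pi.add_apply, Pi.neg_apply, ap_zero', ap_zero', dg_00, dg_01]
        simp only [Matrix.cons_val_zero]
        field_simp
        ring
      · rw [Pi.add_apply, Pi.neg_apply, ap_one', ap_one', dg_10, dg_11]
        simp only [Matrix.cons_val_one, Matrix.cons_val_zero]
        rw [zero_mul, zero_mul, zero_add, zero_add]
        have : M.e x m 1 = (M.e x m 1 / (1 - (μ⁻¹) ^ 2)) * (1 - (μ⁻¹) ^ 2) := (div_mul_cancel₀ _ hne2).symm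
        conv_lhs => rw [this]
        ring
    · rw [hx.2 m hm, hu.2 m hm, hddu.2 m hm]; simp
  have hxn : n * x * n⁻¹ = (n * u * n⁻¹) * (E * (E * (n * u * n⁻¹) * E⁻¹) * E⁻¹)⁻¹ := by
    rw [hEconj, hEconj]
    conv_lhs => rw [hx']
    group
  show n * x * n⁻¹ ∈ comp M l
  have hw := nV' u hu.1
  rw [hxn]
  refine ⟨mul_mem hw (inv_mem (hEV' _ (hEV' _ hw))), fun m hm => ?_⟩
  rw [M.mul _ hw _ (inv_mem (hEV' _ (hEV' _ hw))), e_inv M (hEV' _ (hEV' _ hw)), Pi.add_apply, Pi.neg_apply,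
    hE2 _ hw m hm, add_neg_cancel]

end Sit

end Cfsg.Agent.Omega.OM.ThreeLem
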